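import Cfsg.Agent.Lib.RankOneIdent.PSU3.Stable

/-!
# The unitary case: the map `f` is `(x, y) ↦ (x / y, 1 / y)`
-/

set_option autoImplicit false
set_option linter.unusedSectionVars false
set_option linter.style.haveILetI false

namespace Cfsg.Agent.Lib.RankOneIdent.PSU3

open Cfsg.Agent.Lib.RankOne.Involution Cfsg.Agent.Lib.RankOne.Basic MulAction
open Cfsg.Agent.Lib.BenderSuzuki Cfsg.Agent.Lib.Unitary Cfsg.Agent.Lib.U3Sylow

variable {G Ω : Type*} [Group G] [MulAction G Ω] [Finite G] {a : Ω} {t : G} {Q : Subgroup G} {F : Type}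
  [Field F] [Fintype F] {n : ℕ} {c : G → F × F}

namespace UNorm

variable (U : UNorm G Ω a t Q F n c)
include U

theorem dlt_pow (i : ℕ) {A : F} (hA : A ≠ 0) : U.dlt (U.mU ^ i * A) = U.dlt A := by
  induction i with
  | zero => rw [pow_zero, one_mul]
  | succ i ih =>
    rw [pow_succ', mul_assoc, U.dlt_mU (mul_ne_zero (pow_ne_zero i U.toUData.mU_ne_zero) hA), ih]

/-- A square root in the norm-one circle. -/
def sr (_U : UNorm G Ω a t Q F n c) (r : F) : F := r ^ (2 ^ (n - 1) + 1)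

theorem sr_sq {r : F} (hr : r * r ^ 2 ^ n = 1) : U.sr r * U.sr r = r := by
  have hn : n - 1 + 1 = n := by have := U.toUData.two_le; omega
  rw [sr, ← pow_add, show 2 ^ (n - 1) + 1 + (2 ^ (n - 1) + 1) = 2 ^ n + 1 + 1 by
    rw [← hn, pow_succ, Nat.add_sub_cancel]; ring, pow_succ, pow_succ', hr, one_mul]

theorem sr_norm {r : F} (hr : r * r ^ 2 ^ n = 1) : U.sr r * U.sr r ^ 2 ^ n = 1 := by
  rw [sr, ← pow_mul, mul_comm (2 ^ (n - 1) + 1), pow_mul, ← mul_pow, hr, one_pow]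

theorem sr_mul (r r' : F) : U.sr (r * r') = U.sr r * U.sr r' := mul_pow r r' _

theorem norm_bar {r : F} (hr : r * r ^ 2 ^ n = 1) : r ^ 2 ^ n * (r ^ 2 ^ n) ^ 2 ^ n = 1 := by
  rw [U.bar_bar, mul_comm, hr]

theorem norm_mul_norm {r r' : F} (hr : r * r ^ 2 ^ n = 1) (hr' : r' * r' ^ 2 ^ n = 1) :
    r * r' * (r * r') ^ 2 ^ n = 1 := by
  rw [mul_pow, mul_mul_mul_comm, hr, hr', mul_one]

theorem mU_pow_norm (i : ℕ) : U.mU ^ i * (U.mU ^ i) ^ 2 ^ n = 1 := by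
  rw [← pow_mul, mul_comm i, pow_mul, ← mul_pow, U.toUData.mU_norm, one_pow]

theorem norm_one_fixed {r : F} (hr : r * r ^ 2 ^ n = 1) (hf : r ^ 2 ^ n = r) : r = 1 :=
  U.eq_one_of_sq (by rw [sq]; nth_rewrite 2 [← hf]; exact hr)

theorem trace_ne_zero {r : F} (hr : r * r ^ 2 ^ n = 1) (h1 : r ≠ 1) : r + r ^ 2 ^ n ≠ 0 := fun h =>
  h1 (U.norm_one_fixed hr (U.toUData.add_eq_zero'.1 h).symm)

theorem dlt_mid {r A : F} (hr : r * r ^ 2 ^ n = 1) (h1 : r ≠ 1) (hA : A ≠ 0) :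
    U.dlt (A * (1 + r)) = U.dlt (U.sr r * A) := by
  have hσ := U.sr_norm hr
  have hσ2 := U.sr_sq hr
  set σ := U.sr r with hσdef
  have hl : (σ + σ ^ 2 ^ n) ^ 2 ^ n = σ + σ ^ 2 ^ n := by rw [U.bar_add, U.bar_bar, add_comm]
  have hl0 : σ + σ ^ 2 ^ n ≠ 0 :=
    U.trace_ne_zero hσ fun e => h1 (by rw [← hσ2, e, mul_one])
  rw [← U.dlt_smul hl hl0 (mul_ne_zero (left_ne_zero_of_mul_eq_one hσ) hA)]
  congr 1
  linear_combination -A * hσ2 - A * hσ

theorem mid_ne {r A : F} (h1 : r ≠ 1) (hA : A ≠ 0) : A + r * A ≠ 0 := fun h =>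
  h1 ((mul_eq_right₀ hA).1 (U.toUData.add_eq_zero'.1 h).symm)

theorem chord_mem_translate {g : G} (y : Q) {p : Ω} (hp : p ∈ U.chord g) :
    ((y⁻¹ : Q) : G) • p ∈ U.chord (((y⁻¹ : Q) : G) * g) := U.smul_mem_chord.2 hp

theorem translate_spec {g : G} (ha : a ∉ U.chord g) {y : Q} (hy : U.pt y ∈ U.chord g) :
    t • a ∈ U.chord (((y⁻¹ : Q) : G) * g) ∧ a ∉ U.chord (((y⁻¹ : Q) : G) * g) :=
  ⟨(U.mem_smul_chord (by rw [U.smul_pt, inv_mul_cancel, U.pt_one])).2 hy,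
    fun h => ha ((U.mem_smul_chord (Q_fix U.setup (y⁻¹ : Q).2)).1 h)⟩

theorem xC_ne_of_chord {g : G} (ha : a ∉ U.chord g) {y y' : Q} (hy : U.pt y ∈ U.chord g)
    (hy' : U.pt y' ∈ U.chord g) (hne : y' ≠ y) : U.xC y' ≠ U.xC y := by
  intro h
  obtain ⟨hb, ha'⟩ := U.translate_spec ha hy
  have hq : U.pt (y⁻¹ * y') ∈ U.chord (((y⁻¹ : Q) : G) * g) := by
    rw [← U.smul_pt]; exact U.chord_mem_translate y hy'
  have hqB : U.pt (y⁻¹ * y') ∈ U.chordB :=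
    U.pt_mem_B.2 (by rw [U.xC_mul, U.xC_inv, h, U.toUData.add_self'])
  have hne1 : U.pt (y⁻¹ * y') ≠ t • a := fun e => hne (by
    rw [← U.pt_one] at e
    have := U.pt_injective e
    rw [inv_mul_eq_one] at this
    exact this.symm)
  have heq := U.chord_eq (g' := 1) hne1 hq hb (by rw [U.chord_one]; exact hqB)
    (by rw [U.chord_one, ← U.pt_one]; exact U.pt_mem_B.2 U.toUData.xC_one)
  rw [U.chord_one] at heq
  exact ha' (heq ▸ Or.inl rfl)

/-- The image under `t` of a chord through `b` has constant first coordinate. -/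
theorem exists_image_const {g : G} (ha : a ∉ U.chord g) {y : Q} (hy : U.pt y ∈ U.chord g) :
    ∃ A₀ : F, A₀ ≠ 0 ∧ ∀ y' : Q, U.pt y' ∈ U.chord g → y' ≠ y →
      U.xC (fmap U.setup (y⁻¹ * y')) = A₀ := by
  obtain ⟨hb, ha'⟩ := U.translate_spec ha hy
  obtain ⟨x₀, hx₀, he⟩ := U.exists_tx hb ha'
  refine ⟨U.xC x₀, hx₀, fun y' hy' hne => ?_⟩
  have hq : U.pt (y⁻¹ * y') ∈ U.chord (t * (x₀ : G)) := by
    rw [← he, ← U.smul_pt]; exact U.chord_mem_translate y hy'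
  have hq1 : y⁻¹ * y' ≠ 1 := fun e => hne (inv_mul_eq_one.1 e).symm
  have h1 : U.pt (fmap U.setup (y⁻¹ * y')) ∈ U.chord (x₀ : G) := by
    refine (U.mem_smul_chord (g := (x₀ : G)) (h := t) ?_).1 hq
    rw [← U.t_pt hq1, tt_smul U.setup]
  rw [U.mem_chord, ← Subgroup.coe_inv, U.smul_pt, U.pt_mem_B, U.xC_mul, U.xC_inv] at h1
  exact (U.toUData.add_eq_zero'.1 h1).symm

/-- The equation satisfied along a stable chord. -/
theorem chord_relation {g : G} (ha : a ∉ U.chord g) {y : Q} (hy : U.xC y ≠ 0) (hyc : U.pt y ∈ U.chord g)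
    (hom : ∀ p ∈ U.chord g, ∃ x : Q, U.pt x = p ∧ U.xC x ≠ 0 ∧ U.om x = U.om y) :
    ∃ s : F, s ≠ 0 ∧ ∀ y' : Q, U.pt y' ∈ U.chord g → y' ≠ y →
      U.xC y + U.xC y' ≠ 0 ∧ U.xC y' ≠ 0 ∧ U.om y' = U.om y ∧
      U.yC (y⁻¹ * y') = (1 + U.dlt (U.xC y)) * (U.xC y * U.xC y ^ 2 ^ n) +
        U.dlt (U.xC y') * (U.xC y' * U.xC y' ^ 2 ^ n) + U.xC y ^ 2 ^ n * U.xC y' ∧
      s * (U.om (y⁻¹ * y') * U.om (y⁻¹ * y') ^ 2 ^ n) =
        (1 + U.dlt (U.xC y + U.xC y') + U.dlt (U.xC y + U.xC y') ^ 2 ^ n) *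
          ((U.xC y + U.xC y') * (U.xC y + U.xC y') ^ 2 ^ n) := by
  obtain ⟨A₀, hA₀, hconst⟩ := U.exists_image_const ha hyc
  set s := (1 + U.dlt A₀ + U.dlt A₀ ^ 2 ^ n) * (A₀ * A₀ ^ 2 ^ n) with hs
  have hs0 : s ≠ 0 := by
    obtain ⟨x₀, hx₀⟩ := U.toUData.exists_above A₀
    have hx : U.xC x₀ ≠ 0 := by rw [hx₀]; exact hA₀
    rw [hs, ← hx₀, ← U.trace_om hx]
    exact fun h => U.om_NF hx (U.toUData.add_eq_zero'.1 h).symm
  refine ⟨s, hs0, fun y' hy' hne => ?_⟩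
  have hsum : U.xC y + U.xC y' ≠ 0 := fun h =>
    U.xC_ne_of_chord ha hyc hy' hne (U.toUData.add_eq_zero'.1 h).symm
  obtain ⟨x, hx, hx0, hxom⟩ := hom _ hy'
  obtain rfl := U.pt_injective hx
  set q := y⁻¹ * x with hq
  have hqa : U.xC q = U.xC y + U.xC x := by rw [hq, U.xC_mul, U.xC_inv]
  have hq0 : U.xC q ≠ 0 := by rw [hqa]; exact hsum
  refine ⟨hsum, hx0, hxom, ?_, ?_⟩
  · have e1 := U.om_eq_dlt hy
    have e2 := U.om_eq_dlt hx0
    rw [hxom] at e2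
    rw [hq, U.yC_mul, U.yC_inv, U.xC_inv, U.bar_yC]
    linear_combination e1 - e2 + (U.yC y - U.dlt (U.xC x) * (U.xC x * U.xC x ^ 2 ^ n)) * U.toUData.two_zero
  · have h1 := U.trace_om (U.xC_fmap_ne hq0)
    rw [hconst x hy' hne, U.om_fmap hq0, ← hs] at h1
    have h2 := U.trace_om hq0
    rw [hqa] at h2
    have hn0 := U.NF_ne_zero (U.om_NF hq0)
    rw [← h1, ← h2, inv_pow]
    field_simp
    ring

theorem pt_wEl_pow_mem {g : G} (hw : U.chord (U.wEl * g) = U.chord g) {y : Q} (hy : U.pt y ∈ U.chord g)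
    (i : ℕ) : U.pt (conjQ U.setup ((twoStab G a t).pow_mem U.wEl_D i) y) ∈ U.chord g := by
  rw [← U.D_pt]
  induction i with
  | zero => rwa [pow_zero, one_smul]
  | succ i ih => rw [pow_succ', mul_smul]; exact U.wEl_maps hw ih

theorem dlt_real {A : F} (hA : A ≠ 0) : U.dlt A ^ 2 ^ n = U.dlt A := by
  obtain ⟨y, rfl⟩ := U.toUData.exists_above A
  obtain ⟨g, hyc, ha, hw, hom⟩ := U.exists_om_chord hA
  obtain ⟨s, hs, hrel⟩ := U.chord_relation ha hA hyc hom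
  set d := U.dlt (U.xC y) with hd
  set N := U.xC y * U.xC y ^ 2 ^ n with hN
  have h2 := U.toUData.two_zero
  have key : ∀ i : ℕ, U.mU ^ i ≠ 1 →
      s * N * ((1 + U.mU ^ i + d * (U.mU ^ i + (U.mU ^ i) ^ 2 ^ n)) *
        (1 + U.mU ^ i + d * (U.mU ^ i + (U.mU ^ i) ^ 2 ^ n)) ^ 2 ^ n) =
      (1 + d + d ^ 2 ^ n) * (U.mU ^ i + (U.mU ^ i) ^ 2 ^ n) := by
    intro i hi
    set μ := U.mU ^ i with hμ
    have hμn : μ * μ ^ 2 ^ n = 1 := U.mU_pow_norm i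
    obtain ⟨e1, e2⟩ := U.coord_wEl_pow i y
    set y' := conjQ U.setup ((twoStab G a t).pow_mem U.wEl_D i) y with hy'
    have hne : y' ≠ y := fun e => hi ((mul_eq_right₀ hA).1 (by rw [← e1, e]))
    obtain ⟨hsum, hy'0, -, hb, hq⟩ := hrel y' (U.pt_wEl_pow_mem hw hyc i) hne
    rw [e1, U.dlt_pow i hA] at hb
    have hA' : U.xC y + U.xC y' = U.xC y * (1 + μ) := by rw [e1]; ring
    have hmid : U.dlt (U.xC y + U.xC y') = d := by
      rw [hA', U.dlt_mid hμn hi hA, sr, hμ, ← pow_mul, U.dlt_pow _ hA]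
    have hμN : μ * U.xC y * (μ * U.xC y) ^ 2 ^ n = N := by
      rw [mul_pow, mul_mul_mul_comm, hμn, one_mul]
    rw [hμN] at hb
    have hq0 : U.xC (y⁻¹ * y') ≠ 0 := by rwa [U.xC_mul, U.xC_inv]
    have hom' : U.om (y⁻¹ * y') = N * (1 + μ + d * (μ + μ ^ 2 ^ n)) := by
      rw [U.om_eq_dlt hq0, U.xC_mul, U.xC_inv, hmid, hb, hA', hN, mul_pow, U.bar_add, one_pow]
      linear_combination (d * (U.xC y * U.xC y ^ 2 ^ n)) * hμn +
        (2 * d * (U.xC y * U.xC y ^ 2 ^ n)) * h2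
    rw [hmid, hom', hA', mul_pow (U.xC y) (1 + μ), U.bar_add 1 μ, one_pow, mul_pow N,
      show N ^ 2 ^ n = N from by rw [hN, mul_pow, U.bar_bar, mul_comm]] at hq
    have hN0 : N ≠ 0 := U.toUData.norm_ne_zero hA
    refine mul_left_cancel₀ hN0 ?_
    linear_combination hq + (1 + d + d ^ 2 ^ n) * (U.xC y * U.xC y ^ 2 ^ n) * hμn +
      ((1 + d + d ^ 2 ^ n) * (U.xC y * U.xC y ^ 2 ^ n)) * h2
  have hm := key 1 (by rw [pow_one]; exact U.toUData.mU_ne_one)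
  have hmb := key (2 ^ n) (fun e => U.toUData.mU_ne_one (by
    have h := U.toUData.mU_norm; rwa [e, mul_one] at h))
  rw [pow_one] at hm
  set v := U.mU + U.mU ^ 2 ^ n with hv
  rw [U.bar_bar, add_comm (U.mU ^ 2 ^ n) U.mU, ← hv] at hmb
  have hv0 : v ≠ 0 := U.trace_ne_zero U.toUData.mU_norm U.toUData.mU_ne_one
  have hvf : v ^ 2 ^ n = v := by rw [hv, U.bar_add, U.bar_bar, add_comm]
  simp only [U.bar_add, one_pow, mul_pow, hvf, U.bar_bar] at hm hmb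
  have hsN : s * N ≠ 0 := mul_ne_zero hs (U.toUData.norm_ne_zero hA)
  have e := mul_left_cancel₀ hsN (hm.trans hmb.symm)
  have e3 : v * v * (d + d ^ 2 ^ n) = 0 := by
    linear_combination e + (U.mU ^ 2 ^ n * d * v + U.mU * d ^ 2 ^ n * v + (d - d ^ 2 ^ n) * (U.mU ^ 2 - (U.mU ^ 2 ^ n) ^ 2)) * h2 + (v * (d + d ^ 2 ^ n)) * hv
  exact (U.toUData.add_eq_zero'.1 ((mul_eq_zero.1 e3).resolve_left (mul_ne_zero hv0 hv0))).symm

theorem trace_om' {x : Q} (hx : U.xC x ≠ 0) :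
    U.om x + U.om x ^ 2 ^ n = U.xC x * U.xC x ^ 2 ^ n := by
  rw [U.trace_om hx, U.dlt_real hx, add_assoc, U.toUData.add_self', add_zero, one_mul]

/-- Every first coordinate of the norm of `xC y` occurs on the stable chord of `y`. -/
theorem exists_on_chord {g : G} (ha : a ∉ U.chord g) {y : Q} (hy : U.xC y ≠ 0)
    (hom : ∀ p ∈ U.chord g, ∃ x : Q, U.pt x = p ∧ U.xC x ≠ 0 ∧ U.om x = U.om y) {r : F}
    (hr : r * r ^ 2 ^ n = 1) : ∃ x : Q, U.pt x ∈ U.chord g ∧ U.xC x = r * U.xC y := by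
  classical
  haveI := U.finite_Omega
  choose xf hxf hxf0 hxfom using fun p : U.chord g => hom p p.2
  have hN : ∀ p, U.xC (xf p) * U.xC (xf p) ^ 2 ^ n = U.xC y * U.xC y ^ 2 ^ n := fun p => by
    rw [← U.trace_om' (hxf0 p), ← U.trace_om' hy, hxfom p]
  let f : U.chord g → {r : F // r ^ (2 ^ n + 1) = 1} := fun p => ⟨U.xC (xf p) / U.xC y, by
    rw [pow_succ', div_pow, div_mul_div_comm, hN p, div_self (U.toUData.norm_ne_zero hy)]⟩
  have hinj : Function.Injective f := by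
    intro p p' h
    have h' : U.xC (xf p) = U.xC (xf p') := by
      have := congrArg Subtype.val h
      simpa [f, div_left_inj' hy] using this
    by_contra hne
    refine U.xC_ne_of_chord ha (y := xf p) (y' := xf p') (by rw [hxf]; exact p.2) (by rw [hxf]; exact p'.2)
      (fun e => hne (Subtype.ext ?_)) h'.symm
    rw [← hxf p, ← hxf p', e]
  obtain ⟨p, hp⟩ := ((Nat.bijective_iff_injective_and_card f).2
    ⟨hinj, (U.card_chord g).trans (card_norm_one U.hF).symm⟩).2 ⟨r, by rw [pow_succ']; exact hr⟩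
  refine ⟨xf p, by rw [hxf]; exact p.2, ?_⟩
  have := congrArg Subtype.val hp
  exact (div_eq_iff hy).1 this

/-- The quadratic equation along a stable chord. -/
theorem quad {A : F} (hA : A ≠ 0) :
    ∃ κ : F, ∀ r : F, r * r ^ 2 ^ n = 1 → r ≠ 1 →
      ((1 + U.dlt A + U.dlt (r * A)) ^ 2 + 1) +
        (U.dlt (U.sr r * A) ^ 2 + U.dlt (U.sr r * A)) * (r + r ^ 2 ^ n) ^ 2 +
        ((1 + U.dlt A + U.dlt (r * A)) + κ) * (r + r ^ 2 ^ n) = 0 := by
  obtain ⟨y, rfl⟩ := U.toUData.exists_above A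
  obtain ⟨g, hyc, ha, hw, hom⟩ := U.exists_om_chord hA
  obtain ⟨s, hs, hrel⟩ := U.chord_relation ha hA hyc hom
  set N := U.xC y * U.xC y ^ 2 ^ n with hN
  have hN0 : N ≠ 0 := U.toUData.norm_ne_zero hA
  have hNf : N ^ 2 ^ n = N := by rw [hN, mul_pow, U.bar_bar, mul_comm]
  refine ⟨(s * N)⁻¹, fun r hr hr1 => ?_⟩
  obtain ⟨y', hy'c, hy'⟩ := U.exists_on_chord ha hA hom hr
  have hne : y' ≠ y := fun e => hr1 ((mul_eq_right₀ hA).1 (by rw [← hy', e]))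
  obtain ⟨hsum, hy'0, -, hb, hq⟩ := hrel y' hy'c hne
  have hA' : U.xC y + U.xC y' = U.xC y * (1 + r) := by rw [hy']; ring
  have hσA : U.sr r * U.xC y ≠ 0 := mul_ne_zero (left_ne_zero_of_mul_eq_one (U.sr_norm hr)) hA
  set e := U.dlt (U.sr r * U.xC y) with he
  have hef : e ^ 2 ^ n = e := U.dlt_real hσA
  set d' := U.dlt (r * U.xC y) with hd'
  have hd'f : d' ^ 2 ^ n = d' := U.dlt_real (mul_ne_zero (left_ne_zero_of_mul_eq_one hr) hA)
  set d := U.dlt (U.xC y) with hd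
  have hdf : d ^ 2 ^ n = d := U.dlt_real hA
  have hmid : U.dlt (U.xC y + U.xC y') = e := by rw [hA', U.dlt_mid hr hr1 hA]
  have hrN : r * U.xC y * (r * U.xC y) ^ 2 ^ n = N := by rw [mul_pow, mul_mul_mul_comm, hr, one_mul]
  rw [hy', hrN] at hb
  have h2 := U.toUData.two_zero
  have hq0 : U.xC (y⁻¹ * y') ≠ 0 := by rwa [U.xC_mul, U.xC_inv]
  set v := r + r ^ 2 ^ n with hv
  have hvf : v ^ 2 ^ n = v := by rw [hv, U.bar_add, U.bar_bar, add_comm]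
  have hom' : U.om (y⁻¹ * y') = N * (1 + d + d' + r + e * v) := by
    rw [U.om_eq_dlt hq0, U.xC_mul, U.xC_inv, hmid, hb, hA', hN, hv, mul_pow, U.bar_add, one_pow]
    linear_combination (e * (U.xC y * U.xC y ^ 2 ^ n)) * hr + (e * (U.xC y * U.xC y ^ 2 ^ n)) * h2
  rw [hmid, hef, add_assoc 1 e e, U.toUData.add_self', add_zero, one_mul, hom', hA',
    mul_pow (U.xC y) (1 + r), mul_pow N, U.bar_add (1 + d + d' + r), U.bar_add (1 + d + d'),
    U.bar_add (1 + d), U.bar_add 1 d, U.bar_add 1 r, mul_pow e, one_pow, hdf, hd'f, hef, hvf, hNf] at hq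
  have hkey : s * N * ((1 + d + d' + r + e * v) * (1 + d + d' + r ^ 2 ^ n + e * v)) = v := by
    refine mul_left_cancel₀ hN0 ?_
    linear_combination hq + N * hr + N * h2 + (1 + r + r ^ 2 ^ n + r * r ^ 2 ^ n) * hN.symm - N * hv
  have hκ : (1 + d + d' + r + e * v) * (1 + d + d' + r ^ 2 ^ n + e * v) = v * (s * N)⁻¹ := by
    rw [eq_mul_inv_iff_mul_eq₀ (mul_ne_zero hs hN0), mul_comm]
    exact hkey
  linear_combination hκ - hr + ((1 + d + d') + e * v) * hv +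
    (v * (s * N)⁻¹ - e * (1 + d + d') * v) * h2

theorem exists_pow_of_sq {r : F} (hr : r * r ^ 2 ^ n = 1) {i : ℕ} (h : r * r = U.mU ^ i) :
    ∃ j : ℕ, r = U.mU ^ j := by
  refine ⟨i * (2 ^ (n - 1) + 1), ?_⟩
  haveI := U.toUData.char_two
  refine CharTwo.sq_injective ?_
  show r ^ 2 = (U.mU ^ (i * (2 ^ (n - 1) + 1))) ^ 2
  have := U.sr_sq (U.mU_pow_norm i)
  rw [sr, ← pow_mul, ← sq] at this
  rw [this, sq, h]

theorem dlt_const {A : F} (hA : A ≠ 0) {r : F} (hr : r * r ^ 2 ^ n = 1) : U.dlt (r * A) = U.dlt A := by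
  by_cases hpow : ∃ j : ℕ, r = U.mU ^ j
  · obtain ⟨j, rfl⟩ := hpow; exact U.dlt_pow j hA
  obtain ⟨κ, hquad⟩ := U.quad hA
  have hm := U.toUData.mU_norm
  have hmb : U.mU ^ 2 ^ n * (U.mU ^ 2 ^ n) ^ 2 ^ n = 1 := U.norm_bar hm
  have hne : ∀ μ : F, (∃ i : ℕ, μ = U.mU ^ i) → r * μ ≠ 1 := by
    rintro μ ⟨i, rfl⟩ e
    refine hpow ⟨i * 2 ^ n, ?_⟩
    rw [pow_mul, ← inv_eq_of_mul_eq_one_left e, ← inv_eq_of_mul_eq_one_right (U.mU_pow_norm i)]
  have hinv : ∀ μ : F, (∃ i : ℕ, μ = U.mU ^ i) →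
      U.dlt (r * μ * A) = U.dlt (r * A) ∧ U.dlt (U.sr (r * μ) * A) = U.dlt (U.sr r * A) := by
    rintro μ ⟨i, rfl⟩
    constructor
    · rw [show r * U.mU ^ i * A = U.mU ^ i * (r * A) by ring,
        U.dlt_pow i (mul_ne_zero (left_ne_zero_of_mul_eq_one hr) hA)]
    · rw [U.sr_mul, show U.sr r * U.sr (U.mU ^ i) * A = U.sr (U.mU ^ i) * (U.sr r * A) by ring, sr, sr,
        ← pow_mul, U.dlt_pow _ (mul_ne_zero (pow_ne_zero _ (left_ne_zero_of_mul_eq_one hr)) hA)]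
  set cc := 1 + U.dlt A + U.dlt (r * A) with hcc
  set e := U.dlt (U.sr r * A) with he
  have hq : ∀ μ : F, (∃ i : ℕ, μ = U.mU ^ i) → μ * μ ^ 2 ^ n = 1 →
      (cc ^ 2 + 1) + (e ^ 2 + e) * (r * μ + (r * μ) ^ 2 ^ n) ^ 2 +
        (cc + κ) * (r * μ + (r * μ) ^ 2 ^ n) = 0 := by
    intro μ hμ hμn
    have h := hquad (r * μ) (U.norm_mul_norm hr hμn) (hne μ hμ)
    rwa [(hinv μ hμ).1, (hinv μ hμ).2] at h
  have h1 := hq 1 ⟨0, (pow_zero _).symm⟩ (by rw [one_pow, one_mul])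
  have h2' := hq U.mU ⟨1, (pow_one _).symm⟩ hm
  have h3 := hq (U.mU ^ 2 ^ n) ⟨2 ^ n, rfl⟩ hmb
  -- the three traces differ
  have hdiff : ∀ μ ν : F, (∃ i : ℕ, μ = U.mU ^ i) → (∃ i : ℕ, ν = U.mU ^ i) → μ * μ ^ 2 ^ n = 1 →
      ν * ν ^ 2 ^ n = 1 → μ ≠ ν → r * μ + (r * μ) ^ 2 ^ n ≠ r * ν + (r * ν) ^ 2 ^ n := by
    rintro μ ν ⟨i, rfl⟩ ⟨j, rfl⟩ hμn hνn hne' h
    have hp1 := U.norm_mul_norm hr hμn
    have hp2 := U.norm_mul_norm hr hνn
    have e2 : (r * U.mU ^ i + r * U.mU ^ j) * (r * U.mU ^ i + (r * U.mU ^ j) ^ 2 ^ n) = 0 := by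
      linear_combination (r * U.mU ^ i) * h + hp2 - hp1 +
        ((r * U.mU ^ i) * (r * U.mU ^ j) + (r * U.mU ^ i) * (r * U.mU ^ j) ^ 2 ^ n) * U.toUData.two_zero
    rcases mul_eq_zero.1 e2 with h' | h'
    · exact hne' (mul_left_cancel₀ (left_ne_zero_of_mul_eq_one hr) (U.toUData.add_eq_zero'.1 h'))
    · rw [U.toUData.add_eq_zero'] at h'
      have e3 : r * r * U.mU ^ (i + j) = 1 := by
        rw [← hp2, ← h', pow_add]; ring
      refine hpow (U.exists_pow_of_sq hr (i := (i + j) * 2 ^ n) ?_)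
      rw [pow_mul, ← inv_eq_of_mul_eq_one_left e3, ← inv_eq_of_mul_eq_one_right (U.mU_pow_norm (i + j))]
  set v1 := r * 1 + (r * 1) ^ 2 ^ n with hv1
  set v2 := r * U.mU + (r * U.mU) ^ 2 ^ n with hv2
  set v3 := r * U.mU ^ 2 ^ n + (r * U.mU ^ 2 ^ n) ^ 2 ^ n with hv3
  have d12 : v1 - v2 ≠ 0 := sub_ne_zero.2 (hdiff 1 U.mU ⟨0, (pow_zero _).symm⟩ ⟨1, (pow_one _).symm⟩
    (by rw [one_pow, one_mul]) hm U.toUData.mU_ne_one.symm)
  have d13 : v1 - v3 ≠ 0 := sub_ne_zero.2 (hdiff 1 _ ⟨0, (pow_zero _).symm⟩ ⟨2 ^ n, rfl⟩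
    (by rw [one_pow, one_mul]) hmb (fun h => U.toUData.mU_ne_one (by
      have h' := U.toUData.mU_norm; rwa [← h, mul_one] at h')))
  have d23 : v2 - v3 ≠ 0 := sub_ne_zero.2 (hdiff U.mU _ ⟨1, (pow_one _).symm⟩ ⟨2 ^ n, rfl⟩ hm hmb
    U.toUData.mU_bar_ne.symm)
  have e12 : (e ^ 2 + e) * (v1 + v2) + (cc + κ) = 0 :=
    (mul_eq_zero.1 (show (v1 - v2) * ((e ^ 2 + e) * (v1 + v2) + (cc + κ)) = 0 by
      linear_combination h1 - h2')).resolve_left d12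
  have e13 : (e ^ 2 + e) * (v1 + v3) + (cc + κ) = 0 :=
    (mul_eq_zero.1 (show (v1 - v3) * ((e ^ 2 + e) * (v1 + v3) + (cc + κ)) = 0 by
      linear_combination h1 - h3)).resolve_left d13
  have eQ : e ^ 2 + e = 0 :=
    (mul_eq_zero.1 (show (e ^ 2 + e) * (v2 - v3) = 0 by linear_combination e12 - e13)).resolve_right d23
  have eR : cc + κ = 0 := by linear_combination e12 - (v1 + v2) * eQ
  have hcc1 : cc ^ 2 + 1 = 0 := by linear_combination h1 - v1 ^ 2 * eQ - v1 * eR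
  have hc1 : cc = 1 := U.eq_one_of_sq (U.toUData.add_eq_zero'.1 hcc1)
  rw [hcc, add_assoc, add_eq_left, U.toUData.add_eq_zero'] at hc1
  exact hc1.symm

/-- `dlt` takes one value, `0` or `1`. -/
theorem dlt_zero_or_one : ∃ d : F, (d = 0 ∨ d = 1) ∧ ∀ A : F, A ≠ 0 → U.dlt A = d := by
  classical
  refine ⟨U.dlt 1, ?_, fun A hA => ?_⟩
  · obtain ⟨κ, hquad⟩ := U.quad (one_ne_zero (α := F))
    have hall : ∀ r : F, r * r ^ 2 ^ n = 1 → r ≠ 1 →
        (U.dlt 1 ^ 2 + U.dlt 1) * (r + r ^ 2 ^ n) + (1 + κ) = 0 := by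
      intro r hr hr1
      have h := hquad r hr hr1
      rw [U.dlt_const one_ne_zero hr, U.dlt_const one_ne_zero (U.sr_norm hr), add_assoc 1 (U.dlt 1),
        U.toUData.add_self', add_zero, one_pow, U.toUData.add_self', zero_add] at h
      refine (mul_eq_zero.1 (show (r + r ^ 2 ^ n) *
        ((U.dlt 1 ^ 2 + U.dlt 1) * (r + r ^ 2 ^ n) + (1 + κ)) = 0 by linear_combination h)).resolve_left
        (U.trace_ne_zero hr hr1)
    -- a norm-one element other than `1`, `mU` and its conjugate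
    obtain ⟨r, hr, hr1, hrm, hrmb⟩ : ∃ r : F, r * r ^ 2 ^ n = 1 ∧ r ≠ 1 ∧ r ≠ U.mU ∧ r ≠ U.mU ^ 2 ^ n := by
      by_contra hne
      push Not at hne
      have hcard := card_norm_one U.hF
      have hle : Nat.card {x : F // x ^ (2 ^ n + 1) = 1} ≤ ({1, U.mU, U.mU ^ 2 ^ n} : Finset F).card := by
        rw [Nat.card_eq_fintype_card, Fintype.card_subtype]
        refine Finset.card_le_card fun r hr => ?_
        rw [Finset.mem_filter, pow_succ'] at hr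
        by_cases h1 : r = 1
        · simp [h1]
        · by_cases hm : r = U.mU
          · simp [hm]
          · simp [hne r hr.2 h1 hm]
      have h3 : ({1, U.mU, U.mU ^ 2 ^ n} : Finset F).card ≤ 3 := Finset.card_le_three
      have := U.toUData.four_le
      omega
    have e1 := hall r hr hr1
    have e2 := hall U.mU U.toUData.mU_norm U.toUData.mU_ne_one
    have hv : r + r ^ 2 ^ n - (U.mU + U.mU ^ 2 ^ n) ≠ 0 := by
      intro h
      have e : (r + U.mU) * (r + U.mU ^ 2 ^ n) = 0 := by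
        linear_combination r * h - hr + U.toUData.mU_norm + (r * (U.mU + U.mU ^ 2 ^ n)) * U.toUData.two_zero
      rcases mul_eq_zero.1 e with h' | h'
      · exact hrm (U.toUData.add_eq_zero'.1 h')
      · exact hrmb (U.toUData.add_eq_zero'.1 h')
    have e3 : U.dlt 1 ^ 2 + U.dlt 1 = 0 := (mul_eq_zero.1 (show (U.dlt 1 ^ 2 + U.dlt 1) *
      (r + r ^ 2 ^ n - (U.mU + U.mU ^ 2 ^ n)) = 0 by linear_combination e1 - e2)).resolve_right hv
    rcases mul_eq_zero.1 (show U.dlt 1 * (U.dlt 1 + 1) = 0 by linear_combination e3) with h | h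
    · exact Or.inl h
    · exact Or.inr (U.toUData.add_eq_zero'.1 h)
  · obtain ⟨l, hl, hll⟩ := exists_sq_fixed U.hF (norm_fixed U.hF A)
    have hl0 : l ≠ 0 := fun h => U.toUData.norm_ne_zero hA (by rw [← hll, h, zero_mul])
    have hr : (A / l) * (A / l) ^ 2 ^ n = 1 := by
      rw [div_pow, hl, div_mul_div_comm, hll, div_self (U.toUData.norm_ne_zero hA)]
    have e : A = l * (A / l * 1) := by field_simp
    rw [e, U.dlt_smul hl hl0 (mul_ne_zero (div_ne_zero hA hl0) one_ne_zero), U.dlt_const one_ne_zero hr]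

theorem om_or : (∀ x : Q, U.xC x ≠ 0 → U.om x = U.yC x) ∨
    (∀ x : Q, U.xC x ≠ 0 → U.om x = U.yC x ^ 2 ^ n) := by
  obtain ⟨d, hd, hA⟩ := U.dlt_zero_or_one
  rcases hd with rfl | rfl
  · left; intro x hx; rw [U.om_eq_dlt hx, hA _ hx, zero_mul, add_zero]
  · right; intro x hx; rw [U.om_eq_dlt hx, hA _ hx, one_mul, U.bar_yC]

theorem yC_eq_of_om {x y : Q} (hx : U.xC x ≠ 0) (hy : U.xC y ≠ 0) (h : U.om x = U.om y) :
    U.yC x = U.yC y := by
  rcases U.om_or with ho | ho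
  · rwa [ho x hx, ho y hy] at h
  · rw [ho x hx, ho y hy] at h; exact pow_q_injective U.hF h

theorem yC_fmap {x : Q} (hx : U.xC x ≠ 0) : U.yC (fmap U.setup x) = (U.yC x)⁻¹ := by
  have h := U.om_fmap hx
  rcases U.om_or with ho | ho
  · rwa [ho x hx, ho _ (U.xC_fmap_ne hx)] at h
  · rw [ho x hx, ho _ (U.xC_fmap_ne hx), ← inv_pow] at h
    exact pow_q_injective U.hF h

/-- Above a first coordinate `A`, the first coordinate of the image is proportional to `1 / y`. -/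
theorem exists_kappa {A : F} (hA : A ≠ 0) :
    ∃ κ : F, ∀ x : Q, U.xC x = A → U.xC (fmap U.setup x) = κ / U.yC x := by
  obtain ⟨x₀, hx₀⟩ := U.toUData.exists_above A
  have hx₀' : U.xC x₀ ≠ 0 := by rw [hx₀]; exact hA
  obtain ⟨hb, ha⟩ := U.tx_spec hx₀'
  obtain ⟨z, hz⟩ := U.exists_stable hb ha
  set g₁ := (z : G) * (t * (x₀ : G)) with hg₁
  have ha₁ : a ∉ U.chord g₁ := fun h => ha ((U.mem_smul_chord (Q_fix U.setup z.2)).1 h)
  have hzb : (z : G) • (t • a) ∈ U.chord g₁ := U.smul_mem_chord.2 hb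
  have hp₁ : U.pt z ∈ U.chord g₁ := hzb
  have hz0 : U.xC z ≠ 0 := U.off_iff.1 (U.stable_disjoint ha₁ hz hp₁)
  obtain ⟨g, hzg, hag, hwg, hom⟩ := U.exists_om_chord hz0
  have hgg : U.chord g = U.chord g₁ := U.stable_unique hwg hz hz0 hzg hp₁
  refine ⟨(U.xC z ^ 2 ^ n)⁻¹, fun x hx => ?_⟩
  have hxx : U.xC x ≠ 0 := by rw [hx]; exact hA
  set q := fmap U.setup x with hq
  have hx1 := U.ne_one_of_xC hxx
  have hxB : U.pt x ∈ U.chord (x₀ : G) := by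
    rw [U.mem_chord, ← Subgroup.coe_inv, U.smul_pt, U.pt_mem_B, U.xC_mul, U.xC_inv, hx₀, hx,
      U.toUData.add_self']
  have hqC : U.pt q ∈ U.chord (t * (x₀ : G)) := (U.mem_smul_chord (U.t_pt hx1)).2 hxB
  have hy'c : U.pt (z * q) ∈ U.chord g := by
    rw [hgg, ← U.smul_pt]; exact U.smul_mem_chord.2 hqC
  obtain ⟨x', hx', hx'0, hx'om⟩ := hom _ hy'c
  obtain rfl := U.pt_injective hx'
  have hB := U.yC_eq_of_om hx'0 hz0 hx'om
  have hN := U.trace_om' hx'0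
  rw [hx'om, U.trace_om' hz0] at hN
  rw [U.yC_mul] at hB
  have hline : U.yC q = U.xC z ^ 2 ^ n * U.xC q := by
    linear_combination hB - (U.xC z ^ 2 ^ n * U.xC q) * U.toUData.two_zero
  have hz' : U.xC z ^ 2 ^ n ≠ 0 := pow_ne_zero _ hz0
  rw [hq, U.yC_fmap hxx, ← hq] at hline
  rw [div_eq_mul_inv, hline, ← mul_assoc, inv_mul_cancel₀ hz', one_mul]

theorem exists_y {A : F} (u : F) (hu : u ^ 2 ^ n ≠ u) :
    ∃ x : Q, U.xC x = A ∧ U.yC x = A * A ^ 2 ^ n / (u + u ^ 2 ^ n) * u := by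
  refine U.toUData.exists_el ?_
  have h0 : u + u ^ 2 ^ n ≠ 0 := fun h => hu (U.toUData.add_eq_zero'.1 h).symm
  rw [mul_pow, div_pow, norm_fixed U.hF, U.bar_add u, U.bar_bar, add_comm (u ^ 2 ^ n) u]
  field_simp

/-- `f` in coordinates. -/
theorem fmap_coords {x : Q} (hx : x ≠ 1) :
    U.xC (fmap U.setup x) = U.xC x / U.yC x ∧ U.yC (fmap U.setup x) = (U.yC x)⁻¹ := by
  by_cases hx0 : U.xC x = 0
  · have hy := U.toUData.yC_ne_zero hx
    have hyf := U.toUData.yC_fixed hx0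
    have e := U.fmap_zEl hyf hy
    rw [U.zEl_yC hx0] at e
    rw [e, U.xC_zEl, U.yC_zEl (by rw [inv_pow, hyf]), hx0, zero_div]
    exact ⟨rfl, rfl⟩
  refine ⟨?_, U.yC_fmap hx0⟩
  classical
  choose κ hκ using fun A : {A : F // A ≠ 0} => U.exists_kappa A.2
  let K : F → F := fun A => if h : A ≠ 0 then κ ⟨A, h⟩ else 0
  have hK : ∀ (A : F), A ≠ 0 → ∀ x : Q, U.xC x = A → U.xC (fmap U.setup x) = K A / U.yC x := by
    intro A hA x hxA
    simp only [K, dif_pos hA]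
    exact hκ ⟨A, hA⟩ x hxA
  suffices hid : ∀ A : F, A ≠ 0 → K A = A by rw [hK _ hx0 x rfl, hid _ hx0]
  have hy0 : ∀ {x : Q}, U.xC x ≠ 0 → U.yC x ≠ 0 := fun {x} h => U.toUData.yC_ne_zero (U.ne_one_of_xC h)
  let cq : F → F := fun A => K A / A
  have hcK : ∀ A : F, A ≠ 0 → K A = cq A * A := fun A hA => (div_mul_cancel₀ _ hA).symm
  have hnorm : ∀ A : F, A ≠ 0 → cq A * cq A ^ 2 ^ n = 1 := by
    intro A hA
    obtain ⟨x, hxA⟩ := U.toUData.exists_above A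
    have hx' : U.xC x ≠ 0 := by rw [hxA]; exact hA
    have h := U.trace_yC (fmap U.setup x)
    rw [hK A hA x hxA, U.yC_fmap hx'] at h
    have h' := U.trace_yC x
    rw [hxA] at h'
    have hb := hy0 hx'
    have hb' := pow_ne_zero (2 ^ n) hb
    rw [inv_pow, div_pow] at h
    field_simp at h
    show K A / A * (K A / A) ^ 2 ^ n = 1
    rw [div_pow, div_mul_div_comm, div_eq_one_iff_eq (U.toUData.norm_ne_zero hA)]
    linear_combination -h + h'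
  have hcl : ∀ l A : F, l ^ 2 ^ n = l → l ≠ 0 → A ≠ 0 → cq (l * A) = cq A := by
    intro l A hl hl0 hA
    obtain ⟨x, hxA⟩ := U.toUData.exists_above A
    obtain ⟨e1, e2⟩ := U.coord_kEl hl hl0 x
    have h := (U.toUData.fmap_kEl hl hl0 x).1
    rw [hK A hA x hxA, hK (l * A) (mul_ne_zero hl0 hA) _ (by rw [e1, hxA]), e2] at h
    have hb : U.yC x ≠ 0 := hy0 (by rw [hxA]; exact hA)
    show K (l * A) / (l * A) = K A / A
    field_simp at h ⊢
    linear_combination h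
  have hcm : ∀ A : F, A ≠ 0 → cq (U.mU * A) = cq A := by
    intro A hA
    obtain ⟨x, hxA⟩ := U.toUData.exists_above A
    obtain ⟨e1, e2⟩ := U.coord_wEl x
    have h := (U.toUData.fmap_wEl x).1
    rw [hK A hA x hxA, hK (U.mU * A) (mul_ne_zero U.toUData.mU_ne_zero hA) _ (by rw [e1, hxA]), e2] at h
    have hb : U.yC x ≠ 0 := hy0 (by rw [hxA]; exact hA)
    have hm := U.toUData.mU_ne_zero
    show K (U.mU * A) / (U.mU * A) = K A / A
    field_simp at h ⊢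
    linear_combination h
  have hci : ∀ (i : ℕ) (A : F), A ≠ 0 → cq (U.mU ^ i * A) = cq A := by
    intro i A hA
    induction i with
    | zero => rw [pow_zero, one_mul]
    | succ i ih =>
      rw [pow_succ', mul_assoc, hcm _ (mul_ne_zero (pow_ne_zero i U.toUData.mU_ne_zero) hA), ih]
  intro A hA
  set cA := cq A with hcA
  obtain ⟨i, hi⟩ : ∃ i : ℕ, cA * U.mU ^ i ≠ 1 ∧ U.mU ^ i * U.mU ^ (i * 2 ^ n) = 1 := by
    have hmn : ∀ i : ℕ, U.mU ^ i * U.mU ^ (i * 2 ^ n) = 1 := fun i => by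
      rw [pow_mul]; exact U.mU_pow_norm i
    by_cases h : cA * U.mU ^ 1 = 1
    · refine ⟨2 ^ n, fun h' => U.toUData.mU_bar_ne ?_, hmn _⟩
      have := h.trans h'.symm
      rw [pow_one] at this
      exact (mul_left_cancel₀ (left_ne_zero_of_mul_eq_one (hnorm A hA)) this).symm
    · exact ⟨1, h, hmn _⟩
  obtain ⟨hne1, hii⟩ := hi
  have hun : cA * U.mU ^ i * (cA * U.mU ^ i) ^ 2 ^ n = 1 :=
    U.norm_mul_norm (hnorm A hA) (U.mU_pow_norm i)
  set u := cA * U.mU ^ i with hu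
  have huNF : u ^ 2 ^ n ≠ u := fun h => hne1 (U.norm_one_fixed hun h)
  obtain ⟨y, hyA, hyB⟩ := U.exists_y (A := A) u huNF
  have hy' : U.xC y ≠ 0 := by rw [hyA]; exact hA
  set ρ := A * A ^ 2 ^ n / (u + u ^ 2 ^ n) with hρ
  have hu0 : u + u ^ 2 ^ n ≠ 0 := fun h => huNF (U.toUData.add_eq_zero'.1 h).symm
  have hρ0 : ρ ≠ 0 := div_ne_zero (U.toUData.norm_ne_zero hA) hu0
  have hρf : ρ⁻¹ ^ 2 ^ n = ρ⁻¹ := by
    rw [hρ, inv_pow, div_pow, norm_fixed U.hF, U.bar_add, U.bar_bar, add_comm (u ^ 2 ^ n) u]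
  set A' := U.xC (fmap U.setup y) with hA'
  have hA'0 : A' ≠ 0 := U.xC_fmap_ne hy'
  have hA'eq : A' = ρ⁻¹ * (U.mU ^ (i * 2 ^ n) * A) := by
    rw [hA', hK A hA y hyA, hcK A hA, hyB, hu, ← hcA]
    have hc0 : cA ≠ 0 := left_ne_zero_of_mul_eq_one (hnorm A hA)
    have hm0 := pow_ne_zero i U.toUData.mU_ne_zero
    field_simp
    linear_combination (-1 : F) * hii
  have hcA' : cq A' = cA := by
    rw [hA'eq, hcl _ _ hρf (inv_ne_zero hρ0) (mul_ne_zero (pow_ne_zero _ U.toUData.mU_ne_zero) hA),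
      hci _ _ hA]
  have hback := hK A' hA'0 (fmap U.setup y) rfl
  rw [fmap_fmap, hyA, U.yC_fmap hy', div_inv_eq_mul, hcK A' hA'0, hcA', hA', hK A hA y hyA,
    hcK A hA, ← hcA] at hback
  have hb := hy0 hy'
  have hsq : cA ^ 2 = 1 := by
    field_simp at hback
    linear_combination -hback
  rw [hcK A hA, ← hcA, U.eq_one_of_sq hsq, one_mul]

end UNorm

end Cfsg.Agent.Lib.RankOneIdent.PSU3
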