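import Cfsg.Agent.Lib.RankOneIdent.PSU3.Data
import Cfsg.Agent.Lib.RankOneIdent.PSL2

/-!
# The unitary case: `q` is a power of two, and coordinates with `f (0, 1) = (0, 1)`
-/

set_option autoImplicit false
set_option linter.unusedSectionVars false
set_option linter.style.haveILetI false

namespace Cfsg.Agent.Lib.RankOneIdent.PSU3

open Cfsg.Agent.Lib.RankOne.Involution Cfsg.Agent.Lib.RankOne.Basic MulAction
open Cfsg.Agent.Lib.BenderSuzuki Cfsg.Agent.Lib.Unitary Cfsg.Agent.Lib.U3Sylow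

universe u v

variable {G : Type u} {Ω : Type v} [Group G] [MulAction G Ω] [Finite G] {a : Ω} {t : G} {Q : Subgroup G}
  {F : Type} [Field F] [Fintype F] {c : G → F × F}

/-- `q` is a power of two. -/
theorem exists_two_pow (hyp : Hyp G Ω a t Q) (hF : Fintype.card F = qNum G a ^ 2)
    (co : BenderSuzuki.Coords G a t Q F (qNum G a) c) : ∃ n : ℕ, 2 ≤ n ∧ qNum G a = 2 ^ n := by
  obtain ⟨p, k, hp, hchar, -, hq⟩ := q_eq_primePow hF
  have h3 := three_le_qNum hyp.setup hyp.twoRank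
  haveI := hchar
  by_cases hp2 : p = 2
  · subst hp2
    refine ⟨k, ?_, hq⟩
    by_contra h
    have : 2 ^ k ≤ 2 ^ 1 := Nat.pow_le_pow_right two_pos (by omega)
    omega
  · exfalso
    have h20 : (2 : F) ≠ 0 := Ring.two_ne_zero (by rwa [ringChar.eq F p])
    obtain ⟨s, hs⟩ := exists_involution hyp.setup
    have hsQ := involutions_stab_mem_Q hyp.setup hs.1 hs.2.2
    have h1 := co.mul 1 Q.one_mem 1 Q.one_mem
    rw [one_mul, Prod.ext_iff] at h1
    have e1 : (c 1).1 = 0 := by linear_combination -h1.1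
    have e2 : (c 1).2 = 0 := by
      have := h1.2
      simp only [e1, mul_zero, add_zero] at this
      linear_combination -this
    have h2 := co.mul s hsQ s hsQ
    rw [hs.2.2, Prod.ext_iff] at h2
    have f1 : (c s).1 = 0 := by
      have := h2.1
      rw [e1] at this
      refine (mul_eq_zero.1 (show (2 : F) * (c s).1 = 0 by linear_combination -this)).resolve_left h20
    have f2 : (c s).2 = 0 := by
      have := h2.2
      simp only [e2, f1, mul_zero, add_zero] at this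
      refine (mul_eq_zero.1 (show (2 : F) * (c s).2 = 0 by linear_combination -this)).resolve_left h20
    exact hs.2.1 (co.bijOn.2.1 hsQ Q.one_mem (Prod.ext (f1.trans e1.symm) (f2.trans e2.symm)))

variable {n : ℕ}

/-- Rescaled coordinates. -/
theorem coords_scale (hF : Fintype.card F = (2 ^ n) ^ 2) (co : BenderSuzuki.Coords G a t Q F (2 ^ n) c)
    {l : F} (hl : l ^ 2 ^ n = l) (h0 : l ≠ 0) :
    BenderSuzuki.Coords G a t Q F (2 ^ n) (fun g => (l * (c g).1, l ^ 2 * (c g).2)) := by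
  have hl2 : (l ^ 2) ^ 2 ^ n = l ^ 2 := by rw [← pow_mul, mul_comm, pow_mul, hl]
  have hn : l ^ (2 ^ n + 1) = l ^ 2 := by rw [pow_succ, hl, sq]
  refine ⟨⟨fun x hx => ?_, fun x hx y hy h => ?_, fun p hp => ?_⟩, fun x hx y hy => ?_,
    fun m hm hm0 => ?_, ?_⟩
  · have := co.bijOn.1 hx
    simp only [Set.mem_setOf_eq] at this ⊢
    rw [mul_pow, mul_pow, hl2, hn, ← mul_add, this]
  · obtain ⟨h1, h2⟩ := Prod.ext_iff.1 h
    exact co.bijOn.2.1 hx hy (Prod.ext (mul_left_cancel₀ h0 h1) (mul_left_cancel₀ (pow_ne_zero 2 h0) h2))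
  · simp only [Set.mem_setOf_eq] at hp
    obtain ⟨x, hx, h⟩ := co.bijOn.2.2 (show (p.1 / l, p.2 / l ^ 2) ∈
        {p : F × F | p.2 + p.2 ^ 2 ^ n = p.1 ^ (2 ^ n + 1)} by
      simp only [Set.mem_setOf_eq]
      rw [div_pow, div_pow, hl2, hn, ← add_div, hp])
    refine ⟨x, hx, ?_⟩
    show (l * (c x).1, l ^ 2 * (c x).2) = p
    rw [h, mul_div_cancel₀ _ h0, mul_div_cancel₀ _ (pow_ne_zero 2 h0)]
  · rw [co.mul x hx y hy, mul_pow, hl]
    exact Prod.ext (by ring) (by ring)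
  · obtain ⟨k, hk, hkc⟩ := co.torus m hm hm0
    refine ⟨k, hk, fun x hx => ?_⟩
    rw [hkc x hx]
    exact Prod.ext (by ring) (by ring)
  · obtain ⟨w, m, hw, hm1, hmn, hwc⟩ := co.unit
    refine ⟨w, m, hw, hm1, hmn, fun x hx => ?_⟩
    rw [hwc x hx]
    exact Prod.ext (by ring) rfl

/-- Normalised coordinates. -/
theorem exists_norm (U : UData G Ω a t Q F n c) : ∃ c' : G → F × F, UNorm G Ω a t Q F n c' := by
  have h1 : (1 : F) ^ 2 ^ n = 1 := one_pow _
  set c0 := U.yC (fmap U.setup (U.zEl 1)) with hc0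
  have hne : fmap U.setup (U.zEl 1) ≠ 1 := fmap_ne_one U.setup (U.zEl_ne_one h1 one_ne_zero)
  have hc0f : c0 ^ 2 ^ n = c0 := U.yC_fixed (U.fmap_central (U.xC_zEl 1))
  obtain ⟨r, hr, hrr⟩ := exists_sq_fixed U.hF hc0f
  obtain ⟨m, hm, hmm⟩ := exists_sq_fixed U.hF hr
  have hm0 : m ≠ 0 := fun h => U.yC_ne_zero hne (by rw [← hc0, ← hrr, ← hmm, h, zero_mul, zero_mul])
  have hmi : m⁻¹ ^ 2 ^ n = m⁻¹ := by rw [inv_pow, hm]
  have co' := coords_scale U.hF U.co hmi (inv_ne_zero hm0)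
  refine ⟨_, ⟨⟨U.setup, U.faithful, U.two_le, U.hF, U.hq, co'⟩, fun x hx => ?_⟩⟩
  obtain ⟨hx1, hx2⟩ := Prod.ext_iff.1 hx
  have hxC : U.xC x = 0 := (mul_eq_zero.1 hx1).resolve_left (inv_ne_zero hm0)
  have hyC : U.yC x = m ^ 2 := by
    have : m⁻¹ ^ 2 * U.yC x = 1 := hx2
    rw [inv_pow, inv_mul_eq_one₀ (pow_ne_zero 2 hm0)] at this
    exact this.symm
  obtain ⟨e1, e2⟩ := U.coord_kEl hm hm0 (U.zEl 1)
  have hxk : conjQ U.setup (U.kEl_D m) (U.zEl 1) = x :=
    U.ext (by rw [e1, U.xC_zEl, mul_zero, hxC]) (by rw [e2, U.yC_zEl h1, mul_one, hyC])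
  obtain ⟨-, e⟩ := U.fmap_kEl hm hm0 (U.zEl 1)
  rw [hxk, ← hc0, ← hrr, ← hmm] at e
  exact U.ext ((U.fmap_central hxC).trans hxC.symm)
    (mul_right_cancel₀ (pow_ne_zero 2 hm0) (e.trans (by rw [hyC]; ring)))

end Cfsg.Agent.Lib.RankOneIdent.PSU3
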