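import Cfsg.Agent.Lib.RankOneIdent.PSU3.Model
import Cfsg.Agent.Lib.RankOneIdent.PSU3.Identify
import Cfsg.Agent.Lib.RankOneIdent.PSU3.Normalise

/-!
# Suzuki's theorem, the unitary case: coordinates determine `PSU₃(q)`
-/

set_option autoImplicit false
set_option linter.unusedSectionVars false
set_option linter.style.haveILetI false

namespace Cfsg.Agent.Lib.RankOneIdent

open Cfsg.Agent.Lib.RankOne.Involution Cfsg.Agent.Lib.RankOne.Basic MulAction
open Cfsg.Agent.Lib.BenderSuzuki Cfsg.Agent.Lib.Unitary Cfsg.Agent.Lib.U3Sylow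
open scoped Matrix

universe u v

variable {G : Type u} {Ω : Type v} [Group G] [MulAction G Ω] [Finite G] {a : Ω} {t : G} {Q : Subgroup G}

/-- The order of a subgroup containing `Q` and `t`. -/
theorem card_of_Q_t (hS : Cfsg.IsRankOneSetup G Ω a t Q) (L : Subgroup G) (hQ : Q ≤ L) (ht : t ∈ L) :
    Nat.card L = (Nat.card Q + 1) * (Nat.card Q * Nat.card (L ⊓ twoStab G a t : Subgroup G)) := by
  classical
  let rep : Option Q → G := fun o => o.elim 1 fun y => (y : G) * t
  have hrep : ∀ o, rep o • a = pointEquiv hS o := by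
    rintro (_ | y)
    · show (1 : G) • a = _
      rw [one_smul, pointEquiv_none]
    · show ((y : G) * t) • a = _
      rw [mul_smul, pointEquiv_some]
  have hrepL : ∀ o, rep o ∈ L := by
    rintro (_ | y)
    · exact L.one_mem
    · exact L.mul_mem (hQ y.2) ht
  haveI : Fintype Q := Fintype.ofFinite _
  let f : Option Q × Q × (L ⊓ twoStab G a t : Subgroup G) → L := fun p =>
    ⟨rep p.1 * ((p.2.1 : G) * p.2.2), L.mul_mem (hrepL _) (L.mul_mem (hQ p.2.1.2) p.2.2.2.1)⟩
  rw [← Finite.card_option, ← Nat.card_prod, ← Nat.card_prod]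
  refine (Nat.card_eq_of_bijective f ⟨fun p p' h => ?_, fun g => ?_⟩).symm
  · have h' : rep p.1 * ((p.2.1 : G) * p.2.2) = rep p'.1 * ((p'.2.1 : G) * p'.2.2) := congrArg Subtype.val h
    have hfix : ∀ r : Option Q × Q × (L ⊓ twoStab G a t : Subgroup G),
        (rep r.1 * ((r.2.1 : G) * r.2.2)) • a = pointEquiv hS r.1 := fun r => by
      rw [mul_smul, mul_smul, (mem_twoStab.1 r.2.2.2.2).1, Q_fix hS r.2.1.2, hrep]
    have ho : p.1 = p'.1 := (pointEquiv hS).injective (by rw [← hfix, ← hfix, h'])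
    rw [ho] at h'
    obtain ⟨h1, h2⟩ := Q_D_unique hS p.2.1.2 p'.2.1.2 p.2.2.2.2 p'.2.2.2.2 (mul_left_cancel h')
    exact Prod.ext ho (Prod.ext (Subtype.ext h1) (Subtype.ext h2))
  · obtain ⟨o, ho⟩ := (pointEquiv hS).surjective ((g : G) • a)
    obtain ⟨x, hx, d, hd, he⟩ := exists_Q_D hS (g := (rep o)⁻¹ * g) (by
      rw [mul_smul, inv_smul_eq_iff, hrep, ho])
    have hdL : d ∈ L := by
      have : d = x⁻¹ * ((rep o)⁻¹ * g) := by rw [he]; group
      rw [this]
      exact L.mul_mem (L.inv_mem (hQ hx)) (L.mul_mem (L.inv_mem (hrepL o)) g.2)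
    exact ⟨(o, ⟨x, hx⟩, ⟨d, hdL, hd⟩), Subtype.ext (by
      show rep o * (x * d) = g
      rw [← he, mul_inv_cancel_left])⟩

/-- The order of the two-point stabiliser in a subgroup containing `K`. -/
theorem card_inf_twoStab (hS : Cfsg.IsRankOneSetup G Ω a t Q) (L : Subgroup G)
    (hK : ∀ k ∈ kSet a t, k ∈ L) :
    Nat.card (L ⊓ twoStab G a t : Subgroup G) =
      Nat.card (L ⊓ vGrp a t : Subgroup G) * Nat.card (kSet a t) := by
  rw [← Nat.card_prod]
  refine (Nat.card_eq_of_bijective (fun p : (L ⊓ vGrp a t : Subgroup G) × (kSet a t) =>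
    (⟨(p.1 : G) * p.2, L.mul_mem p.1.2.1 (hK _ p.2.2),
      (twoStab G a t).mul_mem p.1.2.2.1 p.2.2.1⟩ : (L ⊓ twoStab G a t : Subgroup G)))
    ⟨fun p p' h => ?_, fun g => ?_⟩).symm
  · obtain ⟨h1, h2⟩ := decomp_unique hS.odd_card
      p.2.2.1 p'.2.2.1 (centralizer_t_iff hS |>.1 p.1.2.2).2 (centralizer_t_iff hS |>.1 p'.1.2.2).2
      p.2.2.2 p'.2.2.2 (congrArg Subtype.val h)
    exact Prod.ext (Subtype.ext h1) (Subtype.ext h2)
  · obtain ⟨c, hc, k, hk, hct, he⟩ := exists_CK hS g.2.2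
    have hcL : c ∈ L := by
      rw [show c = (g : G) * k⁻¹ by rw [he, mul_inv_cancel_right]]
      exact L.mul_mem g.2.1 (L.inv_mem (hK k hk))
    exact ⟨(⟨c, hcL, (centralizer_t_iff hS).2 ⟨hc, hct⟩⟩, ⟨k, hk⟩), Subtype.ext he.symm⟩

/-- §10 of the plan: the unitary case. -/
theorem unitary_case : PropUnitary.{u, v} := by
  classical
  intro G Ω _ _ _ a t Q F _ _ c hyp hF co
  obtain ⟨n, hn2, hqn⟩ := PSU3.exists_two_pow hyp hF co
  rw [hqn] at hF co
  obtain ⟨c, U⟩ := PSU3.exists_norm (⟨hyp.setup, hyp.faithful, hn2, hF, hqn, co⟩ : PSU3.UData G Ω a t Q F n c)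
  haveI := hyp.faithful
  have hS := U.setup
  obtain ⟨x₀, hx₀⟩ := trace_surj hF (y := (1 : F)) (one_pow _)
  let φ := PSU3.Model.pHom hF hx₀
  let z : Pairs F (2 ^ n) := ⟨(0, 0), by simp [zero_pow_q hF]⟩
  have hchi1 : U.chi 1 = z := Subtype.ext (Prod.ext U.toUData.xC_one U.toUData.yC_one)
  let E : Ω ≃ Option (Pairs F (2 ^ n)) := (pointEquiv hS).symm.trans (Equiv.optionCongr U.chi)
  have hEa : E a = none := by
    show Equiv.optionCongr U.chi ((pointEquiv hS).symm a) = none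
    rw [show (pointEquiv hS).symm a = none from
      (pointEquiv hS).symm_apply_eq.2 (pointEquiv_none hS).symm]
    rfl
  have hEx : ∀ x : Q, E ((x : G) • (t • a)) = some (U.chi x) := fun x => by
    show Equiv.optionCongr U.chi ((pointEquiv hS).symm ((x : G) • (t • a))) = _
    rw [show (pointEquiv hS).symm ((x : G) • (t • a)) = some x from
      (pointEquiv hS).symm_apply_eq.2 (pointEquiv_some hS x).symm]
    rfl
  have hEb : E (t • a) = some z := by
    have := hEx 1
    rw [Subgroup.coe_one, one_smul] at this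
    rw [this, hchi1]
  have hcases : ∀ p : Ω, p = a ∨ ∃ x : Q, p = (x : G) • (t • a) := fun p => by
    obtain ⟨o, rfl⟩ := (pointEquiv hS).surjective p
    cases o with
    | none => exact Or.inl rfl
    | some x => exact Or.inr ⟨x, rfl⟩
  let ψ : G →* Equiv.Perm Ω := MulAction.toPermHom G Ω
  have hψ : Function.Injective ψ := MulAction.toPerm_injective
  have hT : ∀ x : Q, ∀ p, E (ψ x p) = φ (PSU3.Model.tr hF hx₀ (U.chi x)) (E p) := by
    intro x p
    show E ((x : G) • p) = PSU3.Model.act hF hx₀ _ (E p)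
    rcases hcases p with rfl | ⟨y, rfl⟩
    · rw [Q_fix hS x.2, hEa, PSU3.Model.act_tr_none]
    · rw [← mul_smul, ← Subgroup.coe_mul, hEx, hEx]
      exact (PSU3.Model.act_tr_some hF hx₀ _ _ _
        (Prod.ext (U.toUData.xC_mul x y) (U.toUData.yC_mul x y))).symm
  have hW : ∀ p, E (ψ t p) = φ (PSU3.Model.w0 hF hx₀) (E p) := by
    intro p
    show E (t • p) = PSU3.Model.act hF hx₀ _ (E p)
    rcases hcases p with rfl | ⟨y, rfl⟩
    · rw [hEb, hEa, PSU3.Model.act_w0_none hF hx₀ z rfl]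
    · by_cases hy : y = 1
      · subst hy
        rw [Subgroup.coe_one, one_smul, tt_smul hS, hEa, hEb, PSU3.Model.act_w0_zero hF hx₀ z rfl]
      · rw [← fmap_spec hS hy, hEx, hEx]
        obtain ⟨e1, e2⟩ := U.fmap_coords hy
        exact (PSU3.Model.act_w0_some hF hx₀ _ _ (U.toUData.yC_ne_zero hy) (Prod.ext e1 e2)).symm
  set R := PSU3.Model.gens hF hx₀ with hRdef
  have hR : Subgroup.closure R = ⊤ := PSU3.Model.closure_gens hF hx₀ hn2
  have h₁ : ∀ g ∈ ((Q : Set G) ∪ {t}), ∃ m ∈ R, ∀ p, E (ψ g p) = φ m (E p) := by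
    rintro g (hg | hg)
    · exact ⟨_, Or.inl ⟨_, rfl⟩, hT ⟨g, hg⟩⟩
    · obtain rfl := Set.mem_singleton_iff.1 hg
      exact ⟨_, Or.inr rfl, hW⟩
  have h₂ : ∀ m ∈ R, ∃ g ∈ ((Q : Set G) ∪ {t}), ∀ p, E (ψ g p) = φ m (E p) := by
    rintro m (⟨d, rfl⟩ | hm)
    · refine ⟨(U.chi.symm d : G), Or.inl (U.chi.symm d).2, fun p => ?_⟩
      have := hT (U.chi.symm d) p
      rwa [U.chi.apply_symm_apply] at this
    · obtain rfl := Set.mem_singleton_iff.1 hm
      exact ⟨t, Or.inr rfl, hW⟩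
  obtain ⟨iso₀⟩ := nonempty_equiv_range ψ hψ φ E _ R hR h₁ h₂
  let iso : rankOneCore hS ≃* Cfsg.PSU 3 F (2 ^ n) := iso₀.trans (PSU3.Model.rangeEquiv hF hx₀)
  have hQcard := U.toUData.card_Q
  refine ⟨U.toUData.isPGroup, rankOneCore hS, core_normal hS, core_index_odd hS, Q_le_core hS,
    t_mem_core hS, Or.inr (Or.inr ⟨by rw [hqn, hQcard], ?_, ?_,
      F, inferInstance, inferInstance, n, hn2, hqn, hF, ⟨iso⟩⟩)⟩
  · intro l hl
    obtain ⟨hlL, hlV⟩ := hl
    obtain ⟨hlD, hlt⟩ := (centralizer_t_iff hS).1 hlV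
    have htl : t * l * t = l := by rwa [t_inv hS] at hlt
    refine ⟨hlD, ?_⟩
    obtain ⟨m, hm⟩ := exists_intertwined ψ φ E _ R hR h₁ h₂ hlL
    have e1 := hm a
    have e2 := hm (t • a)
    change E (l • a) = PSU3.Model.act hF hx₀ m (E a) at e1
    change E (l • t • a) = PSU3.Model.act hF hx₀ m (E (t • a)) at e2
    rw [(mem_twoStab.1 hlD).1, hEa] at e1
    rw [(mem_twoStab.1 hlD).2, hEb] at e2
    obtain ⟨α, hα0, hα⟩ := (PSU3.Model.exists_img hF hx₀ m none).choose_spec
    change PSU3.Model.cmat x₀ m *ᵥ PSU3.Model.cvec none =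
      α • PSU3.Model.cvec (PSU3.Model.act hF hx₀ m none) at hα
    rw [← e1] at hα
    obtain ⟨γ, hγ0, hγ⟩ := (PSU3.Model.exists_img hF hx₀ m (some z)).choose_spec
    change PSU3.Model.cmat x₀ m *ᵥ PSU3.Model.cvec (some z) =
      γ • PSU3.Model.cvec (PSU3.Model.act hF hx₀ m (some z)) at hγ
    rw [← e2] at hγ
    have key : ∀ x : Q, U.xC x = 0 → U.xC (conjQ hS hlD x) = 0 ∧
        γ * U.yC (conjQ hS hlD x) = α * U.yC x := by
      intro x hx
      have e3 := hm ((x : G) • (t • a))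
      change E (l • (x : G) • t • a) = PSU3.Model.act hF hx₀ m (E ((x : G) • t • a)) at e3
      rw [← conjQ_smul hS hlD, hEx, hEx] at e3
      obtain ⟨d, hd0, hd⟩ := (PSU3.Model.exists_img hF hx₀ m (some (U.chi x))).choose_spec
      change PSU3.Model.cmat x₀ m *ᵥ PSU3.Model.cvec (some (U.chi x)) =
        d • PSU3.Model.cvec (PSU3.Model.act hF hx₀ m (some (U.chi x))) at hd
      rw [← e3] at hd
      have hv : PSU3.Model.cvec (some (U.chi x)) =
          U.yC x • PSU3.Model.cvec (none : Option (Pairs F (2 ^ n))) + PSU3.Model.cvec (some z) := by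
        ext i
        fin_cases i
        · show U.yC x = _
          simp [PSU3.Model.cvec, z]
        · show U.xC x = _
          simp [PSU3.Model.cvec, z, hx]
        · simp [PSU3.Model.cvec, z]
      rw [hv, Matrix.mulVec_add, Matrix.mulVec_smul, hα, hγ] at hd
      have d2 := congrFun hd 2
      have d1 := congrFun hd 1
      have d0 := congrFun hd 0
      change _ = d * (1 : F) at d2
      change _ = d * U.xC (conjQ hS hlD x) at d1
      change _ = d * U.yC (conjQ hS hlD x) at d0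
      simp [PSU3.Model.cvec, z] at d0 d1 d2
      refine ⟨d1.resolve_left hd0, ?_⟩
      rw [d2, ← d0, mul_comm]
    have h1 : (1 : F) ^ 2 ^ n = 1 := one_pow _
    have hy1 : U.toUData.zEl 1 ≠ 1 := U.toUData.zEl_ne_one h1 one_ne_zero
    obtain ⟨hx', hy'⟩ := key (U.toUData.zEl 1) (U.toUData.xC_zEl 1)
    rw [U.toUData.yC_zEl h1, mul_one] at hy'
    set w := conjQ hS hlD (U.toUData.zEl 1) with hw
    have hfw : fmap hS w = w := by
      rw [hw, fmap_conjQ, U.fmap_zEl h1 one_ne_zero, inv_one]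
      exact Subtype.ext (by rw [conjQ_coe, conjQ_coe, htl])
    have hw0 : U.yC w ≠ 0 := U.toUData.yC_ne_zero (conjQ_ne_one hS hlD hy1)
    have hwf := U.toUData.yC_fixed hx'
    have hwz := U.fmap_zEl hwf hw0
    rw [U.toUData.zEl_yC hx', hfw] at hwz
    have hsq : U.yC w ^ 2 = 1 := by
      have := congrArg U.yC hwz
      rw [U.toUData.yC_zEl (by rw [inv_pow, hwf])] at this
      rw [sq]
      nth_rw 1 [this]
      exact inv_mul_cancel₀ hw0
    rw [U.eq_one_of_sq hsq, mul_one] at hy'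
    refine Subgroup.mem_centralizer_iff.2 fun s hs => ?_
    obtain ⟨x, rfl, hxC, -⟩ := U.toUData.exists_of_invs hs
    obtain ⟨k1, k2⟩ := key x hxC
    rw [← hy'] at k2
    have hx_fix : conjQ hS hlD x = x :=
      U.toUData.ext (k1.trans hxC.symm) (mul_left_cancel₀ hγ0 k2)
    exact (mul_inv_eq_iff_eq_mul.1 (congrArg Subtype.val hx_fix)).symm
  · rw [hqn]
    have hLcard : Nat.card (rankOneCore hS) = Nat.card (Cfsg.PSU 3 F (2 ^ n)) :=
      Nat.card_congr iso.toEquiv
    have hK : Nat.card (kSet a t) + 1 = 2 ^ n := by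
      rw [← hqn, card_invertedBy hS]
      rfl
    have h := card_SU hF (n := 3) (by norm_num)
    rw [card_GU hF 3, Finset.prod_range_succ, Finset.prod_range_succ, Finset.prod_range_succ,
      Finset.prod_range_zero, if_pos (by decide : Even 0), if_neg (by decide : ¬ Even 1),
      if_pos (by decide : Even 2)] at h
    simp only [Nat.reduceAdd, Nat.reduceMul, Nat.reduceSub, Nat.reduceDiv, one_mul, pow_one] at h
    have hP := card_PSU hF (n := 3) (by norm_num)
    rw [← hLcard, card_of_Q_t hS _ (Q_le_core hS) (t_mem_core hS),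
      card_inf_twoStab hS _ (fun k hk => inverted_mem_core hS hk), hQcard] at hP
    set k := Nat.card (kSet a t)
    set v := Nat.card (rankOneCore hS ⊓ vGrp a t : Subgroup G)
    set g := Nat.gcd 3 (2 ^ n + 1)
    rw [← hP] at h
    obtain ⟨r, hr⟩ : ∃ r, k = r + 1 := ⟨k - 1, by have := U.toUData.four_le; omega⟩
    rw [← hK, hr] at h ⊢
    have hsq : (r + 1 + 1) ^ 2 - 1 = (r + 1) * (r + 3) := by
      rw [show (r + 1 + 1) ^ 2 = (r + 1) * (r + 3) + 1 by ring, Nat.add_sub_cancel]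
    rw [hsq] at h
    refine Nat.eq_of_mul_eq_mul_left
      (show 0 < (r + 1 + 1 + 1) * ((r + 1 + 1) ^ 3 + 1) * (r + 1 + 1) ^ 3 * (r + 1) by positivity) ?_
    linear_combination h

end Cfsg.Agent.Lib.RankOneIdent
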