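import Cfsg.Agent.Lib.U3Sylow.Coords
import Cfsg.Agent.Lib.Unitary.Generation

/-!
# `PSU₃(q)` for even `q` as a permutation group of `{∞} ∪ Q`

In a hyperbolic basis the isotropic points are `∞ = (1, 0, 0)` and `(b, a, 1)` for the pairs `(a, b)` with
`b + b^q = a a^q`; `SU₃(q)` is generated by the translations and `w₀ : (a, b) ↦ (a / b, 1 / b)`.
-/

set_option autoImplicit false
set_option linter.unusedSectionVars false
set_option linter.style.haveILetI false

namespace Cfsg.Agent.Lib.RankOneIdent.PSU3.Model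

open Matrix Cfsg.Agent.Lib.Unitary Cfsg.Agent.Lib.U3Sylow

variable {F : Type*} [Field F] [Fintype F] {n : ℕ}

/-- The representative of a point. -/
def cvec : Option (Pairs F (2 ^ n)) → Fin 3 → F
  | none => ![1, 0, 0]
  | some p => ![p.1.2, p.1.1, 1]

theorem cvec_ne_zero (o : Option (Pairs F (2 ^ n))) : cvec o ≠ 0 := by
  rcases o with _ | p <;> intro h
  · simpa [cvec] using congrFun h 0
  · simpa [cvec] using congrFun h 2

theorem cvec_unique {o o' : Option (Pairs F (2 ^ n))} {c : F} (h : c • cvec o = cvec o') : o = o' := by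
  rcases o with _ | p <;> rcases o' with _ | r
  · rfl
  · simpa [cvec] using congrFun h 2
  · have h0 := congrFun h 0
    have h2 := congrFun h 2
    simp [cvec] at h0 h2
    simp [h2] at h0
  · have h2 := congrFun h 2
    have h1 := congrFun h 1
    have h0 := congrFun h 0
    simp [cvec] at h0 h1 h2
    subst h2
    rw [one_mul] at h0 h1
    exact congrArg some (Subtype.ext (Prod.ext h1 h0))

theorem hyp_cvec (hF : Fintype.card F = (2 ^ n) ^ 2) (o : Option (Pairs F (2 ^ n))) :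
    hyp (2 ^ n) (cvec o) (cvec o) = 0 := by
  rcases o with _ | p
  · simp [cvec, hyp, zero_pow_q hF]
  · simp [cvec, hyp]
    linear_combination p.2 + (p.1.1 * p.1.1 ^ 2 ^ n) * two_eq_zero hF

theorem exists_cvec (hF : Fintype.card F = (2 ^ n) ^ 2) {u : Fin 3 → F} (hu : u ≠ 0)
    (h : hyp (2 ^ n) u u = 0) : ∃ (o : Option (Pairs F (2 ^ n))) (c : F), c ≠ 0 ∧ u = c • cvec o := by
  unfold hyp at h
  by_cases h2 : u 2 = 0
  · rw [h2, zero_pow_q hF, mul_zero, zero_add, zero_mul, add_zero, mul_eq_zero,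
      pow_eq_zero_iff (Nat.two_pow_pos n).ne', or_self] at h
    refine ⟨none, u 0, fun h0 => hu ?_, ?_⟩
    · ext i; fin_cases i <;> simp [h0, h, h2]
    · ext i; fin_cases i <;> simp [cvec, h, h2]
  · have hd := pow_ne_zero (2 ^ n) h2
    refine ⟨some ⟨(u 1 / u 2, u 0 / u 2), ?_⟩, u 2, h2, ?_⟩
    · show u 0 / u 2 + (u 0 / u 2) ^ 2 ^ n = u 1 / u 2 * (u 1 / u 2) ^ 2 ^ n
      rw [div_pow, div_pow]
      field_simp
      linear_combination h - (u 1 * u 1 ^ 2 ^ n) * two_eq_zero hF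
    · ext i; fin_cases i <;> simp [cvec, mul_div_cancel₀ _ h2]

/-- The matrix of `g` in the hyperbolic basis. -/
def cmat (x : F) (g : Cfsg.SU 3 F (2 ^ n)) : Matrix (Fin 3) (Fin 3) F := tInv x * g.1.1 * tMat x

variable (hF : Fintype.card F = (2 ^ n) ^ 2) {x : F} (hx : x + x ^ 2 ^ n = 1)

section
include hF

theorem tMat_tInv_mulVec (v : Fin 3 → F) : tMat x *ᵥ (tInv x *ᵥ v) = v := by
  rw [mulVec_mulVec, tMat_mul_tInv hF, one_mulVec]

theorem tInv_tMat_mulVec (v : Fin 3 → F) : tInv x *ᵥ (tMat x *ᵥ v) = v := by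
  rw [mulVec_mulVec, tInv_mul_tMat hF, one_mulVec]

theorem cmat_mul (g h : Cfsg.SU 3 F (2 ^ n)) : cmat x (g * h) = cmat x g * cmat x h := by
  show tInv x * (g.1.1 * h.1.1) * tMat x = tInv x * g.1.1 * tMat x * (tInv x * h.1.1 * tMat x)
  calc tInv x * (g.1.1 * h.1.1) * tMat x
      = tInv x * g.1.1 * (tMat x * tInv x) * (h.1.1 * tMat x) := by
        rw [tMat_mul_tInv hF]; simp [mul_assoc]
    _ = _ := by simp [mul_assoc]

theorem cmat_one : cmat x (1 : Cfsg.SU 3 F (2 ^ n)) = 1 := by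
  show tInv x * 1 * tMat x = 1
  rw [mul_one, tInv_mul_tMat hF]

theorem tMat_cmat_mulVec (g : Cfsg.SU 3 F (2 ^ n)) (u : Fin 3 → F) :
    tMat x *ᵥ (cmat x g *ᵥ u) = g.1.1 *ᵥ (tMat x *ᵥ u) := by
  rw [cmat, ← mulVec_mulVec, ← mulVec_mulVec, tMat_tInv_mulVec hF]

include hx

theorem hyp_cmat (g : Cfsg.SU 3 F (2 ^ n)) (u v : Fin 3 → F) :
    hyp (2 ^ n) (cmat x g *ᵥ u) (cmat x g *ᵥ v) = hyp (2 ^ n) u v := by
  rw [← herm_tMat hF hx, ← herm_tMat hF hx u v, tMat_cmat_mulVec hF, tMat_cmat_mulVec hF]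
  exact mem_SU_iff.1 g.2 _ _

theorem exists_img (g : Cfsg.SU 3 F (2 ^ n)) (o : Option (Pairs F (2 ^ n))) :
    ∃ (o' : Option (Pairs F (2 ^ n))) (c : F), c ≠ 0 ∧ cmat x g *ᵥ cvec o = c • cvec o' := by
  refine exists_cvec hF (fun h => cvec_ne_zero o ?_) (by rw [hyp_cmat hF hx, hyp_cvec hF])
  rw [← one_mulVec (cvec o), ← cmat_one hF (x := x), ← inv_mul_cancel g, cmat_mul hF, ← mulVec_mulVec, h,
    mulVec_zero]

end

/-- The action on points. -/
noncomputable def act (g : Cfsg.SU 3 F (2 ^ n)) (o : Option (Pairs F (2 ^ n))) :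
    Option (Pairs F (2 ^ n)) := (exists_img hF hx g o).choose

theorem act_eq {g : Cfsg.SU 3 F (2 ^ n)} {o o' : Option (Pairs F (2 ^ n))} {c : F}
    (h : cmat x g *ᵥ cvec o = c • cvec o') : act hF hx g o = o' := by
  obtain ⟨d, hd, he⟩ := (exists_img hF hx g o).choose_spec
  change cmat x g *ᵥ cvec o = d • cvec (act hF hx g o) at he
  by_cases hc : c = 0
  · rw [he, hc, zero_smul, smul_eq_zero] at h
    exact absurd h (not_or.2 ⟨hd, cvec_ne_zero _⟩)
  · refine cvec_unique (c := c⁻¹ * d) ?_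
    rw [← smul_smul, ← he, h, smul_smul, inv_mul_cancel₀ hc, one_smul]

theorem act_mul (g h : Cfsg.SU 3 F (2 ^ n)) (o : Option (Pairs F (2 ^ n))) :
    act hF hx (g * h) o = act hF hx g (act hF hx h o) := by
  obtain ⟨d, -, he⟩ := (exists_img hF hx h o).choose_spec
  obtain ⟨d', -, he'⟩ := (exists_img hF hx g (act hF hx h o)).choose_spec
  refine act_eq hF hx (c := d * d') ?_
  rw [cmat_mul hF, ← mulVec_mulVec, he, mulVec_smul, ← smul_smul]
  exact congrArg (d • ·) he'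

theorem act_one (o : Option (Pairs F (2 ^ n))) : act hF hx 1 o = o :=
  act_eq hF hx (c := 1) (by rw [cmat_one hF, one_mulVec, one_smul])

/-- The permutation representation. -/
noncomputable def pHom : Cfsg.SU 3 F (2 ^ n) →* Equiv.Perm (Option (Pairs F (2 ^ n))) where
  toFun g :=
    { toFun := act hF hx g
      invFun := act hF hx g⁻¹
      left_inv := fun o => by rw [← act_mul, inv_mul_cancel, act_one]
      right_inv := fun o => by rw [← act_mul, mul_inv_cancel, act_one] }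
  map_one' := Equiv.ext fun o => act_one hF hx o
  map_mul' g h := Equiv.ext fun o => act_mul hF hx g h o

theorem pHom_apply (g : Cfsg.SU 3 F (2 ^ n)) (o : Option (Pairs F (2 ^ n))) :
    pHom hF hx g o = act hF hx g o := rfl

theorem ker_pHom : (pHom hF hx).ker = Subgroup.center (Cfsg.SU 3 F (2 ^ n)) := by
  ext g
  rw [MonoidHom.mem_ker, mem_center_SU_iff hF (by norm_num)]
  constructor
  · intro hg
    refine scalar_of_isotropic_eigen hF (by norm_num) _ fun v hv => ?_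
    rcases eq_or_ne v 0 with rfl | hv0
    · exact ⟨0, by simp⟩
    obtain ⟨o, c, -, hoc⟩ := exists_cvec hF (u := tInv x *ᵥ v)
      (fun h => hv0 (by rw [← tMat_tInv_mulVec hF (x := x) v, h, mulVec_zero]))
      (by rw [← herm_tMat hF hx, tMat_tInv_mulVec hF, hv])
    obtain ⟨d, -, he⟩ := (exists_img hF hx g o).choose_spec
    change cmat x g *ᵥ cvec o = d • cvec (act hF hx g o) at he
    rw [← pHom_apply, hg, Equiv.Perm.one_apply] at he
    refine ⟨d, ?_⟩
    rw [← tMat_tInv_mulVec hF (x := x) v, ← tMat_cmat_mulVec hF, hoc, mulVec_smul, he, mulVec_smul,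
      mulVec_smul, mulVec_smul, smul_comm]
  · rintro ⟨l, hl⟩
    refine Equiv.ext fun o => act_eq hF hx (c := l) ?_
    rw [Equiv.Perm.one_apply, cmat, ← mulVec_mulVec, ← mulVec_mulVec, hl, mulVec_smul,
      tInv_tMat_mulVec hF]

/-- The image is `PSU₃(q)`. -/
noncomputable def rangeEquiv : (pHom hF hx).range ≃* Cfsg.PSU 3 F (2 ^ n) :=
  (QuotientGroup.quotientKerEquivRange (pHom hF hx)).symm.trans
    (QuotientGroup.quotientMulEquivOfEq (ker_pHom hF hx))

/-- The translation by a pair. -/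
def tr (p : Pairs F (2 ^ n)) : Cfsg.SU 3 F (2 ^ n) := ⟨sl hF x p, sl_mem hF hx p⟩

theorem cmat_tr (p : Pairs F (2 ^ n)) : cmat x (tr hF hx p) = mMat (2 ^ n) p.1.1 p.1.2 := by
  show tInv x * (tMat x * mMat (2 ^ n) p.1.1 p.1.2 * tInv x) * tMat x = _
  simp only [← mul_assoc, tInv_mul_tMat hF, one_mul]
  rw [mul_assoc, tInv_mul_tMat hF, mul_one]

theorem act_tr_none (p : Pairs F (2 ^ n)) : act hF hx (tr hF hx p) none = none :=
  act_eq hF hx (c := 1) (by
    rw [cmat_tr]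
    ext i; fin_cases i <;> simp [cvec, mMat, mulVec, dotProduct, Fin.sum_univ_three])

theorem act_tr_some (p r s : Pairs F (2 ^ n))
    (hs : s.1 = (p.1.1 + r.1.1, p.1.2 + r.1.2 + p.1.1 ^ 2 ^ n * r.1.1)) :
    act hF hx (tr hF hx p) (some r) = some s :=
  act_eq hF hx (c := 1) (by
    rw [cmat_tr]
    ext i; fin_cases i <;> simp [cvec, hs, mMat, mulVec, dotProduct, Fin.sum_univ_three] <;> ring)

/-- The matrix of `w₀` in the hyperbolic basis. -/
def jMat : Matrix (Fin 3) (Fin 3) F := !![0, 0, 1; 0, 1, 0; 1, 0, 0]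

include hF in
theorem det_w0 : (tMat x * (jMat (F := F)) * tInv x).det = 1 := by
  haveI := charP_two hF
  rw [det_mul_comm, ← mul_assoc, tInv_mul_tMat hF, one_mul]
  simp [jMat, det_fin_three, CharTwo.neg_eq]

include hx in
theorem w0_mem :
    (⟨tMat x * jMat * tInv x, det_w0 hF⟩ : Matrix.SpecialLinearGroup (Fin 3) F) ∈ Cfsg.SU 3 F (2 ^ n) := by
  have hj : ∀ u v : Fin 3 → F, hyp (2 ^ n) (jMat *ᵥ u) (jMat *ᵥ v) = hyp (2 ^ n) u v := fun u v => by
    simp [hyp, jMat, mulVec, dotProduct, Fin.sum_univ_three]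
    ring
  refine mem_SU_iff.2 fun u v => ?_
  show Cfsg.hermForm 3 F (2 ^ n) ((tMat x * jMat * tInv x) *ᵥ u) ((tMat x * jMat * tInv x) *ᵥ v) = _
  rw [← mulVec_mulVec, ← mulVec_mulVec, ← mulVec_mulVec, ← mulVec_mulVec, herm_tMat hF hx, hj,
    ← herm_tMat hF hx, tMat_tInv_mulVec hF, tMat_tInv_mulVec hF]

/-- The element exchanging `∞` and the origin. -/
def w0 : Cfsg.SU 3 F (2 ^ n) := ⟨⟨tMat x * jMat * tInv x, det_w0 hF⟩, w0_mem hF hx⟩

theorem cmat_w0 : cmat x (w0 hF hx) = jMat := by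
  show tInv x * (tMat x * jMat * tInv x) * tMat x = _
  simp only [← mul_assoc, tInv_mul_tMat hF, one_mul]
  rw [mul_assoc, tInv_mul_tMat hF, mul_one]

theorem act_w0_none (z : Pairs F (2 ^ n)) (hz : z.1 = (0, 0)) :
    act hF hx (w0 hF hx) none = some z :=
  act_eq hF hx (c := 1) (by
    rw [cmat_w0]
    ext i; fin_cases i <;> simp [cvec, hz, jMat, mulVec, dotProduct, Fin.sum_univ_three])

theorem act_w0_zero (z : Pairs F (2 ^ n)) (hz : z.1 = (0, 0)) :
    act hF hx (w0 hF hx) (some z) = none :=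
  act_eq hF hx (c := 1) (by
    rw [cmat_w0]
    ext i; fin_cases i <;> simp [cvec, hz, jMat, mulVec, dotProduct, Fin.sum_univ_three])

theorem act_w0_some (p r : Pairs F (2 ^ n)) (hp : p.1.2 ≠ 0)
    (hr : r.1 = (p.1.1 / p.1.2, p.1.2⁻¹)) : act hF hx (w0 hF hx) (some p) = some r :=
  act_eq hF hx (c := p.1.2) (by
    rw [cmat_w0]
    ext i
    fin_cases i <;>
      simp [cvec, hr, jMat, mulVec, dotProduct, Fin.sum_univ_three, hp, mul_div_cancel₀])

/-- The translations and `w₀`. -/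
def gens : Set (Cfsg.SU 3 F (2 ^ n)) := Set.range (tr hF hx) ∪ {w0 hF hx}

theorem exists_gen_none (o : Option (Pairs F (2 ^ n))) :
    ∃ h ∈ Subgroup.closure (gens hF hx), act hF hx h none = o := by
  rcases o with _ | p
  · exact ⟨1, one_mem _, act_one hF hx none⟩
  · let z : Pairs F (2 ^ n) := ⟨(0, 0), by simp [zero_pow_q hF]⟩
    refine ⟨tr hF hx p * w0 hF hx, mul_mem (Subgroup.subset_closure (Or.inl ⟨p, rfl⟩))
      (Subgroup.subset_closure (Or.inr rfl)), ?_⟩
    rw [act_mul, act_w0_none hF hx z rfl, act_tr_some hF hx p z p (by simp [z])]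

theorem closure_gens (hn : 2 ≤ n) : Subgroup.closure (gens hF hx) = ⊤ := by
  have h32 : ¬ (3 = 3 ∧ 2 ^ n = 2) := fun h => by
    have : 2 ^ 2 ≤ 2 ^ n := Nat.pow_le_pow_right two_pos hn
    omega
  rw [eq_top_iff, ← suTransvections_closure hF le_rfl h32, Subgroup.closure_le]
  rintro A ⟨v, c, hv, hc, hA⟩
  rcases eq_or_ne v 0 with rfl | hv0
  · rw [show A = 1 from suToGU_injective (by rw [map_one]; exact GU_ext fun y => by rw [hA]; simp)]
    exact one_mem _
  obtain ⟨o, d, -, hod⟩ := exists_cvec hF (u := tInv x *ᵥ v)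
    (fun h => hv0 (by rw [← tMat_tInv_mulVec hF (x := x) v, h, mulVec_zero]))
    (by rw [← herm_tMat hF hx, tMat_tInv_mulVec hF, hv])
  obtain ⟨h, hh, hho⟩ := exists_gen_none hF hx o
  obtain ⟨d', hd', hhe⟩ := (exists_img hF hx h none).choose_spec
  change cmat x h *ᵥ cvec none = d' • cvec (act hF hx h none) at hhe
  rw [hho] at hhe
  set e₁ : Fin 3 → F := tMat x *ᵥ cvec (none : Option (Pairs F (2 ^ n))) with he₁
  set k := d * d'⁻¹ with hk
  have hvk : v = k • (h.1.1 *ᵥ e₁) := by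
    rw [he₁, ← tMat_cmat_mulVec hF, hhe, mulVec_smul, smul_smul, hk, inv_mul_cancel_right₀ hd',
      ← mulVec_smul, ← hod, tMat_tInv_mulVec hF]
  set c' := c * (k * k ^ 2 ^ n) with hc'
  have hc'f : c' + c' ^ 2 ^ n = (0 : F) * (0 : F) ^ 2 ^ n := by
    rw [hc', mul_pow c (k * k ^ 2 ^ n), norm_fixed hF, ← add_mul, hc, zero_mul, zero_mul]
  let p : Pairs F (2 ^ n) := ⟨(0, c'), hc'f⟩
  have hconj : A = h * tr hF hx p * h⁻¹ := by
    apply suToGU_injective
    refine GU_ext fun y => ?_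
    rw [map_mul, map_mul, map_inv, GU_mul_mulVec, GU_mul_mulVec, hA]
    set g := suToGU 3 F (2 ^ n) h with hg
    set u := tInv x *ᵥ (g⁻¹.1.1 *ᵥ y) with hu
    have htr : (suToGU 3 F (2 ^ n) (tr hF hx p)).1.1 *ᵥ (g⁻¹.1.1 *ᵥ y) =
        g⁻¹.1.1 *ᵥ y + (c' * hermForm 3 F (2 ^ n) (g⁻¹.1.1 *ᵥ y) e₁) • e₁ := by
      rw [suToGU_val, ← tMat_tInv_mulVec hF (x := x) (g⁻¹.1.1 *ᵥ y), ← hu, ← tMat_cmat_mulVec hF,
        cmat_tr, he₁, herm_tMat hF hx, ← mulVec_smul, ← mulVec_add]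
      congr 1
      ext i
      fin_cases i <;>
        simp [p, cvec, hyp, mMat, mulVec, dotProduct, Fin.sum_univ_three, zero_pow_q hF]
    have hge : g.1.1 *ᵥ e₁ = h.1.1 *ᵥ e₁ := by rw [hg, suToGU_val]
    have hherm := GU_herm (g⁻¹.1.1 *ᵥ y) e₁ g
    rw [GU_mulVec_inv, hge] at hherm
    rw [htr, Matrix.mulVec_add, Matrix.mulVec_smul, GU_mulVec_inv, hge, hvk, herm_smul_right, hherm,
      smul_smul, hc']
    congr 2
    ring
  rw [hconj]
  exact mul_mem (mul_mem hh (Subgroup.subset_closure (Or.inl ⟨p, rfl⟩))) (inv_mem hh)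

end Cfsg.Agent.Lib.RankOneIdent.PSU3.Model
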