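import Cfsg.Agent.Lib.RankOneIdent.PSU3.Data

/-!
# The unitary case: the group of the chord

`L₀ = ⟨Z₀, t⟩` is `{z k} ∪ {z t k z'}` of order `q³ - q`, commutes with `wEl`, stabilises the chord
`B = {a} ∪ Z₀ b` and is regular on the points outside it.
-/

set_option autoImplicit false
set_option linter.unusedSectionVars false
set_option linter.style.haveILetI false

namespace Cfsg.Agent.Lib.RankOneIdent.PSU3

open Cfsg.Agent.Lib.RankOne.Involution Cfsg.Agent.Lib.RankOne.Basic MulAction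
open Cfsg.Agent.Lib.BenderSuzuki Cfsg.Agent.Lib.Unitary Cfsg.Agent.Lib.U3Sylow

variable {G Ω : Type*} [Group G] [MulAction G Ω] [Finite G] {a : Ω} {t : G} {Q : Subgroup G} {F : Type}
  [Field F] [Fintype F] {n : ℕ} {c : G → F × F}

namespace UNorm

variable (U : UNorm G Ω a t Q F n c)
include U

/-- The point of `Q`-coordinate `x`. -/
def pt (_U : UNorm G Ω a t Q F n c) (x : Q) : Ω := (x : G) • (t • a)

theorem pt_injective : Function.Injective U.pt := fun x y h =>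
  Subtype.ext (Q_smul_inj U.setup x.2 y.2 (b_ne U.setup) h)

theorem pt_ne (x : Q) : U.pt x ≠ a := Q_smul_b_ne U.setup x.2

theorem pt_one : U.pt 1 = t • a := by show ((1 : Q) : G) • (t • a) = _; rw [Subgroup.coe_one, one_smul]

theorem exists_pt {p : Ω} (hp : p ≠ a) : ∃ x : Q, U.pt x = p := by
  obtain ⟨x, hx, h⟩ := Q_trans U.setup (b_ne U.setup) hp
  exact ⟨⟨x, hx⟩, h⟩

theorem smul_pt (y x : Q) : (y : G) • U.pt x = U.pt (y * x) := (mul_smul _ _ _).symm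

theorem D_pt {d : G} (hd : d ∈ twoStab G a t) (x : Q) : d • U.pt x = U.pt (conjQ U.setup hd x) :=
  (conjQ_smul U.setup hd x).symm

theorem t_pt {x : Q} (hx : x ≠ 1) : t • U.pt x = U.pt (fmap U.setup x) := (fmap_spec U.setup hx).symm

/-- Elements of the two-point stabiliser acting alike on `Q` are equal. -/
theorem D_ext {d e : G} (hd : d ∈ twoStab G a t) (he : e ∈ twoStab G a t)
    (h : ∀ x : Q, conjQ U.setup hd x = conjQ U.setup he x) : d = e := by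
  haveI := U.faithful
  refine FaithfulSMul.eq_of_smul_eq_smul (α := Ω) fun p => ?_
  by_cases hp : p = a
  · rw [hp, hd.1, he.1]
  · obtain ⟨x, rfl⟩ := U.exists_pt hp
    rw [U.D_pt hd, U.D_pt he, h]

theorem kEl_mul {l m : F} (hl : l ^ 2 ^ n = l) (hl0 : l ≠ 0) (hm : m ^ 2 ^ n = m) (hm0 : m ≠ 0) :
    U.kEl l * U.kEl m = U.kEl (l * m) := by
  have hlm : (l * m) ^ 2 ^ n = l * m := by rw [mul_pow, hl, hm]
  refine U.D_ext (mul_mem (U.kEl_D l) (U.kEl_D m)) (U.kEl_D _) fun x => ?_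
  have hh : conjQ U.setup (mul_mem (U.kEl_D l) (U.kEl_D m)) x =
      conjQ U.setup (U.kEl_D l) (conjQ U.setup (U.kEl_D m) x) :=
    Subtype.ext (by simp only [conjQ_coe]; group)
  obtain ⟨e1, e2⟩ := U.coord_kEl hlm (mul_ne_zero hl0 hm0) x
  obtain ⟨f1, f2⟩ := U.coord_kEl hl hl0 (conjQ U.setup (U.kEl_D m) x)
  obtain ⟨g1, g2⟩ := U.coord_kEl hm hm0 x
  rw [hh]
  exact U.ext (by rw [f1, g1, e1]; ring) (by rw [f2, g2, e2]; ring)

theorem kEl_one : U.kEl 1 = 1 := by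
  refine U.D_ext (U.kEl_D 1) (twoStab G a t).one_mem fun x => ?_
  obtain ⟨e1, e2⟩ := U.coord_kEl (one_pow _) one_ne_zero x
  rw [show conjQ U.setup (twoStab G a t).one_mem x = x from Subtype.ext (by simp [conjQ_coe])]
  exact U.ext (by rw [e1, one_mul]) (by rw [e2, one_pow, one_mul])

theorem kEl_inv {l : F} (hl : l ^ 2 ^ n = l) (hl0 : l ≠ 0) : (U.kEl l)⁻¹ = U.kEl l⁻¹ :=
  inv_eq_of_mul_eq_one_right (by
    rw [U.kEl_mul hl hl0 (by rw [inv_pow, hl]) (inv_ne_zero hl0), mul_inv_cancel₀ hl0, U.kEl_one])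

theorem zEl_mul {z z' : F} (hz : z ^ 2 ^ n = z) (hz' : z' ^ 2 ^ n = z') :
    U.zEl z * U.zEl z' = U.zEl (z + z') := by
  refine U.ext ?_ ?_
  · rw [U.xC_mul, U.xC_zEl, U.xC_zEl, U.xC_zEl, add_zero]
  · rw [U.yC_mul, U.yC_zEl hz, U.yC_zEl hz', U.yC_zEl (by rw [U.bar_add, hz, hz']), U.xC_zEl,
      U.bar_zero, zero_mul, add_zero]

theorem zEl_inv (z : F) : (U.zEl z)⁻¹ = U.zEl z :=
  inv_eq_of_mul_eq_one_left (U.mul_self_eq_one_iff.2 (U.xC_zEl z))

theorem kEl_conj_zEl {l z : F} (hl : l ^ 2 ^ n = l) (hl0 : l ≠ 0) (hz : z ^ 2 ^ n = z) :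
    U.kEl l * (U.zEl z : G) = (U.zEl (l ^ 2 * z) : G) * U.kEl l := by
  have h : conjQ U.setup (U.kEl_D l) (U.zEl z) = U.zEl (l ^ 2 * z) := by
    obtain ⟨e1, e2⟩ := U.coord_kEl hl hl0 (U.zEl z)
    exact U.ext (by rw [e1, U.xC_zEl, U.xC_zEl, mul_zero])
      (by rw [e2, U.yC_zEl hz, U.yC_zEl (by rw [mul_pow, hz, ← pow_mul, mul_comm 2, pow_mul, hl])])
  exact mul_inv_eq_iff_eq_mul.1 (congrArg Subtype.val h)

/-- The structure equation for every central involution. -/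
theorem t_zEl_t {z : F} (hz : z ^ 2 ^ n = z) (h0 : z ≠ 0) :
    t * (U.zEl z : G) * t = (U.zEl z⁻¹ : G) * (t * U.kEl z) * (U.zEl z⁻¹ : G) := by
  have hS := U.setup
  set w := t * (U.zEl z : G) * t with hw
  have hzz : (U.zEl z : G) * U.zEl z = 1 :=
    congrArg Subtype.val (U.mul_self_eq_one_iff.2 (U.xC_zEl z))
  have hw2 : w * w = 1 := by
    rw [hw, show t * (U.zEl z : G) * t * (t * (U.zEl z : G) * t) =
      t * ((U.zEl z : G) * (t * t) * U.zEl z) * t by group, hS.mul_self, mul_one, hzz, mul_one,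
      hS.mul_self]
  have hwa : w • a = U.pt (U.zEl z⁻¹) := by
    rw [hw, mul_smul, mul_smul, ← U.fmap_zEl hz h0]
    exact U.t_pt (U.zEl_ne_one hz h0)
  obtain ⟨r, hr, k, hk, hrk⟩ := exists_rk hS hw2 (by rw [hwa]; exact U.pt_ne _)
  have hr' : (⟨r⁻¹, Q.inv_mem hr⟩ : Q) = U.zEl z⁻¹ := by
    refine U.pt_injective ?_
    rw [← hwa, hrk, mul_smul, mul_smul, Q_fix hS hr, mul_smul, (mem_twoStab.1 hk.1).1]
    rfl
  have hr'' : r = (U.zEl z⁻¹ : G) := by
    have := congrArg (fun x : Q => ((x⁻¹ : Q) : G)) hr'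
    simpa [U.zEl_inv] using this
  subst hr''
  rw [← Subgroup.coe_inv, U.zEl_inv] at hrk
  obtain ⟨l, hl, hl0, rfl⟩ := U.exists_eq_kEl hk
  -- evaluate at a third central point
  obtain ⟨x, hx, hx0, hxz⟩ : ∃ x : F, x ^ 2 ^ n = x ∧ x ≠ 0 ∧ x ≠ z⁻¹ := by
    classical
    by_contra hne
    push Not at hne
    have hcard := card_fixed U.hF
    have hle : Nat.card {x : F // x ^ 2 ^ n = x} ≤ ({0, z⁻¹} : Finset F).card := by
      rw [Nat.card_eq_fintype_card, Fintype.card_subtype]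
      refine Finset.card_le_card fun y hy => ?_
      rw [Finset.mem_filter] at hy
      by_cases hy0 : y = 0
      · simp [hy0]
      · simp [hne y hy.2 hy0]
    rw [hcard] at hle
    have := Finset.card_le_two (a := (0 : F)) (b := z⁻¹)
    have := U.toUData.four_le
    omega
  have hzi : z⁻¹ ^ 2 ^ n = z⁻¹ := by rw [inv_pow, hz]
  have hxi : x⁻¹ ^ 2 ^ n = x⁻¹ := by rw [inv_pow, hx]
  have hs : (z + x⁻¹) ^ 2 ^ n = z + x⁻¹ := by rw [U.bar_add, hz, hxi]
  have hs0 : z + x⁻¹ ≠ 0 := fun h => hxz (by rw [U.toUData.add_eq_zero'.1 h, inv_inv])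
  have hu : (z⁻¹ + x) ^ 2 ^ n = z⁻¹ + x := by rw [U.bar_add, hzi, hx]
  have hu0 : z⁻¹ + x ≠ 0 := fun h => hxz (U.toUData.add_eq_zero'.1 h).symm
  have hlu : (l ^ 2 * (z⁻¹ + x)) ^ 2 ^ n = l ^ 2 * (z⁻¹ + x) := by
    rw [mul_pow, hu, ← pow_mul, mul_comm 2, pow_mul, hl]
  have hlu0 : l ^ 2 * (z⁻¹ + x) ≠ 0 := mul_ne_zero (pow_ne_zero 2 hl0) hu0
  have hev := congrArg (fun g : G => g • U.pt (U.zEl x)) hrk
  simp only [hw, mul_smul] at hev
  rw [U.t_pt (U.zEl_ne_one hx hx0), U.fmap_zEl hx hx0, U.smul_pt, U.zEl_mul hz hxi,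
    U.t_pt (U.zEl_ne_one hs hs0), U.fmap_zEl hs hs0, U.smul_pt, U.zEl_mul hzi hx,
    U.D_pt (U.kEl_D l)] at hev
  have hc : conjQ U.setup (U.kEl_D l) (U.zEl (z⁻¹ + x)) = U.zEl (l ^ 2 * (z⁻¹ + x)) := by
    obtain ⟨e1, e2⟩ := U.coord_kEl hl hl0 (U.zEl (z⁻¹ + x))
    exact U.ext (by rw [e1, U.xC_zEl, U.xC_zEl, mul_zero])
      (by rw [e2, U.yC_zEl hu, U.yC_zEl hlu])
  rw [hc, U.t_pt (U.zEl_ne_one hlu hlu0), U.fmap_zEl hlu hlu0, U.smul_pt,
    U.zEl_mul hzi (by rw [inv_pow, hlu])] at hev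
  have hval := congrArg U.yC (U.pt_injective hev)
  rw [U.yC_zEl (by rw [inv_pow, hs]), U.yC_zEl (by rw [U.bar_add, inv_pow, hz, inv_pow, hlu])] at hval
  have hlz : l = z := by
    have h2 := U.toUData.two_zero
    have e : l ^ 2 = z ^ 2 := by
      set u := z⁻¹ + x with hudef
      have e1 : (z + x⁻¹)⁻¹ * (z * u) = x := by
        rw [inv_mul_eq_iff_eq_mul₀ hs0, hudef]
        field_simp
        ring
      have e2 : (l ^ 2 * u)⁻¹ * (l ^ 2 * u) = 1 := inv_mul_cancel₀ hlu0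
      have e3 : z * z⁻¹ = 1 := mul_inv_cancel₀ h0
      have e4 : x * l ^ 2 = u * l ^ 2 + z := by
        linear_combination (z * u * l ^ 2) * hval - l ^ 2 * e1 + (u * l ^ 2) * e3 + z * e2
      linear_combination z * e4 + (-(l ^ 2)) * e3 + (l ^ 2 * z * z⁻¹) * h2
    haveI := U.toUData.char_two
    exact CharTwo.sq_injective e
  rw [hlz] at hrk
  exact hrk

/-- The group of the chord `B`. -/
def L₀ (_U : UNorm G Ω a t Q F n c) : Subgroup G :=
  Subgroup.closure ({g | ∃ z : F, z ^ 2 ^ n = z ∧ g = (_U.zEl z : G)} ∪ {t})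

theorem zEl_mem_L₀ {z : F} (hz : z ^ 2 ^ n = z) : (U.zEl z : G) ∈ U.L₀ :=
  Subgroup.subset_closure (Or.inl ⟨z, hz, rfl⟩)

theorem t_mem_L₀ : t ∈ U.L₀ := Subgroup.subset_closure (Or.inr rfl)

theorem kEl_mem_L₀ {l : F} (hl : l ^ 2 ^ n = l) (hl0 : l ≠ 0) : U.kEl l ∈ U.L₀ := by
  have hli : l⁻¹ ^ 2 ^ n = l⁻¹ := by rw [inv_pow, hl]
  have h := U.t_zEl_t hl hl0
  have e : U.kEl l = t⁻¹ * ((U.zEl l⁻¹ : G)⁻¹ * (t * (U.zEl l : G) * t) * (U.zEl l⁻¹ : G)⁻¹) := by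
    rw [h]; group
  rw [e]
  refine mul_mem (inv_mem U.t_mem_L₀) (mul_mem (mul_mem (inv_mem (U.zEl_mem_L₀ hli)) ?_)
    (inv_mem (U.zEl_mem_L₀ hli)))
  exact mul_mem (mul_mem U.t_mem_L₀ (U.zEl_mem_L₀ hl)) U.t_mem_L₀

/-- The normal forms of the elements of `L₀`. -/
def IsForm (_U : UNorm G Ω a t Q F n c) (g : G) : Prop :=
  (∃ z l : F, z ^ 2 ^ n = z ∧ l ^ 2 ^ n = l ∧ l ≠ 0 ∧ g = (_U.zEl z : G) * _U.kEl l) ∨
    ∃ z l z' : F, z ^ 2 ^ n = z ∧ l ^ 2 ^ n = l ∧ l ≠ 0 ∧ z' ^ 2 ^ n = z' ∧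
      g = (_U.zEl z : G) * (t * _U.kEl l) * (_U.zEl z' : G)

theorem isForm_zEl_mul {z₀ : F} (hz₀ : z₀ ^ 2 ^ n = z₀) {g : G} (h : U.IsForm g) :
    U.IsForm ((U.zEl z₀ : G) * g) := by
  rcases h with ⟨z, l, hz, hl, hl0, rfl⟩ | ⟨z, l, z', hz, hl, hl0, hz', rfl⟩
  · exact Or.inl ⟨z₀ + z, l, by rw [U.bar_add, hz₀, hz], hl, hl0,
      by rw [← U.zEl_mul hz₀ hz, Subgroup.coe_mul, mul_assoc]⟩
  · exact Or.inr ⟨z₀ + z, l, z', by rw [U.bar_add, hz₀, hz], hl, hl0, hz',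
      by rw [← U.zEl_mul hz₀ hz, Subgroup.coe_mul]; group⟩

theorem isForm_t_mul {g : G} (h : U.IsForm g) : U.IsForm (t * g) := by
  rcases h with ⟨z, l, hz, hl, hl0, rfl⟩ | ⟨z, l, z', hz, hl, hl0, hz', rfl⟩
  · have hz2 : (z / l ^ 2) ^ 2 ^ n = z / l ^ 2 := by
      rw [div_pow, hz, ← pow_mul, mul_comm 2, pow_mul, hl]
    refine Or.inr ⟨0, l, z / l ^ 2, U.toUData.bar_zero, hl, hl0, hz2, ?_⟩
    rw [U.zEl_zero, Subgroup.coe_one, one_mul, mul_assoc t, U.kEl_conj_zEl hl hl0 hz2,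
      mul_div_cancel₀ _ (pow_ne_zero 2 hl0)]
  · by_cases hz0 : z = 0
    · have hz2 : (l ^ 2 * z') ^ 2 ^ n = l ^ 2 * z' := by
        rw [mul_pow, hz', ← pow_mul, mul_comm 2, pow_mul, hl]
      refine Or.inl ⟨l ^ 2 * z', l, hz2, hl, hl0, ?_⟩
      rw [hz0, U.zEl_zero, Subgroup.coe_one, one_mul, mul_assoc, tt_mul U.setup,
        U.kEl_conj_zEl hl hl0 hz']
    · have hzi : z⁻¹ ^ 2 ^ n = z⁻¹ := by rw [inv_pow, hz]
      have hz2 : (z⁻¹ / l ^ 2) ^ 2 ^ n = z⁻¹ / l ^ 2 := by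
        rw [div_pow, hzi, ← pow_mul, mul_comm 2, pow_mul, hl]
      refine Or.inr ⟨z⁻¹, z * l, z⁻¹ / l ^ 2 + z', hzi, by rw [mul_pow, hz, hl],
        mul_ne_zero hz0 hl0, by rw [U.bar_add, hz2, hz'], ?_⟩
      rw [← U.zEl_mul hz2 hz', Subgroup.coe_mul, ← U.kEl_mul hz hz0 hl hl0]
      have h1 := U.kEl_conj_zEl hl hl0 hz2
      rw [mul_div_cancel₀ _ (pow_ne_zero 2 hl0)] at h1
      calc t * ((U.zEl z : G) * (t * U.kEl l) * (U.zEl z' : G))
          = t * (U.zEl z : G) * t * (U.kEl l * (U.zEl z' : G)) := by group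
        _ = (U.zEl z⁻¹ : G) * (t * U.kEl z) * ((U.zEl z⁻¹ : G) * U.kEl l) * (U.zEl z' : G) := by
              rw [U.t_zEl_t hz hz0]; group
        _ = _ := by rw [← h1]; group

theorem isForm_of_mem {g : G} (hg : g ∈ U.L₀) : U.IsForm g := by
  induction hg using Subgroup.closure_induction_left with
  | one =>
    exact Or.inl ⟨0, 1, U.toUData.bar_zero, one_pow _, one_ne_zero,
      by rw [U.zEl_zero, U.kEl_one, Subgroup.coe_one, mul_one]⟩
  | mul_left x hx y _ ih =>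
    rcases hx with ⟨z, hz, rfl⟩ | hx
    · exact U.isForm_zEl_mul hz ih
    · rw [Set.mem_singleton_iff.1 hx]; exact U.isForm_t_mul ih
  | inv_mul_cancel x hx y _ ih =>
    rcases hx with ⟨z, hz, rfl⟩ | hx
    · rw [← Subgroup.coe_inv, U.zEl_inv]; exact U.isForm_zEl_mul hz ih
    · rw [Set.mem_singleton_iff.1 hx, t_inv U.setup]; exact U.isForm_t_mul ih

theorem mem_of_isForm {g : G} (hg : U.IsForm g) : g ∈ U.L₀ := by
  rcases hg with ⟨z, l, hz, hl, hl0, rfl⟩ | ⟨z, l, z', hz, hl, hl0, hz', rfl⟩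
  · exact mul_mem (U.zEl_mem_L₀ hz) (U.kEl_mem_L₀ hl hl0)
  · exact mul_mem (mul_mem (U.zEl_mem_L₀ hz) (mul_mem U.t_mem_L₀ (U.kEl_mem_L₀ hl hl0)))
      (U.zEl_mem_L₀ hz')

theorem wEl_comm_L₀ {g : G} (hg : g ∈ U.L₀) : U.wEl * g = g * U.wEl := by
  induction hg using Subgroup.closure_induction with
  | mem x hx =>
    rcases hx with ⟨z, -, rfl⟩ | hx
    · exact U.wEl_central (U.xC_zEl z)
    · rw [Set.mem_singleton_iff.1 hx]; exact U.t_wEl.symm
  | one => simp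
  | mul x y _ _ ihx ihy => rw [← mul_assoc, ihx, mul_assoc, ihy, mul_assoc]
  | inv x _ ih => exact (Commute.inv_right ih).eq

/-- The chord through `a` and `b`. -/
def chordB (_U : UNorm G Ω a t Q F n c) : Set Ω :=
  insert a {p | ∃ x : Q, _U.xC x = 0 ∧ p = _U.pt x}

theorem pt_mem_B {x : Q} : U.pt x ∈ U.chordB ↔ U.xC x = 0 := by
  constructor
  · rintro (h | ⟨y, hy, h⟩)
    · exact absurd h (U.pt_ne x)
    · rwa [U.pt_injective h]
  · exact fun h => Or.inr ⟨x, h, rfl⟩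

theorem B_gen_inv {p : Ω} (hp : p ∈ U.chordB) :
    t • p ∈ U.chordB ∧ ∀ z : F, (U.zEl z : G) • p ∈ U.chordB := by
  rcases hp with rfl | ⟨x, hx, rfl⟩
  · refine ⟨by rw [← U.pt_one]; exact U.pt_mem_B.2 U.toUData.xC_one, fun z => ?_⟩
    rw [Q_fix U.setup (U.zEl z).2]
    exact Or.inl rfl
  · refine ⟨?_, fun z => by rw [U.smul_pt, U.pt_mem_B, U.xC_mul, U.xC_zEl, hx, add_zero]⟩
    by_cases h1 : x = 1
    · rw [h1, U.pt_one, tt_smul U.setup]; exact Or.inl rfl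
    · rw [U.t_pt h1, U.pt_mem_B]; exact U.toUData.fmap_central hx

theorem L₀_smul_B {g : G} (hg : g ∈ U.L₀) : ∀ p : Ω, g • p ∈ U.chordB ↔ p ∈ U.chordB := by
  induction hg using Subgroup.closure_induction with
  | mem x hx =>
    intro p
    rcases hx with ⟨z, hz, rfl⟩ | hx
    · refine ⟨fun h => ?_, fun h => (U.B_gen_inv h).2 z⟩
      have h' := (U.B_gen_inv h).2 z
      rwa [← mul_smul, ← Subgroup.coe_mul, U.mul_self_eq_one_iff.2 (U.xC_zEl z), Subgroup.coe_one,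
        one_smul] at h'
    · rw [Set.mem_singleton_iff.1 hx]
      refine ⟨fun h => ?_, fun h => (U.B_gen_inv h).1⟩
      have h' := (U.B_gen_inv h).1
      rwa [tt_smul U.setup] at h'
  | one => simp
  | mul x y _ _ ihx ihy => intro p; rw [mul_smul, ihx, ihy]
  | inv x _ ih => intro p; conv_rhs => rw [← smul_inv_smul x p, ih]

/-- An element of `L₀` fixing a point outside `B` is trivial. -/
theorem semiregular {g : G} (hg : g ∈ U.L₀) {p : Ω} (hp : p ∉ U.chordB) (hfix : g • p = p) :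
    g = 1 := by
  obtain ⟨x, rfl⟩ := U.exists_pt (fun h => hp (Or.inl h))
  rw [U.pt_mem_B] at hp
  rcases U.isForm_of_mem hg with ⟨z, l, hz, hl, hl0, rfl⟩ | ⟨z, l, z', hz, hl, hl0, hz', rfl⟩
  · rw [mul_smul, U.D_pt (U.kEl_D l), U.smul_pt] at hfix
    have hfix' := U.pt_injective hfix
    obtain ⟨e1, e2⟩ := U.coord_kEl hl hl0 x
    have h1 := congrArg U.xC hfix'
    rw [U.xC_mul, U.xC_zEl, zero_add, e1] at h1
    have hl1 : l = 1 := (mul_eq_right₀ hp).1 h1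
    subst hl1
    have h2 := congrArg U.yC hfix'
    rw [U.yC_mul, U.yC_zEl hz, e2, U.xC_zEl, U.toUData.bar_zero] at h2
    have hz0 : z = 0 := by linear_combination h2
    rw [hz0, U.zEl_zero, U.kEl_one, Subgroup.coe_one, mul_one]
  · exfalso
    have hS := U.setup
    -- `g = j (j g)` is a product of two involutions
    set g := (U.zEl z : G) * (t * U.kEl l) * (U.zEl z' : G) with hgdef
    have hsum : (z + z') ^ 2 ^ n = z + z' := by rw [U.bar_add, hz, hz']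
    set j : G := ((U.zEl (z + z') : Q) : G) with hj
    have hjj : j * j = 1 := congrArg Subtype.val (U.mul_self_eq_one_iff.2 (U.xC_zEl (z + z')))
    have hjz : j * (U.zEl z : G) = (U.zEl z' : G) := by
      rw [hj, ← Subgroup.coe_mul, U.zEl_mul hsum hz, add_right_comm, U.toUData.add_self', zero_add]
    have hjg : j * g = (U.zEl z' : G) * (t * U.kEl l) * (U.zEl z' : G) := by
      rw [hgdef, ← mul_assoc, ← mul_assoc, hjz]
    have htk : t * U.kEl l * (t * U.kEl l) = 1 := by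
      rw [← mul_assoc, show t * U.kEl l * t = (U.kEl l)⁻¹ from U.toUData.t_kEl l, inv_mul_cancel]
    have hzz : (U.zEl z' : G) * U.zEl z' = 1 :=
      congrArg Subtype.val (U.mul_self_eq_one_iff.2 (U.xC_zEl z'))
    have hjg2 : j * g * (j * g) = 1 := by
      rw [hjg]
      calc _ = (U.zEl z' : G) * (t * U.kEl l) * ((U.zEl z' : G) * U.zEl z') * (t * U.kEl l) *
            (U.zEl z' : G) := by group
        _ = (U.zEl z' : G) * (t * U.kEl l * (t * U.kEl l)) * (U.zEl z' : G) := by rw [hzz]; group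
        _ = 1 := by rw [htk, mul_one, hzz]
    have hga : g • a ≠ a := by
      rw [hgdef, mul_smul, mul_smul, Q_fix hS (U.zEl z').2, mul_smul, (U.kEl_D l).1]
      exact fun h => b_ne hS (smul_left_cancel ((U.zEl z : Q) : G) (h.trans (Q_fix hS (U.zEl z).2).symm))
    have hjne : j ≠ 1 := by
      intro hj1
      rw [hj1, one_mul] at hjg hjg2
      have hg1 : g ≠ 1 := fun h => hga (by rw [h, one_smul])
      have hs1 : l⁻¹ ^ 2 ^ n = l⁻¹ := by rw [inv_pow, hl]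
      obtain ⟨d, -, hdu⟩ := exists_fixed hS hg1 hjg2
      have hsfix : (t * U.kEl l) • U.pt (U.zEl l⁻¹) = U.pt (U.zEl l⁻¹) := by
        have hc : conjQ U.setup (U.kEl_D l) (U.zEl l⁻¹) = U.zEl l := by
          obtain ⟨e1, e2⟩ := U.coord_kEl hl hl0 (U.zEl l⁻¹)
          exact U.ext (by rw [e1, U.xC_zEl, U.xC_zEl, mul_zero])
            (by rw [e2, U.yC_zEl hs1, U.yC_zEl hl, sq, mul_assoc, mul_inv_cancel₀ hl0, mul_one])
        rw [mul_smul, U.D_pt (U.kEl_D l), hc, U.t_pt (U.zEl_ne_one hl hl0), U.fmap_zEl hl hl0]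
      have hqfix : g • ((U.zEl z' : G) • U.pt (U.zEl l⁻¹)) = (U.zEl z' : G) • U.pt (U.zEl l⁻¹) := by
        conv_lhs => rw [hjg, mul_smul, ← mul_smul (U.zEl z' : G) (U.zEl z' : G), hzz, one_smul,
          mul_smul, hsfix]
      apply hp
      rw [← U.pt_mem_B, hdu _ hfix, ← hdu _ hqfix, U.L₀_smul_B (U.zEl_mem_L₀ hz'), U.pt_mem_B]
      exact U.xC_zEl _
    -- conjugate the pair `p, j p` to `a, b`
    set p := U.pt x with hpdef
    have hjp : j • p ≠ p := fun h => hjne (congrArg Subtype.val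
      (show (U.zEl (z + z') : Q) = 1 from Subtype.ext (Q_free hS (U.zEl _).2 (U.pt_ne x) h)))
    have hgj : j * g * j⁻¹ = g⁻¹ := by
      rw [eq_inv_iff_mul_eq_one, inv_eq_self_of_sq hjj]
      calc j * g * j * g = (j * g) * (j * g) := by group
        _ = 1 := hjg2
    have hgjp : g • (j • p) = j • p := by
      have h1 : g⁻¹ • p = p := inv_smul_eq_iff.2 hfix.symm
      have h2 : g * j = j * g⁻¹ := by
        calc g * j = (j * j) * g * j⁻¹ := by rw [hjj, one_mul, inv_eq_self_of_sq hjj]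
          _ = j * (j * g * j⁻¹) := by group
          _ = j * g⁻¹ := by rw [hgj]
      rw [← mul_smul, h2, mul_smul, h1]
    -- a third fixed point
    obtain ⟨q₃, hq3, hq3p, hq3j⟩ : ∃ q₃, g • q₃ = q₃ ∧ q₃ ≠ p ∧ q₃ ≠ j • p := by
      have hwne : ∀ y : Q, U.xC y ≠ 0 → U.wEl • U.pt y ≠ U.pt y := fun y hy h => by
        rw [U.D_pt U.wEl_D] at h
        have := congrArg U.xC (U.pt_injective h)
        rw [(U.coord_wEl y).1] at this
        exact U.toUData.mU_ne_one ((mul_eq_right₀ hy).1 this)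
      have hgw : ∀ q : Ω, g • q = q → g • (U.wEl • q) = U.wEl • q := fun q hq => by
        rw [← mul_smul, ← U.wEl_comm_L₀ hg, mul_smul, hq]
      by_cases h : U.wEl • p = j • p
      · refine ⟨U.wEl • (j • p), hgw _ hgjp, ?_, fun h' => hjp ?_⟩
        · intro h'
          rw [← h, hpdef, U.D_pt U.wEl_D, U.D_pt U.wEl_D] at h'
          have := congrArg U.xC (U.pt_injective h')
          rw [(U.coord_wEl _).1, (U.coord_wEl _).1, ← mul_assoc] at this
          have h2 : U.mU * U.mU = 1 := (mul_eq_right₀ hp).1 this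
          haveI := U.toUData.char_two
          rcases _root_.mul_self_eq_one_iff.1 h2 with h3 | h3
          · exact U.toUData.mU_ne_one h3
          · exact U.toUData.mU_ne_one (by rw [h3, CharTwo.neg_eq])
        · rw [← h] at h'
          exact h.symm.trans (smul_left_cancel U.wEl h')
      · exact ⟨U.wEl • p, hgw _ hfix, hwne x hp, h⟩
    obtain ⟨e, hea, heb⟩ := exists_pair hS hjp.symm (b_ne hS).symm
    set h := e * g * e⁻¹ with hh
    set i := e * j * e⁻¹ with hi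
    clear_value h i
    have hei : e⁻¹ • a = p := inv_smul_eq_iff.2 hea.symm
    have heib : e⁻¹ • (t • a) = j • p := inv_smul_eq_iff.2 heb.symm
    have hia : i • a = t • a := by rw [hi, mul_smul, mul_smul, hei, heb]
    have hib : i • (t • a) = a := by
      rw [hi, mul_smul, mul_smul, heib, ← mul_smul j, hjj, one_smul, hea]
    have hhD : h ∈ twoStab G a t :=
      ⟨by show h • a = a; rw [hh]; rw [mul_smul, mul_smul, hei, hfix, hea],
        by show h • (t • a) = t • a; rw [hh]; rw [mul_smul, mul_smul, heib, hgjp, heb]⟩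
    have hi2 : i * i = 1 := by
      rw [hi, show e * j * e⁻¹ * (e * j * e⁻¹) = e * (j * j) * e⁻¹ by group, hjj]; group
    have hih : i * h * i⁻¹ = h⁻¹ := by
      rw [hi, hh, show e * j * e⁻¹ * (e * g * e⁻¹) * (e * j * e⁻¹)⁻¹ = e * (j * g * j⁻¹) * e⁻¹ by group,
        hgj]
      group
    have htiK : t * i ∈ kSet a t := (mem_invertedBy_iff hS).2
      ⟨by rw [mem_twoStab, mul_smul, mul_smul, hia, hib, tt_smul hS]; exact ⟨rfl, rfl⟩, by
        rw [tt_mul hS, mul_inv_rev, inv_eq_self_of_sq hi2, t_inv hS]⟩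
    obtain ⟨e₀, he₀, hee, -⟩ := exists_sqrtK hS htiK
    have hit : i = e₀⁻¹ * t * e₀ := by
      calc i = t * (t * i) := by rw [tt_mul hS]
        _ = (t * e₀) * e₀ := by rw [← hee]; group
        _ = _ := by rw [t_mul_inverted hS he₀]
    have hk : e₀ * h * e₀⁻¹ ∈ kSet a t := by
      refine ⟨mul_mem (mul_mem he₀.1 hhD) (inv_mem he₀.1), ?_⟩
      calc t * (e₀ * h * e₀⁻¹) * t⁻¹ = e₀ * ((e₀⁻¹ * t * e₀) * h * (e₀⁻¹ * t * e₀)⁻¹) * e₀⁻¹ := by group
        _ = e₀ * h⁻¹ * e₀⁻¹ := by rw [← hit, hih]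
        _ = _ := by group
    have hone := inverted_fix_three hS hk ⟨a, t • a, e₀ • (e • q₃), (b_ne hS).symm, ?_, ?_,
      hk.1.1, hk.1.2, by
        rw [hh, ← mul_smul, ← mul_smul, ← mul_smul,
          show e₀ * (e * g * e⁻¹) * e₀⁻¹ * e₀ * e = e₀ * e * g by group, mul_smul, hq3, mul_smul]⟩
    · have hg1 : g = 1 := by
        have h' : h = 1 := conj_eq_one_iff.1 hone
        exact conj_eq_one_iff.1 (hh.symm.trans h')
      exact hga (by rw [hg1, one_smul])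
    · intro h'
      exact hq3p (smul_left_cancel e ((smul_left_cancel e₀ (h'.symm.trans he₀.1.1.symm)).trans hea.symm))
    · intro h'
      exact hq3j (smul_left_cancel e ((smul_left_cancel e₀ (h'.symm.trans he₀.1.2.symm)).trans heb.symm))

end UNorm

end Cfsg.Agent.Lib.RankOneIdent.PSU3
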