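import Cfsg.Agent.Lib.RankOneIdent.PSU3.ModelGU

/-!
# The centraliser of an involution of `PGU₃(q)`, `q` even

It is the semidirect product of the group of pairs by the norm-one dilatations.
-/

set_option autoImplicit false
set_option linter.unusedSectionVars false
set_option linter.style.haveILetI false

namespace Cfsg.Agent.Lib.RankOneIdent.PSU3

open Matrix Cfsg.Agent.Lib.Unitary Cfsg.Agent.Lib.U3Sylow

/-- What is used of the centraliser of an involution of `PGU₃(q)`. -/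
structure CentShape (q : ℕ) (C : Type*) [Group C] : Prop where
  card : Nat.card C = q ^ 3 * (q + 1)
  sylow : ∃ T : Subgroup C, T.Normal ∧ Nat.card T = q ^ 3
  central : ∀ y : C, orderOf y = 2 → ∀ c : C, c * y = y * c
  card_invols : Nat.card {y : C // orderOf y = 2} + 1 = q
  odd_normal : ∀ N : Subgroup C, N.Normal → Odd (Nat.card N) → N = ⊥

/-- The shape moves along isomorphisms. -/
theorem CentShape.congr {q : ℕ} {C C' : Type*} [Group C] [Group C'] (h : CentShape q C) (e : C' ≃* C) :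
    CentShape q C' := by
  obtain ⟨T, hT, hTc⟩ := h.sylow
  refine ⟨(Nat.card_congr e.toEquiv).trans h.card, ⟨T.comap e.toMonoidHom, hT.comap _, ?_⟩,
    fun y hy c => e.injective ?_, ?_, fun N hN hNc => ?_⟩
  · rw [← hTc]
    exact Nat.card_congr
      { toFun := fun x => ⟨e x.1, x.2⟩
        invFun := fun x => ⟨e.symm x.1, show e (e.symm x.1) ∈ T by rw [e.apply_symm_apply]; exact x.2⟩
        left_inv := fun x => Subtype.ext (e.symm_apply_apply _)
        right_inv := fun x => Subtype.ext (e.apply_symm_apply _) }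
  · rw [map_mul, map_mul]
    exact h.central _ (by rw [e.orderOf_eq, hy]) _
  · rw [← h.card_invols]
    congr 1
    exact Nat.card_congr (e.toEquiv.subtypeEquiv fun y => by
      show _ ↔ orderOf (e y) = 2
      rw [e.orderOf_eq])
  · have h' := h.odd_normal (N.map e.toMonoidHom) (hN.map _ e.surjective) (by
      rwa [Nat.card_congr (N.equivMapOfInjective _ e.injective).toEquiv.symm])
    exact (Subgroup.map_eq_bot_iff_of_injective _ e.injective).1 h'

namespace ModelGU

open Cfsg.Agent.Lib.RankOneIdent.PSU3.Model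

variable {F : Type*} [Field F] [Fintype F] {n : ℕ}
variable (hF : Fintype.card F = (2 ^ n) ^ 2) {x : F} (hx : x + x ^ 2 ^ n = 1)

include hF in
theorem eq_of_gmat {g h : Cfsg.GU 3 F (2 ^ n)} (e : gmat x g = gmat x h) : g = h :=
  GU_ext fun v => by
    rw [← tMat_tInv_mulVec hF (x := x) v, ← tMat_gmat_mulVec hF, ← tMat_gmat_mulVec hF, e]

theorem gmat_suToGU (g : Cfsg.SU 3 F (2 ^ n)) : gmat x (suToGU 3 F (2 ^ n) g) = cmat x g := rfl

/-- `(a, b) ↦ translation ∘ dilatation`. -/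
noncomputable def elt (p : Pairs F (2 ^ n)) {β : F} (hβ : β * β ^ 2 ^ n = 1) : Cfsg.GU 3 F (2 ^ n) :=
  suToGU 3 F (2 ^ n) (tr hF hx p) * dil hF hx hβ

theorem gmat_elt (p : Pairs F (2 ^ n)) {β : F} (hβ : β * β ^ 2 ^ n = 1) :
    gmat x (elt hF hx p hβ) = mMat (2 ^ n) p.1.1 p.1.2 * dMat β := by
  rw [elt, gmat_mul hF, gmat_suToGU, cmat_tr, gmat_dil]

theorem elt_mul (p r s : Pairs F (2 ^ n)) {β γ : F} (hβ : β * β ^ 2 ^ n = 1) (hγ : γ * γ ^ 2 ^ n = 1)
    (hβγ : β * γ * (β * γ) ^ 2 ^ n = 1)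
    (hs : s.1 = (p.1.1 + β * r.1.1, p.1.2 + r.1.2 + p.1.1 ^ 2 ^ n * (β * r.1.1))) :
    elt hF hx p hβ * elt hF hx r hγ = elt hF hx s hβγ := by
  refine eq_of_gmat hF (x := x) ?_
  rw [gmat_mul hF, gmat_elt, gmat_elt, gmat_elt, hs]
  ext i j
  fin_cases i <;> fin_cases j <;>
    simp [mMat, dMat, Matrix.mul_apply, Fin.sum_univ_three, add_pow_q hF, mul_pow] <;>
    first
      | ring1
      | linear_combination -(γ * r.1.1 ^ 2 ^ n) * hβ

theorem gact_elt_none (p : Pairs F (2 ^ n)) {β : F} (hβ : β * β ^ 2 ^ n = 1) :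
    gact hF hx (elt hF hx p hβ) none = none := by
  rw [elt, gact_mul, gact_dil_none, gact_suToGU, act_tr_none]

theorem gact_elt_some (p r s : Pairs F (2 ^ n)) {β : F} (hβ : β * β ^ 2 ^ n = 1)
    (hs : s.1 = (p.1.1 + β * r.1.1, p.1.2 + r.1.2 + p.1.1 ^ 2 ^ n * (β * r.1.1))) :
    gact hF hx (elt hF hx p hβ) (some r) = some s := by
  rw [elt, gact_mul, gact_dil_some hF hx hβ r ⟨(β * r.1.1, r.1.2), by
    rw [mul_pow, mul_mul_mul_comm, hβ, one_mul]; exact r.2⟩ rfl, gact_suToGU]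
  exact act_tr_some hF hx p _ s hs

/-- The pair `(0, 0)`. -/
def zp (hF : Fintype.card F = (2 ^ n) ^ 2) : Pairs F (2 ^ n) := ⟨(0, 0), by simp [zero_pow_q hF]⟩

/-- The pair `(0, 1)`. -/
def op (hF : Fintype.card F = (2 ^ n) ^ 2) : Pairs F (2 ^ n) :=
  ⟨(0, 1), by simp [zero_pow_q hF, two_eq_zero hF, one_add_one_eq_two]⟩

include hF in
theorem norm_one : (1 : F) * (1 : F) ^ 2 ^ n = 1 := by rw [one_pow, one_mul]

include hF in
theorem norm_mul {β γ : F} (hβ : β * β ^ 2 ^ n = 1) (hγ : γ * γ ^ 2 ^ n = 1) :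
    β * γ * (β * γ) ^ 2 ^ n = 1 := by rw [mul_pow, mul_mul_mul_comm, hβ, hγ, one_mul]

theorem elt_injective {p r : Pairs F (2 ^ n)} {β γ : F} (hβ : β * β ^ 2 ^ n = 1)
    (hγ : γ * γ ^ 2 ^ n = 1) (h : gHom hF hx (elt hF hx p hβ) = gHom hF hx (elt hF hx r hγ)) :
    p = r ∧ β = γ := by
  have h' : ∀ o, gact hF hx (elt hF hx p hβ) o = gact hF hx (elt hF hx r hγ) o := fun o =>
    congrArg (fun π : Equiv.Perm (Option (Pairs F (2 ^ n))) => π o) h
  have hpr : p = r := by
    have := h' (some (zp hF))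
    rw [gact_elt_some hF hx p (zp hF) p hβ (by simp [zp]),
      gact_elt_some hF hx r (zp hF) r hγ (by simp [zp])] at this
    exact Option.some.inj this
  subst hpr
  obtain ⟨e, he⟩ := exists_pair hF (n := n) (1 : F)
  have hcl : ∀ {δ : F}, δ * δ ^ 2 ^ n = 1 →
      (p.1.2 + e.1.2 + p.1.1 ^ 2 ^ n * (δ * e.1.1)) +
        (p.1.2 + e.1.2 + p.1.1 ^ 2 ^ n * (δ * e.1.1)) ^ 2 ^ n =
      (p.1.1 + δ * e.1.1) * (p.1.1 + δ * e.1.1) ^ 2 ^ n := fun {δ} hδ => by
    rw [add_pow_q hF, add_pow_q hF, add_pow_q hF, mul_pow, pow_q_q hF, mul_pow]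
    linear_combination p.2 + e.2 - (e.1.1 * e.1.1 ^ 2 ^ n) * hδ
  have := h' (some e)
  rw [gact_elt_some hF hx p e ⟨(_, _), hcl hβ⟩ hβ rfl,
    gact_elt_some hF hx p e ⟨(_, _), hcl hγ⟩ hγ rfl] at this
  have h1 := congrArg (fun s : Pairs F (2 ^ n) => s.1.1) (Option.some.inj this)
  simp [he] at h1
  exact ⟨rfl, h1⟩

/-- An element commuting with the central translation `(0, 1)` is a translation times a dilatation. -/
theorem exists_elt (g : Cfsg.GU 3 F (2 ^ n))
    (hg : Commute (gHom hF hx g) (gHom hF hx (elt hF hx (op hF) (norm_one hF)))) :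
    ∃ (p : Pairs F (2 ^ n)) (β : F) (hβ : β * β ^ 2 ^ n = 1),
      gHom hF hx g = gHom hF hx (elt hF hx p hβ) := by
  set y := elt hF hx (op hF) (norm_one hF)
  have hmove : ∀ r : Pairs F (2 ^ n), gact hF hx y (some r) ≠ some r := fun r h => by
    rw [gact_elt_some hF hx (op hF) r ⟨(r.1.1, 1 + r.1.2), by
      rw [add_pow_q hF, one_pow]; linear_combination r.2 + two_eq_zero hF⟩ (norm_one hF)
      (by simp [op, zero_pow_q hF])] at h
    have := congrArg (fun s : Pairs F (2 ^ n) => s.1.2) (Option.some.inj h)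
    simp at this
  have hc : ∀ o, gact hF hx g (gact hF hx y o) = gact hF hx y (gact hF hx g o) := fun o =>
    congrArg (fun π : Equiv.Perm (Option (Pairs F (2 ^ n))) => π o) hg.eq
  have hnone : gact hF hx g none = none := by
    rcases e : gact hF hx g none with _ | r
    · rfl
    have := hc none
    rw [gact_elt_none, e] at this
    exact absurd this.symm (hmove r)
  obtain ⟨p, hp⟩ : ∃ p, gact hF hx g (some (zp hF)) = some p := by
    rcases e : gact hF hx g (some (zp hF)) with _ | r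
    · have h0 := (gHom hF hx g).injective (a₁ := some (zp hF)) (a₂ := none) (e.trans hnone.symm)
      exact absurd h0 (by simp)
    · exact ⟨r, rfl⟩
  set q := suToGU 3 F (2 ^ n) (tr hF hx p) with hq
  set g' := q⁻¹ * g with hg'
  have hqz : gact hF hx q (some (zp hF)) = some p := by
    rw [hq, gact_suToGU, act_tr_some hF hx p (zp hF) p (by simp [zp])]
  have hback : ∀ {o o'}, gact hF hx q o = o' → gact hF hx q⁻¹ o' = o := fun {o o'} h => by
    rw [← h, ← gact_mul, inv_mul_cancel, gact_one]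
  have h0n : gact hF hx g' none = none := by
    rw [hg', gact_mul, hnone]; exact hback (by rw [hq, gact_suToGU, act_tr_none])
  have h0z : gact hF hx g' (some (zp hF)) = some (zp hF) := by
    rw [hg', gact_mul, hp]; exact hback hqz
  have hs1 : ∀ r : Pairs F (2 ^ n), (p.1.2 + r.1.2 + p.1.1 ^ 2 ^ n * r.1.1) +
      (p.1.2 + r.1.2 + p.1.1 ^ 2 ^ n * r.1.1) ^ 2 ^ n =
        (p.1.1 + r.1.1) * (p.1.1 + r.1.1) ^ 2 ^ n := fun r => by
    rw [add_pow_q hF, add_pow_q hF, add_pow_q hF, mul_pow, pow_q_q hF]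
    linear_combination p.2 + r.2
  have h0o : gact hF hx g' (some (op hF)) = some (op hF) := by
    rw [hg', gact_mul]
    refine hback ?_
    have := hc (some (zp hF))
    rw [gact_elt_some hF hx (op hF) (zp hF) (op hF) (norm_one hF) (by simp [op, zp]), hp,
      gact_elt_some hF hx (op hF) p ⟨(_, _), hs1 (op hF)⟩ (norm_one hF)
        (by simp [op, zero_pow_q hF, add_comm])] at this
    rw [this, hq, gact_suToGU]
    exact act_tr_some hF hx p (op hF) ⟨(_, _), hs1 (op hF)⟩ rfl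
  obtain ⟨α, hα0, hα⟩ := gact_spec hF hx g' none
  obtain ⟨γ, hγ0, hγ⟩ := gact_spec hF hx g' (some (zp hF))
  obtain ⟨δ, -, hδ⟩ := gact_spec hF hx g' (some (op hF))
  rw [h0n] at hα
  rw [h0z] at hγ
  rw [h0o] at hδ
  set M := gmat x g' with hM
  set u := M *ᵥ ![0, 1, 0] with hu
  have hop : cvec (some (op hF)) = cvec (none : Option (Pairs F (2 ^ n))) + cvec (some (zp hF)) := by
    ext i; fin_cases i <;> simp [cvec, op, zp]
  rw [hop, mulVec_add, hα, hγ] at hδ
  have hαδ := congrFun hδ 0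
  have hγδ := congrFun hδ 2
  simp [cvec, zp] at hαδ hγδ
  have hαγ : α = γ := hαδ.trans hγδ.symm
  have hh1 := hyp_gmat hF hx g' ![0, 1, 0] (cvec (none : Option (Pairs F (2 ^ n))))
  have hh2 := hyp_gmat hF hx g' ![0, 1, 0] (cvec (some (zp hF)))
  have hh3 := hyp_gmat hF hx g' ![0, 1, 0] ![0, 1, 0]
  have hh4 := hyp_gmat hF hx g' (cvec (none : Option (Pairs F (2 ^ n)))) (cvec (some (zp hF)))
  rw [← hM, ← hu, hα] at hh1
  rw [← hM, ← hu, hγ] at hh2
  rw [← hM, ← hu] at hh3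
  rw [← hM, hα, hγ, ← hαγ] at hh4
  simp [hyp, cvec, zp, zero_pow_q hF, mul_pow, hα0, hγ0] at hh1 hh2 hh3 hh4
  rw [hh1, hh2, zero_mul, zero_add, add_zero] at hh3
  set β := u 1 / α with hβdef
  have hβ : β * β ^ 2 ^ n = 1 := by rw [hβdef, div_pow, div_mul_div_comm, hh3, hh4, div_one]
  have hMd : ∀ v : Fin 3 → F, M *ᵥ v = α • (dMat β *ᵥ v) := by
    intro v
    have hv : v = v 0 • cvec (none : Option (Pairs F (2 ^ n))) + v 1 • ![0, 1, 0] +
        v 2 • cvec (some (zp hF)) := by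
      ext i; fin_cases i <;> simp [cvec, zp]
    conv_lhs => rw [hv]
    have hu' : u = ![0, α * β, 0] := by
      ext i
      fin_cases i
      · simpa using hh2
      · simp [hβdef, mul_div_cancel₀ _ hα0]
      · simpa using hh1
    rw [mulVec_add, mulVec_add, mulVec_smul, mulVec_smul, mulVec_smul, hα, hγ, ← hu, ← hαγ, hu']
    ext i
    fin_cases i <;>
      simp [cvec, zp, dMat, mulVec, dotProduct, Fin.sum_univ_three] <;> ring
  have hg'd : gHom hF hx g' = gHom hF hx (dil hF hx hβ) := Equiv.ext fun o => by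
    rw [gHom_apply, gHom_apply]
    obtain ⟨c, -, hc'⟩ := gact_spec hF hx (dil hF hx hβ) o
    refine gact_eq hF hx (c := α * c) ?_
    rw [← hM, hMd, ← gmat_dil hF hx hβ, hc', smul_smul]
  refine ⟨p, β, hβ, ?_⟩
  rw [elt, map_mul, ← hg'd, hg', ← map_mul, mul_inv_cancel_left]

/-- The central translation as a permutation. -/
noncomputable def y0 : (gHom hF hx).range := ⟨_, elt hF hx (op hF) (norm_one hF), rfl⟩

theorem gHom_zp : gHom hF hx (elt hF hx (zp hF) (norm_one hF)) = 1 := by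
  have h := elt_mul hF hx (zp hF) (zp hF) (zp hF) (norm_one hF) (norm_one hF)
    (norm_mul hF (norm_one hF) (norm_one hF)) (by simp [zp, zero_pow_q hF])
  simp only [one_mul] at h
  rw [mul_eq_left.1 h, map_one]

theorem orderOf_y0 : orderOf (y0 hF hx) = 2 := by
  haveI : Fact (Nat.Prime 2) := ⟨Nat.prime_two⟩
  refine orderOf_eq_prime (Subtype.ext ?_) fun h => ?_
  · show gHom hF hx (elt hF hx (op hF) (norm_one hF)) ^ 2 = 1
    rw [sq, ← map_mul, elt_mul hF hx (op hF) (op hF) (zp hF) (norm_one hF) (norm_one hF)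
      (norm_mul hF (norm_one hF) (norm_one hF)) (by
        simp [op, zp, zero_pow_q hF, two_eq_zero hF, one_add_one_eq_two])]
    simp only [one_mul]
    exact gHom_zp hF hx
  · have h' : gHom hF hx (elt hF hx (op hF) (norm_one hF)) = 1 := congrArg Subtype.val h
    rw [← gHom_zp hF hx] at h'
    have := congrArg (fun s : Pairs F (2 ^ n) => s.1.2) (elt_injective hF hx _ _ h').1
    simp [op, zp] at this

/-- The product of two pairs twisted by a dilatation. -/
def pmul (p r : Pairs F (2 ^ n)) {β : F} (hβ : β * β ^ 2 ^ n = 1) : Pairs F (2 ^ n) :=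
  ⟨(p.1.1 + β * r.1.1, p.1.2 + r.1.2 + p.1.1 ^ 2 ^ n * (β * r.1.1)), by
    show (_ : F) + (_ : F) ^ 2 ^ n = _
    rw [add_pow_q hF, add_pow_q hF, add_pow_q hF, mul_pow, pow_q_q hF, mul_pow]
    linear_combination p.2 + r.2 - (r.1.1 * r.1.1 ^ 2 ^ n) * hβ⟩

/-- The shape of the centraliser. -/
theorem centShape : CentShape (2 ^ n) (Subgroup.centralizer ({y0 hF hx} : Set (gHom hF hx).range)) := by
  classical
  set R := (gHom hF hx).range
  set C := Subgroup.centralizer ({y0 hF hx} : Set R) with hC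
  let μ := {β : F // β * β ^ 2 ^ n = 1}
  have hmem : ∀ (p : Pairs F (2 ^ n)) (β : μ),
      (⟨gHom hF hx (elt hF hx p β.2), _, rfl⟩ : R) ∈ C := by
    intro p β
    rw [hC, Subgroup.mem_centralizer_singleton_iff]
    refine Subtype.ext ?_
    show gHom hF hx (elt hF hx p β.2) * gHom hF hx (elt hF hx (op hF) (norm_one hF)) =
      gHom hF hx (elt hF hx (op hF) (norm_one hF)) * gHom hF hx (elt hF hx p β.2)
    rw [← map_mul, ← map_mul, elt_mul hF hx p (op hF) (pmul hF p (op hF) β.2) β.2 (norm_one hF)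
      (norm_mul hF β.2 (norm_one hF)) rfl, elt_mul hF hx (op hF) p (pmul hF p (op hF) β.2)
      (norm_one hF) β.2 (norm_mul hF (norm_one hF) β.2) (by
        simp [pmul, op, zero_pow_q hF, add_comm])]
    simp only [mul_one, one_mul]
  let f : Pairs F (2 ^ n) × μ → C := fun k => ⟨⟨gHom hF hx (elt hF hx k.1 k.2.2), _, rfl⟩, hmem k.1 k.2⟩
  have hf : Function.Bijective f := by
    refine ⟨fun k k' h => ?_, fun c => ?_⟩
    · obtain ⟨h1, h2⟩ := elt_injective hF hx k.2.2 k'.2.2 (congrArg (fun c : C => (c : R).1) h)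
      exact Prod.ext h1 (Subtype.ext h2)
    · obtain ⟨g, hg⟩ := (c : R).2
      obtain ⟨p, β, hβ, he⟩ := exists_elt hF hx g (by
        show gHom hF hx g * _ = _ * gHom hF hx g
        rw [hg]
        exact congrArg Subtype.val (Subgroup.mem_centralizer_singleton_iff.1 c.2))
      exact ⟨(p, ⟨β, hβ⟩), Subtype.ext (Subtype.ext (he.symm.trans hg))⟩
  have hfmul : ∀ k k', f k * f k' = f (pmul hF k.1 k'.1 k.2.2, ⟨_, norm_mul hF k.2.2 k'.2.2⟩) :=
    fun k k' => Subtype.ext (Subtype.ext ((map_mul (gHom hF hx) _ _).symm.trans (congrArg _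
      (elt_mul hF hx k.1 k'.1 _ k.2.2 k'.2.2 (norm_mul hF k.2.2 k'.2.2) rfl))))
  let one : μ := ⟨1, norm_one hF⟩
  have hf1 : f (zp hF, one) = 1 := Subtype.ext (Subtype.ext (gHom_zp hF hx))
  have hμ : ∀ β : μ, β.1 * β.1 = 1 → β = one := fun β h => by
    haveI := charP_two hF
    refine Subtype.ext (CharTwo.sq_injective (R := F) (show β.1 ^ 2 = (1 : F) ^ 2 from ?_))
    rw [sq, h, one_pow]
  -- the translations
  let T : Subgroup C :=
    { carrier := {c | ∃ p, f (p, one) = c}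
      mul_mem' := by
        rintro _ _ ⟨p, rfl⟩ ⟨r, rfl⟩
        refine ⟨pmul hF p r (norm_one hF), ?_⟩
        rw [hfmul]
        congr 1
        exact Prod.ext rfl (Subtype.ext (mul_one 1).symm)
      one_mem' := ⟨zp hF, hf1⟩
      inv_mem' := by
        rintro _ ⟨p, rfl⟩
        obtain ⟨k, hk⟩ := hf.2 (f (p, one))⁻¹
        refine ⟨k.1, ?_⟩
        have h := hfmul (p, one) k
        rw [hk, mul_inv_cancel, ← hf1] at h
        have hk2 : k.2 = one := Subtype.ext (by
          have := congrArg (fun k : Pairs F (2 ^ n) × μ => k.2.1) (hf.1 h)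
          simpa [one] using this.symm)
        rw [← hk, show k = (k.1, one) from Prod.ext rfl hk2] }
  have hTn : T.Normal := by
    constructor
    rintro _ ⟨p, rfl⟩ c
    obtain ⟨k, rfl⟩ := hf.2 c
    obtain ⟨k', hk'⟩ := hf.2 (f k * f (p, one) * (f k)⁻¹)
    refine ⟨k'.1, ?_⟩
    have h : f k' * f k = f k * f (p, one) := by rw [hk', inv_mul_cancel_right]
    rw [hfmul, hfmul] at h
    have h2 := congrArg (fun k : Pairs F (2 ^ n) × μ => k.2.1) (hf.1 h)
    simp only [one, mul_one] at h2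
    have hk2 : k'.2 = one := Subtype.ext ((mul_eq_right₀ (left_ne_zero_of_mul_eq_one k.2.2)).1 h2)
    rw [← hk', show k' = (k'.1, one) from Prod.ext rfl hk2]
  have hTc : Nat.card T = (2 ^ n) ^ 3 := by
    rw [← card_pairs hF]
    refine (Nat.card_eq_of_bijective (fun p => (⟨f (p, one), p, rfl⟩ : T)) ⟨fun p r h => ?_, ?_⟩).symm
    · exact congrArg Prod.fst (hf.1 (congrArg Subtype.val h))
    · rintro ⟨c, p, rfl⟩; exact ⟨p, rfl⟩
  have hinv : ∀ k, orderOf (f k) = 2 ↔ k.2 = one ∧ k.1.1.1 = 0 ∧ k.1.1.2 ≠ 0 := by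
    haveI : Fact (Nat.Prime 2) := ⟨Nat.prime_two⟩
    rintro ⟨p, β⟩
    rw [orderOf_eq_prime_iff, sq, hfmul, ← hf1, hf.1.eq_iff]
    constructor
    · rintro ⟨h, hne⟩
      obtain rfl := hμ β (congrArg (fun k : Pairs F (2 ^ n) × μ => k.2.1) h)
      have hb : p.1.1 = 0 := by
        have h2 := congrArg (fun k : Pairs F (2 ^ n) × μ => k.1.1.2) h
        simp [pmul, zp, one] at h2
        have : p.1.1 ^ 2 ^ n * p.1.1 = 0 := by linear_combination h2 - p.1.2 * two_eq_zero hF
        simpa using this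
      refine ⟨rfl, hb, fun hz => hne ?_⟩
      rw [show p = zp hF from Subtype.ext (Prod.ext hb hz)]
    · rintro ⟨rfl, ha, hb⟩
      replace ha : p.1.1 = 0 := ha
      replace hb : p.1.2 ≠ 0 := hb
      refine ⟨Prod.ext (Subtype.ext (Prod.ext ?_ ?_)) (Subtype.ext (mul_one 1)), fun h => hb ?_⟩
      · simp [pmul, zp, one, ha]
      · simp only [pmul, zp, one]
        rw [ha]
        linear_combination p.1.2 * two_eq_zero hF
      · exact congrArg (fun k : Pairs F (2 ^ n) × μ => k.1.1.2) (hf.1 h)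
  refine ⟨?_, ⟨T, hTn, hTc⟩, fun y hy c => ?_, ?_, fun N hN hNo => ?_⟩
  · rw [← Nat.card_eq_of_bijective f hf, Nat.card_prod, card_pairs hF]
    congr 1
    rw [← card_norm_one hF]
    exact Nat.card_congr (Equiv.subtypeEquivRight fun β => by rw [pow_succ'])
  · obtain ⟨⟨p, β⟩, rfl⟩ := hf.2 y
    obtain ⟨k, rfl⟩ := hf.2 c
    obtain ⟨rfl, ha, -⟩ := (hinv (p, β)).1 hy
    replace ha : p.1.1 = 0 := ha
    rw [hfmul, hfmul]
    congr 1
    refine Prod.ext (Subtype.ext (Prod.ext ?_ ?_)) (Subtype.ext (mul_comm _ _))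
    · simp [pmul, one, ha]
    · simp [pmul, one, ha, zero_pow_q hF, add_comm]
  · have e : {z : F // z ^ 2 ^ n = z ∧ z ≠ 0} ≃ {y : C // orderOf y = 2} := Equiv.ofBijective
      (fun z => ⟨f (⟨(0, z.1), by rw [z.2.1, zero_pow_q hF]; linear_combination z.1 * two_eq_zero hF⟩, one),
        (hinv _).2 ⟨rfl, rfl, z.2.2⟩⟩)
      ⟨fun z z' h => Subtype.ext (congrArg (fun k : Pairs F (2 ^ n) × μ => k.1.1.2)
        (hf.1 (congrArg Subtype.val h))), fun y => by
        obtain ⟨⟨p, β⟩, hk⟩ := hf.2 y.1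
        obtain ⟨rfl, ha, hb⟩ := (hinv (p, β)).1 (by rw [hk]; exact y.2)
        refine ⟨⟨p.1.2, ?_, hb⟩, Subtype.ext ?_⟩
        · have hp := p.2
          rw [ha, zero_pow_q hF, mul_zero] at hp
          exact (trace_zero_iff hF).1 hp
        · rw [← hk]
          show f (_, one) = f (p, one)
          congr 2
          exact Subtype.ext (Prod.ext ha.symm rfl)⟩
    rw [← Nat.card_congr e]
    conv_rhs => rw [← card_fixed hF]
    rw [Nat.card_eq_fintype_card, Nat.card_eq_fintype_card, Fintype.card_subtype, Fintype.card_subtype,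
      show (Finset.univ.filter fun z : F => z ^ 2 ^ n = z ∧ z ≠ 0) =
        (Finset.univ.filter fun z : F => z ^ 2 ^ n = z).erase 0 by
          ext z; simp [and_comm],
      Finset.card_erase_add_one (by simp)]
  · have hT2 : IsPGroup 2 T := IsPGroup.of_card (n := n * 3) (by rw [hTc, pow_mul])
    have hTN : T ⊓ N = ⊥ := by
      refine Subgroup.inf_eq_bot_of_coprime ?_
      rw [hTc]
      exact Nat.Coprime.pow_left _ (Nat.Coprime.pow_left _ ((Nat.coprime_two_left).2 hNo))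
    rw [eq_bot_iff]
    intro c hc
    obtain ⟨⟨p, β⟩, rfl⟩ := hf.2 c
    obtain ⟨e, he⟩ := exists_pair hF (n := n) (1 : F)
    have h1 : f (p, β) * f (e, one) * (f (p, β))⁻¹ * (f (e, one))⁻¹ ∈ T ⊓ N := by
      refine ⟨mul_mem (hTn.conj_mem _ ⟨e, rfl⟩ _) (T.inv_mem ⟨e, rfl⟩), ?_⟩
      rw [show f (p, β) * f (e, one) * (f (p, β))⁻¹ * (f (e, one))⁻¹ =
        f (p, β) * (f (e, one) * (f (p, β))⁻¹ * (f (e, one))⁻¹) by group]
      exact N.mul_mem hc (hN.conj_mem _ (N.inv_mem hc) _)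
    rw [hTN, Subgroup.mem_bot, mul_inv_eq_one, mul_inv_eq_iff_eq_mul, hfmul, hfmul, hf.1.eq_iff] at h1
    have h2 := congrArg (fun k : Pairs F (2 ^ n) × μ => k.1.1.1) h1
    simp [pmul, one, he] at h2
    have hβ : β = one := Subtype.ext (by linear_combination h2)
    have : f (p, β) ∈ T ⊓ N := ⟨⟨p, by rw [hβ]⟩, hc⟩
    rwa [hTN] at this

end ModelGU

end Cfsg.Agent.Lib.RankOneIdent.PSU3
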