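import Mathlib

/-!
# Groups of odd order in which every non-identity element fixes exactly one pair

A finite group of odd order acts on a set with a fixed-point-free map `bar` commuting with the action, and
the fixed points of every non-identity element form one pair `{p, bar p}`. Then this pair is the same for
all elements.
-/

set_option autoImplicit false

namespace Cfsg.Agent.Lib.RankOneIdent.PSU3

open MulAction

theorem all_fix_of_pairs {S X : Type*} [Group S] [Finite S] [MulAction S X] [Finite X] (bar : X → X)
    (hbb : ∀ x, bar (bar x) = x) (hne : ∀ x, bar x ≠ x) (hcomm : ∀ (s : S) x, s • bar x = bar (s • x))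
    (hodd : Odd (Nat.card S))
    (hfix : ∀ s : S, s ≠ 1 → ∃ p : X, ∀ x, s • x = x ↔ x = p ∨ x = bar p)
    {s₀ : S} (hs₀ : s₀ ≠ 1) {p₀ : X} (hp₀ : s₀ • p₀ = p₀) :
    ∀ s : S, s • p₀ = p₀ := by
  classical
  have := Fintype.ofFinite S
  have := Fintype.ofFinite X
  -- an element moving `x` to `bar x` does not exist
  have hswap : ∀ (s : S) (x : X), s • x ≠ bar x := by
    intro s x h
    have h2 : (s * s) • x = x := by rw [mul_smul, h, hcomm, h, hbb]
    obtain ⟨k, hk⟩ := hodd
    have h1 : s = (s * s) ^ (k + 1) := by
      rw [← sq, ← pow_mul, show 2 * (k + 1) = Nat.card S + 1 by omega, pow_succ, pow_card_eq_one',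
        one_mul]
    have h3 : s • x = x := by
      rw [h1]
      exact (stabilizer S x).pow_mem h2 (k + 1)
    exact hne x (h.symm.trans h3)
  have hstabBar : ∀ (x : X) (s : S), s • bar x = bar x ↔ s • x = x := fun x s => by
    rw [hcomm]; exact ⟨fun h => by simpa [hbb] using congrArg bar h, fun h => by rw [h]⟩
  -- the incidences
  let T : Finset (S × X) := Finset.univ.filter fun p => p.1 ≠ 1 ∧ p.1 • p.2 = p.2
  have hT : T.card = 2 * (Fintype.card S - 1) := by
    have h1 : T.card = ∑ s ∈ (Finset.univ.erase (1 : S)), (Finset.univ.filter fun x : X => s • x = x).card := by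
      rw [← Finset.card_sigma]
      refine Finset.card_bij' (fun p _ => ⟨p.1, p.2⟩) (fun p _ => (p.1, p.2)) ?_ ?_ ?_ ?_ <;>
        intro p hp <;> simp_all [T]
    rw [h1, Finset.sum_congr rfl (g := fun _ => 2), Finset.sum_const, Finset.card_erase_of_mem
      (Finset.mem_univ _), Finset.card_univ, smul_eq_mul, mul_comm]
    intro s hs
    obtain ⟨p, hp⟩ := hfix s (Finset.ne_of_mem_erase hs)
    rw [show (Finset.univ.filter fun x : X => s • x = x) = {p, bar p} by ext x; simp [hp],
      Finset.card_pair (hne p).symm]
  -- the incidences above the orbit of a point and of its partner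
  let Tp : X → Finset (S × X) := fun p => T.filter fun x => x.2 ∈ orbit S p ∨ bar x.2 ∈ orbit S p
  have hTp : ∀ p : X, ∀ o : ℕ, o = Nat.card (orbit S p) → (Tp p).card + 2 * o = 2 * Fintype.card S := by
    intro p o ho
    let O : Finset X := (orbit S p).toFinset
    have hO : O.card = o := by rw [ho, Set.toFinset_card, Nat.card_eq_fintype_card]
    let O' : Finset X := O.image bar
    have hdisj : Disjoint O O' := by
      rw [Finset.disjoint_left]
      intro x hx hx'
      obtain ⟨y, hy, rfl⟩ := Finset.mem_image.1 hx'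
      obtain ⟨g, rfl⟩ := Set.mem_toFinset.1 hy
      obtain ⟨h, hh⟩ := Set.mem_toFinset.1 hx
      exact hswap (g⁻¹ * h) p (by
        show (g⁻¹ * h) • p = bar p
        rw [mul_smul, show h • p = bar (g • p) from hh, ← hcomm, inv_smul_smul])
    have hO' : O'.card = o := by
      rw [Finset.card_image_of_injective _ (Function.LeftInverse.injective hbb), hO]
    have hmemO : ∀ x : X, x ∈ O ∪ O' ↔ x ∈ orbit S p ∨ bar x ∈ orbit S p := fun x => by
      simp only [Finset.mem_union, O', Finset.mem_image, O, Set.mem_toFinset]
      constructor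
      · rintro (h | ⟨y, hy, rfl⟩)
        · exact Or.inl h
        · exact Or.inr (by rwa [hbb])
      · rintro (h | h)
        · exact Or.inl h
        · exact Or.inr ⟨_, h, hbb x⟩
    have hst : ∀ x ∈ O ∪ O', (Finset.univ.filter fun s : S => s • x = x).card * o = Fintype.card S := by
      intro x hx
      have h1 := MulAction.card_orbit_mul_card_stabilizer_eq_card_group S x
      have h3 : Fintype.card (stabilizer S x) = (Finset.univ.filter fun s : S => s • x = x).card := by
        rw [Fintype.card_subtype]; simp [mem_stabilizer_iff]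
      have h4 : Fintype.card (orbit S x) = o := by
        rw [ho, Nat.card_eq_fintype_card]
        rcases (hmemO x).1 hx with h | h
        · simp [orbit_eq_iff.2 h]
        · have h5 : bar '' orbit S x = orbit S (bar x) := by
            ext y
            constructor
            · rintro ⟨_, ⟨g, rfl⟩, rfl⟩; exact ⟨g, hcomm g x⟩
            · rintro ⟨g, rfl⟩; exact ⟨g • x, ⟨g, rfl⟩, (hcomm g x).symm⟩
          rw [← Set.toFinset_card, ← Set.toFinset_card, ← orbit_eq_iff.2 h, ← Finset.card_image_of_injective
            (orbit S x).toFinset (Function.LeftInverse.injective hbb)]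
          congr 1
          ext y
          rw [Finset.mem_image, Set.mem_toFinset, ← h5]
          simp
      rw [← h3, ← h4, mul_comm]
      exact h1
    have hcard : (Tp p).card = ∑ x ∈ O ∪ O', ((Finset.univ.filter fun s : S => s • x = x).card - 1) := by
      have h1 : ∀ x : X, (Finset.univ.filter fun s : S => s • x = x).card - 1 =
          ((Finset.univ.filter fun s : S => s • x = x).erase 1).card := fun x => by
        rw [Finset.card_erase_of_mem (by simp)]
      rw [Finset.sum_congr rfl fun x _ => h1 x, ← Finset.card_sigma]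
      refine Finset.card_bij' (fun p _ => ⟨p.2, p.1⟩) (fun p _ => (p.2, p.1)) ?_ ?_ ?_ ?_
      · intro z hz
        simp only [Tp, T, Finset.mem_filter, Finset.mem_univ, true_and] at hz
        simp only [Finset.mem_sigma, Finset.mem_erase, Finset.mem_filter, Finset.mem_univ, true_and]
        exact ⟨(hmemO _).2 hz.2, hz.1⟩
      · intro z hz
        simp only [Finset.mem_sigma, Finset.mem_erase, Finset.mem_filter, Finset.mem_univ, true_and] at hz
        simp only [Tp, T, Finset.mem_filter, Finset.mem_univ, true_and]
        exact ⟨hz.2, (hmemO _).1 hz.1⟩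
      · intro z _; rfl
      · intro z _; rfl
    have hone : ∀ x ∈ O ∪ O', 1 ≤ (Finset.univ.filter fun s : S => s • x = x).card := fun x _ =>
      Finset.card_pos.2 ⟨1, by simp⟩
    have h2 : (∑ x ∈ O ∪ O', (Finset.univ.filter fun s : S => s • x = x).card) * o =
        2 * o * Fintype.card S := by
      rw [Finset.sum_mul, Finset.sum_congr rfl hst, Finset.sum_const, Finset.card_union_of_disjoint hdisj,
        hO, hO', smul_eq_mul, two_mul]
    have hopos : 0 < o := by
      rw [← hO]; exact Finset.card_pos.2 ⟨p, Set.mem_toFinset.2 (mem_orbit_self p)⟩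
    have h3 : (∑ x ∈ O ∪ O', (Finset.univ.filter fun s : S => s • x = x).card) = 2 * Fintype.card S :=
      Nat.eq_of_mul_eq_mul_right hopos (h2.trans (by ring))
    rw [hcard, Finset.sum_tsub_distrib _ hone, h3, Finset.sum_const,
      Finset.card_union_of_disjoint hdisj, hO, hO', smul_eq_mul, mul_one]
    have : o * 1 ≤ Fintype.card S := by
      rw [← hst p ((hmemO p).2 (Or.inl (mem_orbit_self p))), mul_one]
      exact Nat.le_mul_of_pos_left o (Finset.card_pos.2 ⟨1, by simp⟩)
    omega
  -- orbits of fixed points are short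
  have hshort : ∀ (s : S) (p : X), s ≠ 1 → s • p = p → 3 * Nat.card (orbit S p) ≤ Fintype.card S := by
    intro s p hs hp
    have h1 : Fintype.card (orbit S p) * Fintype.card (stabilizer S p) = Fintype.card S :=
      MulAction.card_orbit_mul_card_stabilizer_eq_card_group S p
    have h2 : Nat.card (stabilizer S p) ∣ Nat.card S := Subgroup.card_subgroup_dvd_card _
    have h3 : 1 < Fintype.card (stabilizer S p) :=
      Fintype.one_lt_card_iff.2 ⟨⟨s, hp⟩, 1, fun h => hs (congrArg Subtype.val h)⟩
    have h4 : Odd (Fintype.card (stabilizer S p)) := by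
      rw [← Nat.card_eq_fintype_card]; exact hodd.of_dvd_nat h2
    obtain ⟨k, hk⟩ := h4
    rw [Nat.card_eq_fintype_card, ← h1, mul_comm 3]
    exact Nat.mul_le_mul_left _ (by omega)
  -- there is only one pair
  have hall : T ⊆ Tp p₀ := by
    intro z hz
    by_contra hzn
    obtain ⟨s, p⟩ := z
    have hz' := hz
    simp only [T, Finset.mem_filter, Finset.mem_univ, true_and] at hz'
    have hout : ¬ (p ∈ orbit S p₀ ∨ bar p ∈ orbit S p₀) := fun h => hzn (Finset.mem_filter.2 ⟨hz, h⟩)
    have hd : Disjoint (Tp p₀) (Tp p) := by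
      rw [Finset.disjoint_left]
      rintro ⟨s', x⟩ hx hx'
      have hx1 := (Finset.mem_filter.1 hx).2
      have hx2 := (Finset.mem_filter.1 hx').2
      apply hout
      have hbar : ∀ u v : X, u ∈ orbit S v → bar u ∈ orbit S (bar v) := by
        rintro _ v ⟨g, rfl⟩
        exact ⟨g, hcomm g v⟩
      rcases hx1 with h | h <;> rcases hx2 with h' | h'
      · exact Or.inl (by rw [← orbit_eq_iff.2 h, orbit_eq_iff.2 h']; exact mem_orbit_self p)
      · refine Or.inr ?_
        rw [← orbit_eq_iff.2 h]
        have := hbar _ _ (mem_orbit_symm.1 h')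
        rwa [hbb] at this
      · refine Or.inr ?_
        rw [← orbit_eq_iff.2 h]
        exact hbar _ _ (mem_orbit_symm.1 h')
      · exact Or.inl (by rw [← orbit_eq_iff.2 h, orbit_eq_iff.2 h']; exact mem_orbit_self p)
    have hle := Finset.card_le_card (Finset.union_subset (Finset.filter_subset
      (fun x : S × X => x.2 ∈ orbit S p₀ ∨ bar x.2 ∈ orbit S p₀) T)
      (Finset.filter_subset (fun x : S × X => x.2 ∈ orbit S p ∨ bar x.2 ∈ orbit S p) T))
    rw [Finset.card_union_of_disjoint hd, hT] at hle
    have e1 := hTp p₀ _ rfl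
    have e2 := hTp p _ rfl
    have e3 := hshort s₀ p₀ hs₀ hp₀
    have e4 := hshort s p hz'.1 hz'.2
    have e6 : 0 < Nat.card (orbit S p₀) := by
      haveI : Nonempty (orbit S p₀) := ⟨⟨p₀, mem_orbit_self _⟩⟩
      exact Nat.card_pos
    have e7 : 0 < Nat.card (orbit S p) := by
      haveI : Nonempty (orbit S p) := ⟨⟨p, mem_orbit_self _⟩⟩
      exact Nat.card_pos
    have e5 : (Tp p₀).card + (Tp p).card ≤ 2 * (Fintype.card S - 1) := hle
    omega
  have heq : (Tp p₀).card = T.card :=
    le_antisymm (Finset.card_le_card (Finset.filter_subset _ _)) (Finset.card_le_card hall)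
  have e1 := hTp p₀ _ rfl
  have hpos : 0 < Fintype.card S := Fintype.card_pos
  have ho : Nat.card (orbit S p₀) = 1 := by omega
  intro s
  obtain ⟨hsub, -⟩ := Nat.card_eq_one_iff_unique.1 ho
  exact congrArg Subtype.val (hsub.elim ⟨s • p₀, mem_orbit _ _⟩ ⟨p₀, mem_orbit_self _⟩)

end Cfsg.Agent.Lib.RankOneIdent.PSU3
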