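import Cfsg.Agent.Lib.RankOneIdent.PSU3.Omega
import Cfsg.Agent.Lib.RankOneIdent.PSU3.FixPairs

/-!
# The unitary case: chords

A chord is an image of `B`; two points lie on one chord.  Through every point outside `B` passes exactly one
chord stable under `wEl`; it misses `B`, and `om` is constant on it.
-/

set_option autoImplicit false
set_option linter.unusedSectionVars false
set_option linter.style.haveILetI false

namespace Cfsg.Agent.Lib.RankOneIdent.PSU3

open Cfsg.Agent.Lib.RankOne.Involution Cfsg.Agent.Lib.RankOne.Basic MulAction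
open Cfsg.Agent.Lib.BenderSuzuki Cfsg.Agent.Lib.Unitary Cfsg.Agent.Lib.U3Sylow

variable {G Ω : Type*} [Group G] [MulAction G Ω] [Finite G] {a : Ω} {t : G} {Q : Subgroup G} {F : Type}
  [Field F] [Fintype F] {n : ℕ} {c : G → F × F}

/-- A permutation of prime period `p` of a finite invariant set: the fixed points are congruent to the size. -/
theorem card_fixed_modEq (C : Set Ω) [Finite C] (g : G) (hg : ∀ x ∈ C, g • x ∈ C)
    (hgi : ∀ x ∈ C, g⁻¹ • x ∈ C) {p : ℕ} (hp : p.Prime) (hgp : g ^ p = 1) :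
    Nat.card {x : C // g • (x : Ω) = x} ≡ Nat.card C [MOD p] := by
  classical
  have := Fintype.ofFinite C
  haveI : Fact p.Prime := ⟨hp⟩
  let σ : Equiv.Perm C :=
    { toFun := fun x => ⟨g • (x : Ω), hg x x.2⟩
      invFun := fun x => ⟨g⁻¹ • (x : Ω), hgi x x.2⟩
      left_inv := fun x => Subtype.ext (inv_smul_smul g (x : Ω))
      right_inv := fun x => Subtype.ext (smul_inv_smul g (x : Ω)) }
  have hpow : ∀ (i : ℕ) (x : C), ((σ ^ i) x : Ω) = g ^ i • (x : Ω) := by
    intro i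
    induction i with
    | zero => intro x; simp
    | succ i ih =>
      intro x
      rw [pow_succ', pow_succ', Equiv.Perm.mul_apply, mul_smul, ← ih]
      rfl
  have hσ : σ ^ p ^ 1 = 1 := Equiv.ext fun x => Subtype.ext (by
    rw [hpow, pow_one, hgp, one_smul]; rfl)
  have h := Equiv.Perm.card_compl_support_modEq hσ
  have e : Nat.card {x : C // g • (x : Ω) = x} = σ.supportᶜ.card := by
    rw [Nat.card_eq_fintype_card, Fintype.card_subtype]
    congr 1
    ext x
    simp only [Finset.mem_filter, Finset.mem_univ, true_and, Finset.mem_compl, Equiv.Perm.mem_support,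
      not_not]
    exact ⟨fun h => Subtype.ext h, fun h => congrArg Subtype.val h⟩
  rw [e, Nat.card_eq_fintype_card]
  exact h

namespace UNorm

variable (U : UNorm G Ω a t Q F n c)
include U

/-- The image of `B` under `g`. -/
def chord (_U : UNorm G Ω a t Q F n c) (g : G) : Set Ω := (fun p => g • p) '' _U.chordB

theorem mem_chord {g : G} {p : Ω} : p ∈ U.chord g ↔ g⁻¹ • p ∈ U.chordB := by
  constructor
  · rintro ⟨q, hq, rfl⟩; simpa using hq
  · exact fun h => ⟨_, h, smul_inv_smul g p⟩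

theorem smul_mem_chord {g h : G} {p : Ω} : h • p ∈ U.chord (h * g) ↔ p ∈ U.chord g := by
  rw [U.mem_chord, U.mem_chord, mul_inv_rev, mul_smul, inv_smul_smul]

theorem chord_mul_eq {g g' : G} (h : U.chord g = U.chord g') (x : G) :
    U.chord (x * g) = U.chord (x * g') := by
  ext p
  rw [show p = x • (x⁻¹ • p) from (smul_inv_smul x p).symm, U.smul_mem_chord, U.smul_mem_chord, h]

theorem mem_smul_chord {g h : G} {p q : Ω} (e : h • p = q) : q ∈ U.chord (h * g) ↔ p ∈ U.chord g := by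
  subst e; exact U.smul_mem_chord

theorem chord_one : U.chord 1 = U.chordB := by ext p; simp [U.mem_chord]

theorem D_smul_B {d : G} (hd : d ∈ twoStab G a t) {p : Ω} (hp : p ∈ U.chordB) : d • p ∈ U.chordB := by
  rcases hp with rfl | ⟨x, hx, rfl⟩
  · rw [hd.1]; exact Or.inl rfl
  · rw [U.D_pt hd, U.pt_mem_B]
    by_cases h1 : x = 1
    · rw [h1, show conjQ U.setup hd 1 = 1 from Subtype.ext (by simp [conjQ_coe]), U.toUData.xC_one]
    · exact (U.mem_invs_iff.1 (inverted_conj_mem U.setup (U.mem_invs_iff.2 ⟨hx, h1⟩) hd.1)).1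

theorem B_two_trans {p q : Ω} (hp : p ∈ U.chordB) (hq : q ∈ U.chordB) (hpq : p ≠ q) :
    ∃ g ∈ U.L₀, g • p = a ∧ g • q = t • a := by
  obtain ⟨g, hg, hgp⟩ := U.exists_L₀_to_a hp
  have hgq : g • q ∈ U.chordB := (U.L₀_smul_B hg q).2 hq
  rcases hgq with h | ⟨x, hx, h⟩
  · exact absurd (smul_left_cancel g (hgp.trans h.symm)) hpq
  · refine ⟨(x : G) * g, mul_mem ?_ hg, by rw [mul_smul, hgp, Q_fix U.setup x.2], ?_⟩
    · rw [← U.zEl_yC hx]; exact U.zEl_mem_L₀ (U.toUData.yC_fixed hx)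
    · rw [mul_smul, h, U.smul_pt, U.mul_self_eq_one_iff.2 hx, U.pt_one]

theorem eq_B_of_mem {g : G} (ha : a ∈ U.chord g) (hb : t • a ∈ U.chord g) : U.chord g = U.chordB := by
  have hne : g⁻¹ • a ≠ g⁻¹ • (t • a) := fun h => b_ne U.setup (smul_left_cancel _ h).symm
  obtain ⟨h, hh, h1, h2⟩ := U.B_two_trans (U.mem_chord.1 ha) (U.mem_chord.1 hb) hne
  have hd : h * g⁻¹ ∈ twoStab G a t :=
    ⟨by show (h * g⁻¹) • a = a; rw [mul_smul, h1], by show (h * g⁻¹) • (t • a) = t • a; rw [mul_smul, h2]⟩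
  ext p
  rw [U.mem_chord]
  constructor
  · intro hp
    have e : p = (h * g⁻¹)⁻¹ • (h • (g⁻¹ • p)) := by rw [← mul_smul h, inv_smul_smul]
    rw [e]
    exact U.D_smul_B ((twoStab G a t).inv_mem hd) ((U.L₀_smul_B hh _).2 hp)
  · intro hp
    rw [← U.L₀_smul_B hh, ← mul_smul]
    exact U.D_smul_B hd hp

theorem chord_eq {g g' : G} {p q : Ω} (hpq : p ≠ q) (hp : p ∈ U.chord g) (hq : q ∈ U.chord g)
    (hp' : p ∈ U.chord g') (hq' : q ∈ U.chord g') : U.chord g = U.chord g' := by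
  obtain ⟨e, he1, he2⟩ := exists_pair U.setup hpq (b_ne U.setup).symm
  have key : ∀ g : G, p ∈ U.chord g → q ∈ U.chord g → U.chord (e * g) = U.chordB := fun g h1 h2 =>
    U.eq_B_of_mem ((U.mem_smul_chord he1).2 h1) ((U.mem_smul_chord he2).2 h2)
  have h := U.chord_mul_eq ((key g hp hq).trans (key g' hp' hq').symm) e⁻¹
  rwa [inv_mul_cancel_left, inv_mul_cancel_left] at h

theorem card_B : Nat.card U.chordB = 2 ^ n + 1 := by
  classical
  have hinj : Function.Injective (fun o : Option {z : F // z ^ 2 ^ n = z} =>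
      o.elim a fun z => U.pt (U.zEl z.1)) := by
    rintro (_ | z) (_ | z') h
    · rfl
    · exact absurd h.symm (U.pt_ne _)
    · exact absurd h (U.pt_ne _)
    · exact congrArg some (Subtype.ext (U.zEl_injective z.2 z'.2 (U.pt_injective h)))
  have hr : U.chordB = Set.range (fun o : Option {z : F // z ^ 2 ^ n = z} =>
      o.elim a fun z => U.pt (U.zEl z.1)) := by
    ext p
    constructor
    · rintro (rfl | ⟨x, hx, rfl⟩)
      · exact ⟨none, rfl⟩
      · exact ⟨some ⟨U.yC x, U.toUData.yC_fixed hx⟩, by show U.pt (U.zEl (U.yC x)) = _; rw [U.zEl_yC hx]⟩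
    · rintro ⟨_ | z, rfl⟩
      · exact Or.inl rfl
      · exact U.pt_mem_B.2 (U.xC_zEl _)
  rw [hr, Nat.card_congr (Equiv.ofInjective _ hinj).symm, Finite.card_option, card_fixed U.hF]

theorem card_chord (g : G) : Nat.card (U.chord g) = 2 ^ n + 1 := by
  rw [chord, Nat.card_image_of_injective (MulAction.injective g), U.card_B]

theorem finite_Omega : Finite Ω := finiteOmega U.setup

/-- The only element of `Q` stabilising a chord avoiding `a` is `1`. -/
theorem Q_stab {g : G} (ha : a ∉ U.chord g) {x : Q} (h : U.chord ((x : G) * g) = U.chord g) : x = 1 := by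
  classical
  haveI := U.finite_Omega
  have key : ∀ z : Q, z * z = 1 → U.chord ((z : G) * g) = U.chord g → z = 1 := by
    intro z hz hzC
    by_contra hne
    have hzz : (z : G) * z = 1 := congrArg Subtype.val hz
    have hmaps : ∀ p ∈ U.chord g, (z : G) • p ∈ U.chord g := fun p hp => by
      rw [← hzC]; exact U.smul_mem_chord.2 hp
    have hm := card_fixed_modEq (U.chord g) (z : G) hmaps (fun p hp => by
      rw [inv_eq_self_of_sq hzz]; exact hmaps p hp) Nat.prime_two (by rw [pow_two, hzz])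
    have h0 : IsEmpty {p : U.chord g // (z : G) • (p : Ω) = p} := by
      constructor
      rintro ⟨⟨p, hp⟩, hfix⟩
      have hpa : p ≠ a := fun e => by
        subst e
        exact ha hp
      exact hne (Subtype.ext (Q_free U.setup z.2 hpa hfix))
    rw [Nat.card_of_isEmpty, U.card_chord] at hm
    have he : Even (2 ^ n) := Nat.even_pow.2 ⟨even_two, by have := U.toUData.two_le; omega⟩
    obtain ⟨k, hk⟩ := he
    have : (2 ^ n + 1) % 2 = 0 := hm.symm
    omega
  have hxx : U.chord (((x * x : Q) : G) * g) = U.chord g := by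
    rw [Subgroup.coe_mul, mul_assoc, U.chord_mul_eq h, h]
  have h2 : x * x = 1 := key _ (U.mul_self_eq_one_iff.2 (by
    rw [U.xC_mul, U.toUData.add_self'])) hxx
  exact key x h2 h

theorem conj_Q {d : G} (hd : d ∈ twoStab G a t) (x : Q) : d * (x : G) = (conjQ U.setup hd x : G) * d := by
  rw [conjQ_coe]; group

theorem QD_pow {d : G} (hd : d ∈ twoStab G a t) (y : Q) (i : ℕ) :
    ∃ z : Q, ((y : G) * d) ^ i = (z : G) * d ^ i := by
  induction i with
  | zero => exact ⟨1, by simp⟩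
  | succ i ih =>
    obtain ⟨z, hz⟩ := ih
    refine ⟨z * conjQ U.setup ((twoStab G a t).pow_mem hd i) y, ?_⟩
    rw [pow_succ, hz, pow_succ, Subgroup.coe_mul, conjQ_coe]
    group

theorem kEl_pow {l : F} (hl : l ^ 2 ^ n = l) (hl0 : l ≠ 0) (i : ℕ) : U.kEl l ^ i = U.kEl (l ^ i) := by
  induction i with
  | zero => rw [pow_zero, pow_zero, U.kEl_one]
  | succ i ih =>
    rw [pow_succ, ih, U.kEl_mul (by rw [← pow_mul, mul_comm, pow_mul, hl]) (pow_ne_zero i hl0) hl hl0,
      pow_succ]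

theorem fixed_pow_pred {l : F} (hl : l ^ 2 ^ n = l) (hl0 : l ≠ 0) : l ^ (2 ^ n - 1) = 1 := by
  apply mul_left_cancel₀ hl0
  rw [← pow_succ', Nat.sub_add_cancel Nat.one_le_two_pow, hl, mul_one]

theorem eq_one_of_sq {l : F} (h : l ^ 2 = 1) : l = 1 := by
  haveI := U.toUData.char_two
  exact CharTwo.sq_injective (h.trans (one_pow 2).symm)

/-- A scalar moves a chord avoiding `a` out of its orbit under `Q`. -/
theorem kEl_stab {g : G} (ha : a ∉ U.chord g) {l : F} (hl : l ^ 2 ^ n = l) (hl0 : l ≠ 0) {x : Q}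
    (h : U.chord (U.kEl l * g) = U.chord ((x : G) * g)) : l = 1 := by
  classical
  haveI := U.finite_Omega
  by_contra hne
  have hS := U.setup
  have hk := U.kEl_D l
  set h' := ((x⁻¹ : Q) : G) * U.kEl l with hh'
  have hC : U.chord (h' * g) = U.chord g := by
    rw [hh', mul_assoc, U.chord_mul_eq h, Subgroup.coe_inv, inv_mul_cancel_left]
  have hpowC : ∀ i : ℕ, U.chord (h' ^ i * g) = U.chord g := by
    intro i
    induction i with
    | zero => rw [pow_zero, one_mul]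
    | succ i ih => rw [pow_succ', mul_assoc, U.chord_mul_eq ih, hC]
  have hone : h' ^ (2 ^ n - 1) = 1 := by
    obtain ⟨y, hy⟩ := U.QD_pow hk x⁻¹ (2 ^ n - 1)
    rw [← hh', U.kEl_pow hl hl0, U.fixed_pow_pred hl hl0, U.kEl_one, mul_one] at hy
    rw [hy, U.Q_stab ha (x := y) (by rw [← hy]; exact hpowC _), Subgroup.coe_one]
  have hne' : h' ≠ 1 := by
    intro h1
    have e := congrArg (fun g : G => g • (t • a)) h1
    simp only [hh', mul_smul, show U.kEl l • (t • a) = t • a from hk.2, one_smul] at e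
    have hx1 : ((x⁻¹ : Q) : G) = 1 := Q_free hS (x⁻¹ : Q).2 (b_ne hS) e
    rw [hh', hx1, one_mul, ← U.kEl_one] at h1
    exact hne (U.kEl_injective hl hl0 (one_pow _) one_ne_zero h1)
  set p := (orderOf h').minFac with hp
  have hpp : p.Prime := Nat.minFac_prime (fun e => hne' (orderOf_eq_one_iff.1 e))
  have hpd : p ∣ orderOf h' := Nat.minFac_dvd _
  have hpq : p ∣ 2 ^ n - 1 := hpd.trans (orderOf_dvd_of_pow_eq_one hone)
  set j := orderOf h' / p with hj
  have hjp : (h' ^ j) ^ p = 1 := by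
    rw [← pow_mul, hj, Nat.div_mul_cancel hpd, pow_orderOf_eq_one]
  have hj1 : h' ^ j ≠ 1 := by
    intro e
    have hpos : 0 < orderOf h' / p := Nat.div_pos (Nat.le_of_dvd (orderOf_pos h') hpd) hpp.pos
    have hdvd : orderOf h' ∣ orderOf h' / p := orderOf_dvd_of_pow_eq_one (hj ▸ e)
    have h1 := Nat.le_of_dvd hpos hdvd
    have h2 := Nat.div_lt_self (orderOf_pos h') hpp.one_lt
    omega
  have hmaps : ∀ q ∈ U.chord g, h' ^ j • q ∈ U.chord g := fun q hq => by
    rw [← hpowC j]; exact U.smul_mem_chord.2 hq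
  have hmaps' : ∀ q ∈ U.chord g, (h' ^ j)⁻¹ • q ∈ U.chord g := fun q hq => by
    have e : (h' ^ j)⁻¹ = (h' ^ j) ^ (p - 1) := inv_eq_of_mul_eq_one_left (by
      rw [← pow_succ, Nat.sub_add_cancel hpp.pos, hjp])
    rw [e, ← pow_mul, ← hpowC (j * (p - 1))]
    exact U.smul_mem_chord.2 hq
  have hm := card_fixed_modEq (U.chord g) (h' ^ j) hmaps hmaps' hpp hjp
  -- such an element fixes at most one point of the chord
  have hsub : Subsingleton {q : U.chord g // h' ^ j • (q : Ω) = q} := by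
    constructor
    rintro ⟨⟨p₁, hp₁⟩, hf₁⟩ ⟨⟨p₂, hp₂⟩, hf₂⟩
    by_contra hne12
    have h12 : p₁ ≠ p₂ := fun e => hne12 (Subtype.ext (Subtype.ext e))
    have hp₁a : p₁ ≠ a := fun e => ha (e ▸ hp₁)
    have hp₂a : p₂ ≠ a := fun e => ha (e ▸ hp₂)
    obtain ⟨z, hz⟩ := U.exists_pt hp₁a
    obtain ⟨y, hy⟩ := U.QD_pow hk x⁻¹ j
    rw [← hh'] at hy
    have hkj : U.kEl l ^ j ∈ twoStab G a t := (twoStab G a t).pow_mem hk j
    have hzy : y * conjQ hS hkj z = z := by
      refine U.pt_injective ?_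
      have e : h' ^ j • p₁ = p₁ := hf₁
      rwa [hy, ← hz, mul_smul, U.D_pt hkj, U.smul_pt] at e
    have e : (z : G)⁻¹ * h' ^ j * (z : G) = U.kEl l ^ j := by
      have e1 : (y : G) * (U.kEl l ^ j * (z : G) * (U.kEl l ^ j)⁻¹) = z :=
        congrArg Subtype.val hzy
      rw [hy]
      calc (z : G)⁻¹ * ((y : G) * U.kEl l ^ j) * z
          = (z : G)⁻¹ * ((y : G) * (U.kEl l ^ j * (z : G) * (U.kEl l ^ j)⁻¹)) * U.kEl l ^ j := by group
        _ = U.kEl l ^ j := by rw [e1, inv_mul_cancel, one_mul]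
    refine hj1 ?_
    have hkjK : U.kEl l ^ j ∈ kSet a t := by
      rw [U.kEl_pow hl hl0]; exact U.kEl_mem _
    have hz1 : (z : G)⁻¹ • p₁ = t • a := inv_smul_eq_iff.2 hz.symm
    have hfix := inverted_fix_three hS hkjK ⟨a, t • a, (z : G)⁻¹ • p₂, (b_ne hS).symm, ?_, ?_, hkj.1,
      hkj.2, by rw [← e, mul_smul, mul_smul, smul_inv_smul, show h' ^ j • p₂ = p₂ from hf₂]⟩
    · rw [hfix, mul_eq_one_iff_eq_inv, inv_mul_eq_iff_eq_mul, mul_inv_cancel] at e
      exact e
    · exact fun e' => hp₂a (by rw [← Q_fix hS z.2, e', smul_inv_smul])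
    · exact fun e' => h12 (smul_left_cancel (z : G)⁻¹ (hz1.trans e'))
  have h2p : p ≠ 2 := by
    intro e
    rw [e] at hpq
    have : Even (2 ^ n) := Nat.even_pow.2 ⟨even_two, by have := U.toUData.two_le; omega⟩
    obtain ⟨k, hk2⟩ := this
    have := Nat.one_le_two_pow (n := n)
    omega
  have hle : Nat.card {q : U.chord g // h' ^ j • (q : Ω) = q} ≤ 1 := Finite.card_le_one_iff_subsingleton.2 hsub
  rw [U.card_chord] at hm
  have hq2 : (2 ^ n + 1) ≡ 2 [MOD p] := by
    have e : 2 ^ n + 1 = (2 ^ n - 1) + 2 := by have := Nat.one_le_two_pow (n := n); omega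
    rw [e]
    exact (Nat.modEq_zero_iff_dvd.2 hpq).add_right 2
  have h3 : Nat.card {q : U.chord g // h' ^ j • (q : Ω) = q} % p = 2 % p := hm.trans hq2
  have := hpp.two_le
  rw [Nat.mod_eq_of_lt (by omega), Nat.mod_eq_of_lt (by omega)] at h3
  omega

theorem exists_tx {g : G} (hb : t • a ∈ U.chord g) (ha : a ∉ U.chord g) :
    ∃ x : Q, U.xC x ≠ 0 ∧ U.chord g = U.chord (t * (x : G)) := by
  classical
  haveI := U.finite_Omega
  have haT : a ∈ U.chord (t * g) := (U.mem_smul_chord (tt_smul U.setup a)).2 hb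
  have hbT : t • a ∉ U.chord (t * g) := fun h => ha (U.smul_mem_chord.1 h)
  have h2 : 1 < Nat.card (U.chord (t * g)) := by rw [U.card_chord]; have := U.toUData.four_le; omega
  haveI := Finite.one_lt_card_iff_nontrivial.1 h2
  obtain ⟨⟨p, hp⟩, hne⟩ := exists_ne (⟨a, haT⟩ : U.chord (t * g))
  have hpa : p ≠ a := fun e => hne (Subtype.ext e)
  obtain ⟨x, hx⟩ := U.exists_pt hpa
  have hax : a ∈ U.chord (x : G) := by
    rw [U.mem_chord, Q_inv_fix U.setup x.2]; exact Or.inl rfl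
  have hpx : p ∈ U.chord (x : G) := by
    rw [U.mem_chord, ← hx, pt, inv_smul_smul]
    rw [← U.pt_one]; exact U.pt_mem_B.2 U.toUData.xC_one
  have heq := U.chord_eq hpa hp haT hpx hax
  refine ⟨x, fun h0 => hbT ?_, ?_⟩
  · rw [heq, U.mem_chord]
    have e : (x : G)⁻¹ • (t • a) = U.pt x⁻¹ := rfl
    rw [e, U.pt_mem_B, U.xC_inv, h0]
  · have h := U.chord_mul_eq heq t
    rwa [← mul_assoc, U.setup.mul_self, one_mul] at h

theorem tx_spec {x : Q} (hx : U.xC x ≠ 0) :
    t • a ∈ U.chord (t * (x : G)) ∧ a ∉ U.chord (t * (x : G)) := by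
  refine ⟨U.smul_mem_chord.2 (by rw [U.mem_chord, Q_inv_fix U.setup x.2]; exact Or.inl rfl), fun h => ?_⟩
  replace h := (U.mem_smul_chord (tt_smul U.setup a)).1 h
  rw [U.mem_chord] at h
  have h' : U.pt x⁻¹ ∈ U.chordB := h
  exact hx (by rw [← U.xC_inv]; exact U.pt_mem_B.1 h')

/-- Every chord through `b` missing `a` is in the orbit of any other under `Q K`. -/
theorem exists_translate {g : G} (ha : a ∉ U.chord g) {g' : G} (hb' : t • a ∈ U.chord g')
    (ha' : a ∉ U.chord g') :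
    ∃ (l : F) (x : Q), l ^ 2 ^ n = l ∧ l ≠ 0 ∧ U.chord g' = U.chord ((x : G) * U.kEl l * g) := by
  classical
  haveI := U.finite_Omega
  let L := {l : F // l ^ 2 ^ n = l ∧ l ≠ 0}
  have hy : ∀ (s : L × U.chord g), ∃ y : Q, U.pt y = U.kEl s.1.1 • (s.2 : Ω) := fun s =>
    U.exists_pt fun e => ha (by
      have e' : (s.2 : Ω) = a := smul_left_cancel (U.kEl s.1.1) (e.trans (U.kEl_D _).1.symm)
      have h2 := (U.mem_smul_chord (h := 1) (q := a) (by rw [one_smul]; exact e')).2 s.2.2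
      rwa [one_mul] at h2)
  choose y hy using hy
  have hthru : ∀ s : L × U.chord g,
      t • a ∈ U.chord (((y s)⁻¹ : Q) * U.kEl s.1.1 * g) ∧
        a ∉ U.chord (((y s)⁻¹ : Q) * U.kEl s.1.1 * g) := by
    intro s
    constructor
    · have e : t • a = ((((y s)⁻¹ : Q) : G) * U.kEl s.1.1) • (s.2 : Ω) := by
        rw [mul_smul, ← hy, U.smul_pt, inv_mul_cancel, U.pt_one]
      exact (U.mem_smul_chord e.symm).2 s.2.2
    · intro h
      have e : a = ((((y s)⁻¹ : Q) : G) * U.kEl s.1.1) • a := by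
        rw [mul_smul, (U.kEl_D _).1, Q_fix U.setup ((y s)⁻¹).2]
      exact ha ((U.mem_smul_chord e.symm).1 h)
  choose x hx hxe using fun s => U.exists_tx (hthru s).1 (hthru s).2
  let f : L × U.chord g → {A : F // A ≠ 0} := fun s => ⟨U.xC (x s), hx s⟩
  have hsame : ∀ u v : Q, U.xC u = U.xC v → U.chord (t * (u : G)) = U.chord (t * (v : G)) := by
    intro u v huv
    refine U.chord_mul_eq ?_ t
    refine U.chord_eq (p := a) (q := U.pt v) (fun e => U.pt_ne v e.symm)
      (by rw [U.mem_chord, Q_inv_fix U.setup u.2]; exact Or.inl rfl) ?_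
      (by rw [U.mem_chord, Q_inv_fix U.setup v.2]; exact Or.inl rfl) ?_
    · rw [U.mem_chord, ← Subgroup.coe_inv, U.smul_pt, U.pt_mem_B, U.xC_mul, U.xC_inv, huv,
        U.toUData.add_self']
    · rw [U.mem_chord, ← Subgroup.coe_inv, U.smul_pt, inv_mul_cancel, U.pt_mem_B, U.toUData.xC_one]
  have hinj : Function.Injective f := by
    intro s s' h
    have e : U.chord (((y s)⁻¹ : Q) * U.kEl s.1.1 * g) = U.chord (((y s')⁻¹ : Q) * U.kEl s'.1.1 * g) := by
      rw [hxe, hxe, hsame _ _ (congrArg Subtype.val h)]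
    obtain ⟨⟨l, hl, hl0⟩, p⟩ := s
    obtain ⟨⟨m, hm, hm0⟩, p'⟩ := s'
    set u := y (⟨l, hl, hl0⟩, p) with hu
    set v := y (⟨m, hm, hm0⟩, p') with hv
    have hli : (m⁻¹ * l) ^ 2 ^ n = m⁻¹ * l := by rw [mul_pow, inv_pow, hm, hl]
    have hli0 : m⁻¹ * l ≠ 0 := mul_ne_zero (inv_ne_zero hm0) hl0
    have hD : (U.kEl m)⁻¹ ∈ twoStab G a t := inv_mem (U.kEl_D m)
    have hz : ∀ q : Q, (U.kEl m)⁻¹ * ((q : G) * U.kEl l * g) =
        (conjQ U.setup hD q : G) * U.kEl (m⁻¹ * l) * g := by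
      intro q
      rw [← U.kEl_mul (by rw [inv_pow, hm]) (inv_ne_zero hm0) hl hl0, ← U.kEl_inv hm hm0, conjQ_coe]
      group
    have e2 := U.chord_mul_eq e ((U.kEl m)⁻¹)
    rw [hz] at e2
    have e3 : (U.kEl m)⁻¹ * (((v⁻¹ : Q) : G) * U.kEl m * g) = (conjQ U.setup hD v⁻¹ : G) * g := by
      rw [conjQ_coe]; group
    rw [e3] at e2
    have e4 := U.chord_mul_eq e2 ((conjQ U.setup hD u⁻¹ : G)⁻¹)
    rw [← mul_assoc, inv_mul_cancel_left, ← mul_assoc, ← Subgroup.coe_inv, ← Subgroup.coe_mul] at e4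
    have hlm : l = m := by
      have := U.kEl_stab ha hli hli0 e4
      rwa [inv_mul_eq_one₀ hm0, eq_comm] at this
    subst hlm
    rw [inv_mul_cancel₀ hl0, U.kEl_one, one_mul] at e4
    have e5 := U.Q_stab ha e4.symm
    rw [inv_mul_eq_one] at e5
    have huv : u = v := by
      have h' := congrArg Subtype.val e5
      rw [conjQ_coe, conjQ_coe] at h'
      exact inv_injective (Subtype.ext (mul_left_cancel (mul_right_cancel h')))
    have hp : (p : Ω) = p' := by
      have h1 : U.pt u = U.kEl l • (p : Ω) := hy (⟨l, hl, hl0⟩, p)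
      have h2 : U.pt v = U.kEl l • (p' : Ω) := hy (⟨l, hm, hm0⟩, p')
      exact smul_left_cancel (U.kEl l) (h1.symm.trans ((congrArg U.pt huv).trans h2))
    rw [Subtype.ext hp]
  have hL : Nat.card L = 2 ^ n - 1 := by
    have hR : Nat.card {l : F // l ^ 2 ^ n = l} = 2 ^ n := card_fixed U.hF
    rw [Nat.card_eq_fintype_card, Fintype.card_subtype] at hR ⊢
    rw [show (Finset.univ.filter fun l : F => l ^ 2 ^ n = l ∧ l ≠ 0) =
      (Finset.univ.filter fun l : F => l ^ 2 ^ n = l).erase 0 by ext l; simp [and_comm],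
      Finset.card_erase_of_mem (by simp [U.toUData.bar_zero]), hR]
  have hcard : Nat.card (L × U.chord g) = Nat.card {A : F // A ≠ 0} := by
    rw [Nat.card_prod, hL, U.card_chord]
    rw [Nat.card_eq_fintype_card, Fintype.card_subtype_compl, Fintype.card_subtype_eq, U.hF]
    obtain ⟨q, hq⟩ : ∃ q, 2 ^ n = q + 1 := ⟨2 ^ n - 1, by have := Nat.one_le_two_pow (n := n); omega⟩
    rw [hq, Nat.add_sub_cancel]
    apply Nat.eq_sub_of_add_eq
    ring
  obtain ⟨x', hx', hxe'⟩ := U.exists_tx hb' ha'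
  obtain ⟨s, hs⟩ := ((Nat.bijective_iff_injective_and_card f).2 ⟨hinj, hcard⟩).2 ⟨U.xC x', hx'⟩
  refine ⟨s.1.1, (y s)⁻¹, s.1.2.1, s.1.2.2, ?_⟩
  rw [hxe', hxe, hsame _ _ (congrArg Subtype.val hs)]

theorem wEl_kEl {l : F} (hl : l ^ 2 ^ n = l) (hl0 : l ≠ 0) : Commute U.wEl (U.kEl l) :=
  U.wEl_comm_L₀ (U.kEl_mem_L₀ hl hl0)

theorem wEl_pow_eq_one : U.wEl ^ (2 ^ n + 1) = 1 := by
  refine U.D_ext ((twoStab G a t).pow_mem U.wEl_D _) (twoStab G a t).one_mem fun x => ?_
  obtain ⟨e1, e2⟩ := U.coord_wEl_pow (2 ^ n + 1) x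
  rw [show conjQ U.setup (twoStab G a t).one_mem x = x from Subtype.ext (by simp [conjQ_coe])]
  exact U.ext (by rw [e1, U.toUData.wEl_spec.2.2.1, one_mul]) e2

/-- Some translate of a chord through `b` missing `a` is stable under `wEl`. -/
theorem exists_stable {g : G} (hb : t • a ∈ U.chord g) (ha : a ∉ U.chord g) :
    ∃ z : Q, U.chord (U.wEl * ((z : G) * g)) = U.chord ((z : G) * g) := by
  have hwb : U.wEl • (t • a) = t • a := U.wEl_D.2
  have hwa : U.wEl • a = a := U.wEl_D.1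
  obtain ⟨l, x, hl, hl0, hx⟩ := U.exists_translate ha (g' := U.wEl * g)
    ((U.mem_smul_chord hwb).2 hb) (fun h => ha ((U.mem_smul_chord hwa).1 h))
  have hli : l⁻¹ ^ 2 ^ n = l⁻¹ := by rw [inv_pow, hl]
  -- `h = (y w k⁻¹)` stabilises the chord
  set d := (U.kEl l)⁻¹ * U.wEl with hd
  have hdD : d ∈ twoStab G a t := mul_mem (inv_mem (U.kEl_D l)) U.wEl_D
  set y := conjQ U.setup (inv_mem (U.kEl_D l)) x⁻¹ with hy
  set h := (y : G) * d with hh
  have hstab : U.chord (h * g) = U.chord g := by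
    have e := U.chord_mul_eq hx ((U.kEl l)⁻¹ * (x : G)⁻¹)
    rw [show (U.kEl l)⁻¹ * (x : G)⁻¹ * ((x : G) * U.kEl l * g) = g by group] at e
    rw [← e, hh, hd, hy, conjQ_coe, Subgroup.coe_inv]
    congr 1
    group
  have hpow : ∀ i : ℕ, U.chord (h ^ i * g) = U.chord g := by
    intro i
    induction i with
    | zero => rw [pow_zero, one_mul]
    | succ i ih => rw [pow_succ', mul_assoc, U.chord_mul_eq ih, hstab]
  obtain ⟨u, hu⟩ := U.QD_pow hdD y (2 ^ n + 1)
  have hdpow : d ^ (2 ^ n + 1) = U.kEl (l⁻¹ ^ 2) := by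
    rw [hd, U.kEl_inv hl hl0, (U.wEl_kEl hli (inv_ne_zero hl0)).symm.mul_pow, U.wEl_pow_eq_one, mul_one,
      U.kEl_pow hli (inv_ne_zero hl0), pow_succ, hli, sq]
  have hl1 : l = 1 := by
    have e := hpow (2 ^ n + 1)
    rw [← hh] at hu
    rw [hu, hdpow, mul_assoc] at e
    have e' := U.chord_mul_eq e (u : G)⁻¹
    rw [inv_mul_cancel_left, ← Subgroup.coe_inv] at e'
    have := U.kEl_stab ha (by rw [← pow_mul, mul_comm 2, pow_mul, hli]) (pow_ne_zero 2 (inv_ne_zero hl0)) e'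
    exact inv_eq_one.1 (U.eq_one_of_sq this)
  subst hl1
  have hdw : d = U.wEl := by rw [hd, U.kEl_one, inv_one, one_mul]
  rw [hdw] at hh
  have hm1 : 1 + U.mU ≠ 0 := fun h => U.toUData.mU_ne_one (U.toUData.add_eq_zero'.1 h).symm
  obtain ⟨z', hz'⟩ := U.toUData.exists_above (U.xC y / (1 + U.mU))
  set v := z'⁻¹ * (y * conjQ U.setup U.wEl_D z') with hv
  have hvx : U.xC v = 0 := by
    rw [hv, U.xC_mul, U.xC_mul, U.xC_inv, (U.coord_wEl z').1, hz']
    have h2 := U.toUData.two_zero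
    field_simp
    linear_combination U.xC y * (1 + U.mU) * h2
  set h₁ := (v : G) * U.wEl with hh₁
  have hstab₁ : U.chord (h₁ * ((z' : G)⁻¹ * g)) = U.chord ((z' : G)⁻¹ * g) := by
    have e : h₁ * ((z' : G)⁻¹ * g) = (z' : G)⁻¹ * (h * g) := by
      rw [hh₁, hv, hh]
      simp only [Subgroup.coe_mul, Subgroup.coe_inv, conjQ_coe]
      group
    rw [e]
    exact U.chord_mul_eq hstab _
  have ha₁ : a ∉ U.chord ((z' : G)⁻¹ * g) := fun h' =>
    ha ((U.mem_smul_chord (Q_inv_fix U.setup z'.2)).1 h')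
  have hpow₁ : ∀ i : ℕ, U.chord (h₁ ^ i * ((z' : G)⁻¹ * g)) = U.chord ((z' : G)⁻¹ * g) := by
    intro i
    induction i with
    | zero => rw [pow_zero, one_mul]
    | succ i ih => rw [pow_succ', mul_assoc, U.chord_mul_eq ih, hstab₁]
  have hvv : (v : G) * v = 1 := congrArg Subtype.val (U.mul_self_eq_one_iff.2 hvx)
  have hv1 : h₁ ^ (2 ^ n + 1) = v := by
    rw [hh₁, (show Commute (v : G) U.wEl from (U.toUData.wEl_central hvx).symm).mul_pow, U.wEl_pow_eq_one,
      mul_one]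
    obtain ⟨k, hk⟩ : Even (2 ^ n) := Nat.even_pow.2 ⟨even_two, by have := U.toUData.two_le; omega⟩
    rw [pow_succ, hk, ← two_mul, pow_mul, pow_two, hvv, one_pow, one_mul]
  have hveq : v = 1 := U.Q_stab ha₁ (by rw [← hv1]; exact hpow₁ _)
  refine ⟨z'⁻¹, ?_⟩
  rw [Subgroup.coe_inv]
  rwa [hh₁, hveq, Subgroup.coe_one, one_mul] at hstab₁

end UNorm

end Cfsg.Agent.Lib.RankOneIdent.PSU3
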