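import Cfsg.Agent.Lib.RankOneIdent.Layer
import Cfsg.Agent.Lib.U3Sylow.Coords
import Cfsg.Agent.Lib.BenderSuzuki.Interface

/-!
# The unitary case: the data in coordinates

`Q` is the group of pairs `(x, y)` over `F = GF(q²)` with `y + y^q = x x^q`; `kEl` realises the scalars of
`GF(q)` inside `K` and `wEl` multiplies the first coordinate by `mU`, a norm-one unit different from `1`.
-/

set_option autoImplicit false
set_option linter.unusedSectionVars false
set_option linter.style.haveILetI false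

namespace Cfsg.Agent.Lib.RankOneIdent.PSU3

open Cfsg.Agent.Lib.RankOne.Involution Cfsg.Agent.Lib.RankOne.Basic MulAction
open Cfsg.Agent.Lib.BenderSuzuki Cfsg.Agent.Lib.Unitary Cfsg.Agent.Lib.U3Sylow

/-- The hypotheses, with `q = 2 ^ n`. -/
structure UData (G Ω : Type*) [Group G] [MulAction G Ω] (a : Ω) (t : G) (Q : Subgroup G) (F : Type)
    [Field F] [Fintype F] (n : ℕ) (c : G → F × F) : Prop where
  setup : Cfsg.IsRankOneSetup G Ω a t Q
  faithful : FaithfulSMul G Ω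
  two_le : 2 ≤ n
  hF : Fintype.card F = (2 ^ n) ^ 2
  hq : qNum G a = 2 ^ n
  co : BenderSuzuki.Coords G a t Q F (2 ^ n) c

variable {G Ω : Type*} [Group G] [MulAction G Ω] {a : Ω} {t : G} {Q : Subgroup G} {F : Type}
  [Field F] [Fintype F] {n : ℕ} {c : G → F × F}

namespace UData

variable (U : UData G Ω a t Q F n c)
include U

theorem char_two : CharP F 2 := charP_two U.hF

theorem two_zero : (2 : F) = 0 := by haveI := U.char_two; exact CharTwo.two_eq_zero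

theorem add_self' (x : F) : x + x = 0 := by haveI := U.char_two; exact CharTwo.add_self_eq_zero x

theorem add_eq_zero' {x y : F} : x + y = 0 ↔ x = y := by
  haveI := U.char_two; exact CharTwo.add_eq_zero

theorem neg_eq' (x : F) : -x = x := by haveI := U.char_two; exact CharTwo.neg_eq x

theorem four_le : 4 ≤ 2 ^ n := le_trans (le_of_eq (by norm_num : (4 : ℕ) = 2 ^ 2)) (Nat.pow_le_pow_right two_pos U.two_le)

theorem bar_bar (x : F) : (x ^ 2 ^ n) ^ 2 ^ n = x := pow_q_q U.hF x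

theorem bar_add (x y : F) : (x + y) ^ 2 ^ n = x ^ 2 ^ n + y ^ 2 ^ n := add_pow_q U.hF x y

theorem bar_zero : (0 : F) ^ 2 ^ n = 0 := zero_pow_q U.hF

theorem norm_ne_zero {x : F} (hx : x ≠ 0) : x * x ^ 2 ^ n ≠ 0 := mul_ne_zero hx (pow_ne_zero _ hx)

/-- The coordinates as a bijection. -/
noncomputable def chi (_U : UData G Ω a t Q F n c) : Q ≃ Pairs F (2 ^ n) :=
  Equiv.ofBijective (fun x => ⟨c x, by
      rw [show (c (x : G)).1 * (c (x : G)).1 ^ 2 ^ n = (c (x : G)).1 ^ (2 ^ n + 1) by rw [pow_succ']]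
      exact _U.co.bijOn.1 x.2⟩)
    ⟨fun x y h => Subtype.ext (_U.co.bijOn.2.1 x.2 y.2 (congrArg Subtype.val h)), fun p => by
      obtain ⟨x, hx, h⟩ := _U.co.bijOn.2.2 (show p.1 ∈ {p : F × F | p.2 + p.2 ^ 2 ^ n = p.1 ^ (2 ^ n + 1)} by
        show _ = _; rw [pow_succ']; exact p.2)
      exact ⟨⟨x, hx⟩, Subtype.ext h⟩⟩

/-- The first coordinate. -/
def xC (_U : UData G Ω a t Q F n c) (x : Q) : F := (c x).1

/-- The second coordinate. -/
def yC (_U : UData G Ω a t Q F n c) (x : Q) : F := (c x).2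

theorem trace_yC (x : Q) : U.yC x + U.yC x ^ 2 ^ n = U.xC x * U.xC x ^ 2 ^ n := (U.chi x).2

theorem bar_yC (x : Q) : U.yC x ^ 2 ^ n = U.yC x + U.xC x * U.xC x ^ 2 ^ n := by
  linear_combination U.trace_yC x - U.add_self' (U.yC x)

theorem ext {x y : Q} (h1 : U.xC x = U.xC y) (h2 : U.yC x = U.yC y) : x = y :=
  U.chi.injective (Subtype.ext (Prod.ext h1 h2))

theorem exists_el {A B : F} (h : B + B ^ 2 ^ n = A * A ^ 2 ^ n) : ∃ x : Q, U.xC x = A ∧ U.yC x = B := by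
  obtain ⟨x, hx⟩ := U.chi.surjective ⟨(A, B), h⟩
  have := congrArg Subtype.val hx
  exact ⟨x, congrArg Prod.fst this, congrArg Prod.snd this⟩

theorem exists_above (A : F) : ∃ x : Q, U.xC x = A := by
  obtain ⟨p, hp⟩ := exists_pair U.hF A
  obtain ⟨x, h1, -⟩ := U.exists_el p.2
  exact ⟨x, h1.trans hp⟩

theorem xC_mul (x y : Q) : U.xC (x * y) = U.xC x + U.xC y :=
  congrArg Prod.fst (U.co.mul x x.2 y y.2)

theorem yC_mul (x y : Q) : U.yC (x * y) = U.yC x + U.yC y + U.xC x ^ 2 ^ n * U.xC y :=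
  congrArg Prod.snd (U.co.mul x x.2 y y.2)

theorem xC_one : U.xC 1 = 0 := by
  have h := U.xC_mul 1 1
  rw [mul_one, U.add_self'] at h
  exact h

theorem yC_one : U.yC 1 = 0 := by
  have h := U.yC_mul 1 1
  rw [mul_one, U.add_self', U.xC_one, U.bar_zero, zero_mul, add_zero] at h
  exact h

theorem xC_inv (x : Q) : U.xC x⁻¹ = U.xC x := by
  have h := U.xC_mul x x⁻¹
  rw [mul_inv_cancel, U.xC_one] at h
  exact (U.add_eq_zero'.1 h.symm).symm

theorem yC_inv (x : Q) : U.yC x⁻¹ = U.yC x ^ 2 ^ n := by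
  have h := U.yC_mul x x⁻¹
  rw [mul_inv_cancel, U.yC_one, U.xC_inv] at h
  rw [U.bar_yC]
  linear_combination -h - U.add_self' (U.yC x + U.xC x * U.xC x ^ 2 ^ n)

theorem yC_fixed {x : Q} (hx : U.xC x = 0) : U.yC x ^ 2 ^ n = U.yC x := by
  rw [U.bar_yC, hx, zero_mul, add_zero]

theorem yC_ne_zero {x : Q} (hx : x ≠ 1) : U.yC x ≠ 0 := by
  intro h
  have h' := U.trace_yC x
  rw [h, U.bar_zero, add_zero, eq_comm, mul_eq_zero, pow_eq_zero_iff (Nat.two_pow_pos n).ne', or_self] at h'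
  exact hx (U.ext (h'.trans U.xC_one.symm) (h.trans U.yC_one.symm))

theorem exists_central {z : F} (hz : z ^ 2 ^ n = z) : ∃ x : Q, U.xC x = 0 ∧ U.yC x = z :=
  U.exists_el (by rw [hz, U.add_self', zero_mul])

/-- The central element with second coordinate `z` (for `z` in `GF(q)`). -/
noncomputable def zEl (_U : UData G Ω a t Q F n c) (z : F) : Q := by
  classical exact if h : z ^ 2 ^ n = z then (_U.exists_central h).choose else 1

theorem xC_zEl (z : F) : U.xC (U.zEl z) = 0 := by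
  unfold zEl
  split_ifs with h
  · exact (U.exists_central h).choose_spec.1
  · exact U.xC_one

theorem yC_zEl {z : F} (hz : z ^ 2 ^ n = z) : U.yC (U.zEl z) = z := by
  unfold zEl
  rw [dif_pos hz]
  exact (U.exists_central hz).choose_spec.2

theorem zEl_yC {x : Q} (hx : U.xC x = 0) : U.zEl (U.yC x) = x :=
  U.ext ((U.xC_zEl _).trans hx.symm) (U.yC_zEl (U.yC_fixed hx))

theorem zEl_zero : U.zEl 0 = 1 :=
  U.ext ((U.xC_zEl _).trans U.xC_one.symm) ((U.yC_zEl U.bar_zero).trans U.yC_one.symm)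

theorem zEl_ne_one {z : F} (hz : z ^ 2 ^ n = z) (h0 : z ≠ 0) : U.zEl z ≠ 1 := fun h => h0 (by
  rw [← U.yC_zEl hz, h, U.yC_one])

theorem central_comm {z : Q} (hz : U.xC z = 0) (x : Q) : z * x = x * z := by
  refine U.ext ?_ ?_
  · rw [U.xC_mul, U.xC_mul, add_comm]
  · rw [U.yC_mul, U.yC_mul, hz, U.bar_zero, zero_mul, mul_zero, add_comm (U.yC z)]

theorem mul_self_eq_one_iff {x : Q} : x * x = 1 ↔ U.xC x = 0 := by
  constructor
  · intro h
    have := U.yC_mul x x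
    rw [h, U.yC_one, U.add_self', zero_add, eq_comm, mul_eq_zero,
      pow_eq_zero_iff (Nat.two_pow_pos n).ne', or_self] at this
    exact this
  · intro h
    refine U.ext ?_ ?_
    · rw [U.xC_mul, U.xC_one, U.add_self']
    · rw [U.yC_mul, U.yC_one, U.add_self', h, mul_zero, add_zero]

/-- `s` fixing `a` is an involution iff its coordinate `x` vanishes. -/
theorem mem_invs_iff [Finite G] {x : Q} : (x : G) ∈ invs G a ↔ U.xC x = 0 ∧ x ≠ 1 := by
  rw [← U.mul_self_eq_one_iff]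
  exact ⟨fun h => ⟨Subtype.ext h.2.2, fun h' => h.2.1 (congrArg Subtype.val h')⟩,
    fun h => ⟨U.setup.le x.2, fun h' => h.2 (Subtype.ext h'), congrArg Subtype.val h.1⟩⟩

theorem exists_of_invs [Finite G] {s : G} (hs : s ∈ invs G a) :
    ∃ x : Q, (x : G) = s ∧ U.xC x = 0 ∧ x ≠ 1 :=
  ⟨⟨s, involutions_stab_mem_Q U.setup hs.1 hs.2.2⟩, rfl, U.mem_invs_iff.1 hs⟩

theorem card_Q : Nat.card Q = (2 ^ n) ^ 3 := by rw [Nat.card_congr U.chi, card_pairs U.hF]

theorem isPGroup : IsPGroup 2 Q := IsPGroup.of_card (U.card_Q.trans (pow_mul 2 n 3).symm)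

/-! ### The scalars of `GF(q)` -/

theorem exists_kEl {l : F} (hl : l ^ 2 ^ n = l) (h0 : l ≠ 0) : ∃ k ∈ kSet a t, ∀ x ∈ Q,
    c (k * x * k⁻¹) = (l * (c x).1, l ^ 2 * (c x).2) := U.co.torus l hl h0

/-- The scalar `l` of `GF(q)` as an element of `K`. -/
noncomputable def kEl (_U : UData G Ω a t Q F n c) (l : F) : G := by
  classical exact if h : l ^ 2 ^ n = l ∧ l ≠ 0 then (_U.exists_kEl h.1 h.2).choose else 1

theorem kEl_mem (l : F) : U.kEl l ∈ kSet a t := by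
  unfold kEl
  split_ifs with h
  · exact (U.exists_kEl h.1 h.2).choose_spec.1
  · exact ⟨(twoStab G a t).one_mem, by simp⟩

theorem kEl_D (l : F) : U.kEl l ∈ twoStab G a t := (U.kEl_mem l).1

theorem coord_kEl {l : F} (hl : l ^ 2 ^ n = l) (h0 : l ≠ 0) (x : Q) :
    U.xC (conjQ U.setup (U.kEl_D l) x) = l * U.xC x ∧
      U.yC (conjQ U.setup (U.kEl_D l) x) = l ^ 2 * U.yC x := by
  have h : c (U.kEl l * x * (U.kEl l)⁻¹) = (l * (c x).1, l ^ 2 * (c x).2) := by
    unfold kEl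
    rw [dif_pos ⟨hl, h0⟩]
    exact (U.exists_kEl hl h0).choose_spec.2 x x.2
  exact ⟨congrArg Prod.fst h, congrArg Prod.snd h⟩

theorem t_kEl (l : F) : t * U.kEl l * t = (U.kEl l)⁻¹ :=
  ((mem_invertedBy_iff U.setup).1 (U.kEl_mem l)).2

theorem exists_eq_kEl [Finite G] {k : G} (hk : k ∈ kSet a t) :
    ∃ l : F, l ^ 2 ^ n = l ∧ l ≠ 0 ∧ k = U.kEl l := by
  have h1 : (1 : F) ^ 2 ^ n = 1 := one_pow _
  set s := U.zEl 1 with hs
  have hsne := U.zEl_ne_one h1 one_ne_zero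
  have hsI : (s : G) ∈ invs G a := U.mem_invs_iff.2 ⟨U.xC_zEl 1, hsne⟩
  obtain ⟨z, hz1, hz2, hz3⟩ := U.exists_of_invs (inverted_conj_mem U.setup hsI hk.1.1)
  obtain ⟨l, hl, hll⟩ := exists_sq_fixed U.hF (U.yC_fixed hz2)
  have hl0 : l ≠ 0 := fun h => U.yC_ne_zero hz3 (by rw [← hll, h, zero_mul])
  refine ⟨l, hl, hl0, ?_⟩
  have hconj : conjQ U.setup (U.kEl_D l) s = z := by
    obtain ⟨e1, e2⟩ := U.coord_kEl hl hl0 s
    exact U.ext (by rw [e1, U.xC_zEl, hz2, mul_zero]) (by rw [e2, U.yC_zEl h1, mul_one, sq, hll])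
  exact (existsUnique_K U.setup hsI (inverted_conj_mem U.setup hsI hk.1.1)).unique ⟨hk, rfl⟩
    ⟨U.kEl_mem l, by rw [← conjQ_coe U.setup (U.kEl_D l), hconj, hz1]⟩

/-! ### The norm-one unit -/

/-- The element acting as a norm-one unit. -/
noncomputable def wEl (_U : UData G Ω a t Q F n c) : G := _U.co.unit.choose

/-- The norm-one unit. -/
noncomputable def mU (_U : UData G Ω a t Q F n c) : F := _U.co.unit.choose_spec.choose

theorem wEl_spec : U.wEl ∈ vGrp a t ∧ U.mU ≠ 1 ∧ U.mU ^ (2 ^ n + 1) = 1 ∧ ∀ x ∈ Q,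
    c (U.wEl * x * U.wEl⁻¹) = (U.mU * (c x).1, (c x).2) := U.co.unit.choose_spec.choose_spec

theorem wEl_D : U.wEl ∈ twoStab G a t := U.wEl_spec.1.1

theorem t_wEl : t * U.wEl = U.wEl * t :=
  (Subgroup.mem_centralizer_singleton_iff.1 U.wEl_spec.1.2).symm

theorem mU_norm : U.mU * U.mU ^ 2 ^ n = 1 := by rw [← pow_succ']; exact U.wEl_spec.2.2.1

theorem mU_ne_zero : U.mU ≠ 0 := fun h => by simpa [h] using U.mU_norm

theorem mU_ne_one : U.mU ≠ 1 := U.wEl_spec.2.1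

theorem mU_bar : U.mU ^ 2 ^ n = U.mU⁻¹ := eq_inv_of_mul_eq_one_right U.mU_norm

theorem mU_bar_ne : U.mU ^ 2 ^ n ≠ U.mU := by
  intro h
  have h' := U.mU_norm
  rw [h] at h'
  haveI := U.char_two
  exact U.mU_ne_one ((_root_.mul_self_eq_one_iff).1 h' |>.elim id fun h'' => by rw [h'', CharTwo.neg_eq])

theorem coord_wEl (x : Q) :
    U.xC (conjQ U.setup U.wEl_D x) = U.mU * U.xC x ∧ U.yC (conjQ U.setup U.wEl_D x) = U.yC x :=
  ⟨by show (c (U.wEl * x * U.wEl⁻¹)).1 = _; rw [U.wEl_spec.2.2.2 x x.2]; rfl,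
    by show (c (U.wEl * x * U.wEl⁻¹)).2 = _; rw [U.wEl_spec.2.2.2 x x.2]; rfl⟩

theorem coord_wEl_pow (i : ℕ) (x : Q) :
    U.xC (conjQ U.setup ((twoStab G a t).pow_mem U.wEl_D i) x) = U.mU ^ i * U.xC x ∧
      U.yC (conjQ U.setup ((twoStab G a t).pow_mem U.wEl_D i) x) = U.yC x := by
  induction i with
  | zero =>
    have : conjQ U.setup ((twoStab G a t).pow_mem U.wEl_D 0) x = x := Subtype.ext (by simp [conjQ_coe])
    rw [this, pow_zero, one_mul]
    exact ⟨rfl, rfl⟩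
  | succ i ih =>
    have : conjQ U.setup ((twoStab G a t).pow_mem U.wEl_D (i + 1)) x =
        conjQ U.setup U.wEl_D (conjQ U.setup ((twoStab G a t).pow_mem U.wEl_D i) x) :=
      Subtype.ext (by simp only [conjQ_coe, pow_succ']; group)
    rw [this, (U.coord_wEl _).1, (U.coord_wEl _).2, ih.1, ih.2, pow_succ']
    exact ⟨by ring, rfl⟩

theorem wEl_central {x : Q} (hx : U.xC x = 0) : U.wEl * x = x * U.wEl := by
  have h : conjQ U.setup U.wEl_D x = x :=
    U.ext (by rw [(U.coord_wEl x).1, hx, mul_zero]) (U.coord_wEl x).2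
  exact mul_inv_eq_iff_eq_mul.1 (congrArg Subtype.val h)

/-! ### The map `f` in coordinates -/

theorem fmap_kEl {l : F} (hl : l ^ 2 ^ n = l) (h0 : l ≠ 0) (x : Q) :
    U.xC (fmap U.setup (conjQ U.setup (U.kEl_D l) x)) * l = U.xC (fmap U.setup x) ∧
      U.yC (fmap U.setup (conjQ U.setup (U.kEl_D l) x)) * l ^ 2 = U.yC (fmap U.setup x) := by
  have h := fmap_conjQ U.setup (U.kEl_D l) x
  have hback : conjQ U.setup (U.kEl_D l) (conjQ U.setup (t_conj_mem U.setup (U.kEl_D l))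
      (fmap U.setup x)) = fmap U.setup x :=
    Subtype.ext (by rw [conjQ_coe, conjQ_coe, U.t_kEl]; group)
  rw [← h] at hback
  obtain ⟨e1, e2⟩ := U.coord_kEl hl h0 (fmap U.setup (conjQ U.setup (U.kEl_D l) x))
  rw [hback] at e1 e2
  exact ⟨by rw [e1, mul_comm], by rw [e2, mul_comm]⟩

theorem fmap_wEl (x : Q) :
    U.xC (fmap U.setup (conjQ U.setup U.wEl_D x)) = U.mU * U.xC (fmap U.setup x) ∧
      U.yC (fmap U.setup (conjQ U.setup U.wEl_D x)) = U.yC (fmap U.setup x) := by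
  have h : fmap U.setup (conjQ U.setup U.wEl_D x) = conjQ U.setup U.wEl_D (fmap U.setup x) := by
    rw [fmap_conjQ]
    refine Subtype.ext ?_
    rw [conjQ_coe, conjQ_coe, show t * U.wEl * t = U.wEl by
      rw [U.t_wEl, mul_assoc, U.setup.mul_self, mul_one]]
  rw [h]
  exact U.coord_wEl _

theorem fmap_central [Finite G] {x : Q} (hx : U.xC x = 0) : U.xC (fmap U.setup x) = 0 := by
  by_cases h1 : x = 1
  · rw [h1, fmap_one, U.xC_one]
  have hw : conjQ U.setup U.wEl_D x = x :=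
    U.ext (by rw [(U.coord_wEl x).1, hx, mul_zero]) (U.coord_wEl x).2
  have h := (U.fmap_wEl x).1
  rw [hw] at h
  by_contra h0
  exact U.mU_ne_one (mul_eq_right₀ h0 |>.1 h.symm)

end UData

/-- The data with `f` normalised on the centre: `f` fixes `(0, 1)`. -/
structure UNorm (G Ω : Type*) [Group G] [MulAction G Ω] (a : Ω) (t : G) (Q : Subgroup G) (F : Type)
    [Field F] [Fintype F] (n : ℕ) (c : G → F × F) : Prop extends UData G Ω a t Q F n c where
  fmap_zero_one : ∀ x : Q, c x = (0, 1) → fmap toUData.setup x = x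

theorem UNorm.fmap_zEl [Finite G] (U : UNorm G Ω a t Q F n c) {z : F} (hz : z ^ 2 ^ n = z) (h0 : z ≠ 0) :
    fmap U.setup (U.zEl z) = U.zEl z⁻¹ := by
  obtain ⟨l, hl, hll⟩ := exists_sq_fixed U.hF hz
  have hl0 : l ≠ 0 := fun h => h0 (by rw [← hll, h, zero_mul])
  have h1 : (1 : F) ^ 2 ^ n = 1 := one_pow _
  have hs : conjQ U.setup (U.kEl_D l) (U.zEl 1) = U.zEl z := by
    obtain ⟨e1, e2⟩ := U.toUData.coord_kEl hl hl0 (U.zEl 1)
    exact U.ext (by rw [e1, U.xC_zEl, U.xC_zEl, mul_zero])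
      (by rw [e2, U.yC_zEl h1, U.yC_zEl hz, mul_one, sq, hll])
  obtain ⟨-, e⟩ := U.toUData.fmap_kEl hl hl0 (U.zEl 1)
  rw [hs, U.fmap_zero_one (U.zEl 1) (Prod.ext (U.xC_zEl 1) (U.yC_zEl h1)), U.yC_zEl h1, sq, hll] at e
  exact U.ext ((U.toUData.fmap_central (U.xC_zEl z)).trans (U.xC_zEl _).symm)
    (by rw [U.yC_zEl (by rw [inv_pow, hz]), eq_inv_of_mul_eq_one_left e])

end Cfsg.Agent.Lib.RankOneIdent.PSU3
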