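import Cfsg.Agent.Lib.Unitary.Basic

/-!
# `PGU_n` depends only on the order of the field
-/

set_option autoImplicit false
set_option linter.unusedSectionVars false

namespace Cfsg.Agent.Lib.RankOneIdent.PSU3.FieldCongr

open Matrix Cfsg.Agent.Lib.Unitary

variable {F K : Type*} [Field F] [Field K] {n q : ℕ}

theorem map_mem (σ : F ≃+* K) {A : Matrix.GeneralLinearGroup (Fin n) F} (hA : A ∈ Cfsg.GU n F q) :
    Matrix.GeneralLinearGroup.map (σ : F →+* K) A ∈ Cfsg.GU n K q := by
  intro u v
  have h := congrArg σ (mem_GU_iff.1 hA (fun i => σ.symm (u i)) (fun i => σ.symm (v i)))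
  simpa [Cfsg.hermForm, mulVec, dotProduct, map_sum] using h

/-- The map of unitary groups of a field isomorphism. -/
def guMap (σ : F ≃+* K) : Cfsg.GU n F q →* Cfsg.GU n K q :=
  ((Matrix.GeneralLinearGroup.map (σ : F →+* K)).comp (Cfsg.GU n F q).subtype).codRestrict _ fun A =>
    map_mem σ A.2

/-- The isomorphism of unitary groups. -/
def guCongr (σ : F ≃+* K) : Cfsg.GU n F q ≃* Cfsg.GU n K q :=
  MonoidHom.toMulEquiv (guMap σ) (guMap σ.symm)
    (MonoidHom.ext fun A => Subtype.ext (Units.ext (Matrix.ext fun i j => σ.symm_apply_apply _)))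
    (MonoidHom.ext fun A => Subtype.ext (Units.ext (Matrix.ext fun i j => σ.apply_symm_apply _)))

/-- The isomorphism of projective unitary groups. -/
theorem nonempty_pgu_congr [Fintype F] [Fintype K] (h : Fintype.card F = Fintype.card K) :
    Nonempty ((Cfsg.GU n F q ⧸ Subgroup.center (Cfsg.GU n F q)) ≃*
      (Cfsg.GU n K q ⧸ Subgroup.center (Cfsg.GU n K q))) := by
  let σ : F ≃+* K := FiniteField.ringEquivOfCardEq (K := F) (K' := K) h
  refine ⟨QuotientGroup.congr _ _ (guCongr σ) ?_⟩
  ext A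
  rw [Subgroup.mem_center_iff]
  constructor
  · rintro ⟨B, hB, rfl⟩ C
    obtain ⟨D, rfl⟩ := (guCongr σ).surjective C
    exact (map_mul _ _ _).symm.trans ((congrArg _ (Subgroup.mem_center_iff.1 hB D)).trans (map_mul _ _ _))
  · intro hA
    refine ⟨(guCongr σ).symm A, Subgroup.mem_center_iff.2 fun D => (guCongr σ).injective ?_,
      (guCongr σ).apply_symm_apply A⟩
    rw [map_mul, map_mul, (guCongr σ).apply_symm_apply]
    exact hA _

end Cfsg.Agent.Lib.RankOneIdent.PSU3.FieldCongr
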