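import Cfsg.Agent.Lib.RankOneIdent.PSU3.Block

/-!
# The unitary case: `L₀` on `GF(q²) - GF(q)`

`mob g` is the fractional linear map of `g ∈ L₀` on the elements of `F` outside `GF(q)`.
-/

set_option autoImplicit false
set_option linter.unusedSectionVars false
set_option linter.style.haveILetI false

namespace Cfsg.Agent.Lib.RankOneIdent.PSU3

open Cfsg.Agent.Lib.RankOne.Involution Cfsg.Agent.Lib.RankOne.Basic MulAction
open Cfsg.Agent.Lib.BenderSuzuki Cfsg.Agent.Lib.Unitary Cfsg.Agent.Lib.U3Sylow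

variable {G Ω : Type*} [Group G] [MulAction G Ω] [Finite G] {a : Ω} {t : G} {Q : Subgroup G} {F : Type}
  [Field F] [Fintype F] {n : ℕ} {c : G → F × F}

/-- `X² + X` takes all values of `GF(q)`. -/
theorem exists_artinSchreier (hF : Fintype.card F = (2 ^ n) ^ 2) {d : F} (hd : d ^ 2 ^ n = d) :
    ∃ X : F, X * X + X = d := by
  classical
  haveI := charP_two hF
  obtain ⟨c₀, hc₀⟩ := trace_surj hF (y := 1) (one_pow _)
  let R : Finset F := Finset.univ.filter fun x => x ^ 2 ^ n = x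
  have hR : R.card = 2 ^ n := by
    rw [← card_fixed hF, Nat.card_eq_fintype_card, Fintype.card_subtype]
  let C : Finset F := R.image fun x => x + c₀
  have hC : C.card = 2 ^ n := by
    rw [Finset.card_image_of_injective _ (add_left_injective c₀), hR]
  have hdisj : Disjoint R C := by
    rw [Finset.disjoint_left]
    intro x hx hx'
    obtain ⟨y, hy, rfl⟩ := Finset.mem_image.1 hx'
    simp only [R, Finset.mem_filter, Finset.mem_univ, true_and] at hx hy
    rw [add_pow_q hF, hy] at hx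
    rw [show c₀ ^ 2 ^ n = c₀ from add_left_cancel hx, CharTwo.add_self_eq_zero] at hc₀
    exact zero_ne_one hc₀
  let f : F → F := fun X => X * X + X
  have hsub : (R ∪ C).image f ⊆ R := by
    intro y hy
    obtain ⟨X, hX, rfl⟩ := Finset.mem_image.1 hy
    simp only [R, Finset.mem_filter, Finset.mem_univ, true_and, f, add_pow_q hF, mul_pow]
    rcases Finset.mem_union.1 hX with h | h
    · simp only [R, Finset.mem_filter, Finset.mem_univ, true_and] at h
      rw [h]
    · obtain ⟨y, hy', rfl⟩ := Finset.mem_image.1 h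
      simp only [R, Finset.mem_filter, Finset.mem_univ, true_and] at hy'
      have h2 : (2 : F) = 0 := CharTwo.two_eq_zero
      have hc' : c₀ ^ 2 ^ n = c₀ + 1 := by linear_combination hc₀ - c₀ * h2
      rw [add_pow_q hF, hy', hc']
      linear_combination (y + c₀ + 1) * h2
  have hfib : ∀ y ∈ (R ∪ C).image f, ((R ∪ C).filter fun X => f X = y).card ≤ 2 := by
    intro y hy
    obtain ⟨X, -, rfl⟩ := Finset.mem_image.1 hy
    refine le_trans (Finset.card_le_card ?_) (Finset.card_le_two (a := X) (b := X + 1))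
    intro Y hY
    obtain ⟨-, hY⟩ := Finset.mem_filter.1 hY
    have h2 : (2 : F) = 0 := CharTwo.two_eq_zero
    have e : (Y + X) * (Y + X + 1) = 0 := by
      simp only [f] at hY
      linear_combination hY + (X * X + X + X * Y) * h2
    rw [Finset.mem_insert, Finset.mem_singleton]
    rcases mul_eq_zero.1 e with h | h
    · exact Or.inl (CharTwo.add_eq_zero.1 h)
    · exact Or.inr (CharTwo.add_eq_zero.1 (by rwa [← add_assoc]))
  have hcard := Finset.card_le_mul_card_image (R ∪ C) 2 hfib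
  rw [Finset.card_union_of_disjoint hdisj, hR, hC] at hcard
  have heq := Finset.eq_of_subset_of_card_le hsub (by omega)
  have hdR : d ∈ (R ∪ C).image f := by rw [heq]; simp [R, hd]
  obtain ⟨X, -, hX⟩ := Finset.mem_image.1 hdR
  exact ⟨X, hX⟩

namespace UNorm

variable (U : UNorm G Ω a t Q F n c)
include U

/-- Outside `GF(q)`. -/
def NF (_U : UNorm G Ω a t Q F n c) (x : F) : Prop := x ^ 2 ^ n ≠ x

theorem NF_ne_zero {x : F} (hx : U.NF x) : x ≠ 0 := fun h => hx (by rw [h, U.toUData.bar_zero])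

theorem NF_add {x z : F} (hx : U.NF x) (hz : z ^ 2 ^ n = z) : U.NF (z + x) := fun h => hx (by
  rw [U.bar_add, hz] at h; exact add_left_cancel h)

theorem NF_mul {x z : F} (hx : U.NF x) (hz : z ^ 2 ^ n = z) (h0 : z ≠ 0) : U.NF (z * x) := fun h => hx (by
  rw [mul_pow, hz] at h; exact mul_left_cancel₀ h0 h)

theorem NF_inv {x : F} (hx : U.NF x) : U.NF x⁻¹ := fun h => hx (by rw [inv_pow] at h; exact inv_injective h)

theorem sq_fixed {l : F} (hl : l ^ 2 ^ n = l) : (l ^ 2) ^ 2 ^ n = l ^ 2 := by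
  rw [← pow_mul, mul_comm 2, pow_mul, hl]

/-- Normal form of `g` together with its fractional linear map. -/
def Form (_U : UNorm G Ω a t Q F n c) (g : G) (σ : F → F) : Prop :=
  (∃ z l : F, z ^ 2 ^ n = z ∧ l ^ 2 ^ n = l ∧ l ≠ 0 ∧ g = (_U.zEl z : G) * _U.kEl l ∧
      ∀ x, _U.NF x → σ x = z + l ^ 2 * x) ∨
    ∃ z l z' : F, z ^ 2 ^ n = z ∧ l ^ 2 ^ n = l ∧ l ≠ 0 ∧ z' ^ 2 ^ n = z' ∧
      g = (_U.zEl z : G) * (t * _U.kEl l) * (_U.zEl z' : G) ∧
      ∀ x, _U.NF x → σ x = z + (l ^ 2 * (x + z'))⁻¹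

theorem Form.mapsTo {g : G} {σ : F → F} (h : U.Form g σ) {x : F} (hx : U.NF x) : U.NF (σ x) := by
  rcases h with ⟨z, l, hz, hl, hl0, -, hσ⟩ | ⟨z, l, z', hz, hl, hl0, hz', -, hσ⟩
  · rw [hσ x hx]; exact U.NF_add (U.NF_mul hx (U.sq_fixed hl) (pow_ne_zero 2 hl0)) hz
  · rw [hσ x hx, add_comm x z']
    exact U.NF_add (U.NF_inv (U.NF_mul (U.NF_add hx hz') (U.sq_fixed hl) (pow_ne_zero 2 hl0))) hz

theorem Form.zEl_mul {z₀ : F} (hz₀ : z₀ ^ 2 ^ n = z₀) {g : G} {σ : F → F} (h : U.Form g σ) :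
    U.Form ((U.zEl z₀ : G) * g) (fun x => z₀ + σ x) := by
  rcases h with ⟨z, l, hz, hl, hl0, rfl, hσ⟩ | ⟨z, l, z', hz, hl, hl0, hz', rfl, hσ⟩
  · exact Or.inl ⟨z₀ + z, l, by rw [U.bar_add, hz₀, hz], hl, hl0,
      by rw [← U.zEl_mul hz₀ hz, Subgroup.coe_mul, mul_assoc],
      fun x hx => by simp only [hσ x hx, add_assoc]⟩
  · exact Or.inr ⟨z₀ + z, l, z', by rw [U.bar_add, hz₀, hz], hl, hl0, hz',
      by rw [← U.zEl_mul hz₀ hz, Subgroup.coe_mul]; group,
      fun x hx => by simp only [hσ x hx, add_assoc]⟩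

theorem Form.t_mul {g : G} {σ : F → F} (h : U.Form g σ) : U.Form (t * g) (fun x => (σ x)⁻¹) := by
  rcases h with ⟨z, l, hz, hl, hl0, rfl, hσ⟩ | ⟨z, l, z', hz, hl, hl0, hz', rfl, hσ⟩
  · have hz2 : (z / l ^ 2) ^ 2 ^ n = z / l ^ 2 := by rw [div_pow, hz, U.sq_fixed hl]
    refine Or.inr ⟨0, l, z / l ^ 2, U.toUData.bar_zero, hl, hl0, hz2, ?_, fun x hx => ?_⟩
    · rw [U.zEl_zero, Subgroup.coe_one, one_mul, mul_assoc t, U.kEl_conj_zEl hl hl0 hz2,
        mul_div_cancel₀ _ (pow_ne_zero 2 hl0)]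
    · simp only [hσ x hx, zero_add, mul_add, mul_div_cancel₀ _ (pow_ne_zero 2 hl0), add_comm z]
  · by_cases hz0 : z = 0
    · have hz2 : (l ^ 2 * z') ^ 2 ^ n = l ^ 2 * z' := by rw [mul_pow, hz', U.sq_fixed hl]
      refine Or.inl ⟨l ^ 2 * z', l, hz2, hl, hl0, ?_, fun x hx => ?_⟩
      · rw [hz0, U.zEl_zero, Subgroup.coe_one, one_mul, mul_assoc, tt_mul U.setup,
          U.kEl_conj_zEl hl hl0 hz']
      · simp only [hσ x hx, hz0, zero_add, inv_inv, mul_add, add_comm]
    · have hzi : z⁻¹ ^ 2 ^ n = z⁻¹ := by rw [inv_pow, hz]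
      have hz2 : (z⁻¹ / l ^ 2) ^ 2 ^ n = z⁻¹ / l ^ 2 := by rw [div_pow, hzi, U.sq_fixed hl]
      refine Or.inr ⟨z⁻¹, z * l, z⁻¹ / l ^ 2 + z', hzi, by rw [mul_pow, hz, hl],
        mul_ne_zero hz0 hl0, by rw [U.bar_add, hz2, hz'], ?_, fun x hx => ?_⟩
      · rw [← U.zEl_mul hz2 hz', Subgroup.coe_mul, ← U.kEl_mul hz hz0 hl hl0]
        have h1 := U.kEl_conj_zEl hl hl0 hz2
        rw [mul_div_cancel₀ _ (pow_ne_zero 2 hl0)] at h1
        calc t * ((U.zEl z : G) * (t * U.kEl l) * (U.zEl z' : G))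
            = t * (U.zEl z : G) * t * (U.kEl l * (U.zEl z' : G)) := by group
          _ = (U.zEl z⁻¹ : G) * (t * U.kEl z) * ((U.zEl z⁻¹ : G) * U.kEl l) * (U.zEl z' : G) := by
                rw [U.t_zEl_t hz hz0]; group
          _ = _ := by rw [← h1]; group
      · have hA : U.NF (l ^ 2 * (x + z')) := by
          rw [add_comm x z']
          exact U.NF_mul (U.NF_add hx hz') (U.sq_fixed hl) (pow_ne_zero 2 hl0)
        set D := l ^ 2 * (x + z') with hD
        have hD0 : D ≠ 0 := U.NF_ne_zero hA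
        have hzD : z * D + 1 ≠ 0 := fun h' => hA (by
          rw [U.toUData.add_eq_zero'] at h'
          rw [eq_inv_of_mul_eq_one_right h', inv_pow, hz])
        have e : (z * l) ^ 2 * (x + (z⁻¹ / l ^ 2 + z')) = z * (z * D + 1) := by
          rw [hD]; field_simp; ring
        simp only [hσ x hx]
        rw [e]
        have hzD' : z + D⁻¹ = (z * D + 1) * D⁻¹ := by field_simp
        rw [hzD', mul_inv, inv_inv, mul_inv]
        have h2 := U.toUData.two_zero
        field_simp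
        linear_combination -h2

theorem Form.one : U.Form 1 id :=
  Or.inl ⟨0, 1, U.toUData.bar_zero, one_pow _, one_ne_zero,
    by rw [U.zEl_zero, U.kEl_one, Subgroup.coe_one, mul_one], fun x _ => by simp⟩

theorem form_move {z l z' : F} :
    ((U.zEl z : G) * (t * U.kEl l) * (U.zEl z' : G)) • a = U.pt (U.zEl z) := by
  rw [mul_smul, mul_smul, Q_fix U.setup (U.zEl z').2, mul_smul, (U.kEl_D l).1]
  rfl

theorem Form.eq_id {σ : F → F} (h : U.Form 1 σ) {x : F} (hx : U.NF x) : σ x = x := by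
  rcases h with ⟨z, l, hz, hl, hl0, he, hσ⟩ | ⟨z, l, z', hz, hl, hl0, hz', he, hσ⟩
  · have h1 := congrArg (fun g : G => g • (t • a)) he
    have hk : U.kEl l • (t • a) = t • a := (U.kEl_D l).2
    simp only [one_smul] at h1
    rw [mul_smul, hk] at h1
    have hz0 : z = 0 := by
      have h2 := congrArg U.yC (U.pt_injective (show U.pt (U.zEl z) = U.pt 1 from h1.symm.trans U.pt_one.symm))
      rwa [U.yC_zEl hz, U.toUData.yC_one] at h2
    rw [hz0, U.zEl_zero, Subgroup.coe_one, one_mul] at he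
    have h3 : conjQ U.setup (U.kEl_D l) (U.zEl 1) = U.zEl 1 :=
      Subtype.ext (by rw [conjQ_coe, ← he]; group)
    have h4 := (U.coord_kEl hl hl0 (U.zEl 1)).2
    rw [h3, U.yC_zEl (one_pow _), mul_one] at h4
    rw [hσ x hx, hz0, ← h4, zero_add, one_mul]
  · have h1 := congrArg (fun g : G => g • a) he
    simp only [one_smul] at h1
    rw [U.form_move] at h1
    exact absurd h1.symm (U.pt_ne _)

/-- A map which composes forms on the left. -/
def Rel (_U : UNorm G Ω a t Q F n c) (g : G) (σ : F → F) : Prop :=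
  ∀ (h : G) (τ : F → F), _U.Form h τ → _U.Form (g * h) (σ ∘ τ)

theorem exists_rel {g : G} (hg : g ∈ U.L₀) : ∃ σ, U.Rel g σ := by
  induction hg using Subgroup.closure_induction_left with
  | one => exact ⟨id, fun h τ hf => by rwa [one_mul, Function.id_comp]⟩
  | mul_left x hx y _ ih =>
    obtain ⟨σ, hσ⟩ := ih
    rcases hx with ⟨z, hz, rfl⟩ | hx
    · exact ⟨fun v => z + σ v, fun h τ hf => by rw [mul_assoc]; exact (hσ h τ hf).zEl_mul U hz⟩
    · rw [Set.mem_singleton_iff.1 hx]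
      exact ⟨fun v => (σ v)⁻¹, fun h τ hf => by rw [mul_assoc]; exact (hσ h τ hf).t_mul U⟩
  | inv_mul_cancel x hx y _ ih =>
    obtain ⟨σ, hσ⟩ := ih
    rcases hx with ⟨z, hz, rfl⟩ | hx
    · exact ⟨fun v => z + σ v, fun h τ hf => by
        rw [← Subgroup.coe_inv, U.zEl_inv, mul_assoc]; exact (hσ h τ hf).zEl_mul U hz⟩
    · rw [Set.mem_singleton_iff.1 hx, t_inv U.setup]
      exact ⟨fun v => (σ v)⁻¹, fun h τ hf => by rw [mul_assoc]; exact (hσ h τ hf).t_mul U⟩

/-- The fractional linear map of an element of `L₀`. -/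
noncomputable def mob (_U : UNorm G Ω a t Q F n c) (g : G) : F → F := by
  classical exact if h : g ∈ _U.L₀ then (_U.exists_rel h).choose else id

theorem mob_rel {g : G} (hg : g ∈ U.L₀) : U.Rel g (U.mob g) := by
  unfold mob
  rw [dif_pos hg]
  exact (U.exists_rel hg).choose_spec

theorem mob_form {g : G} (hg : g ∈ U.L₀) : U.Form g (U.mob g) := by
  have h := U.mob_rel hg 1 id (Form.one U)
  rwa [mul_one, Function.comp_id] at h

theorem mob_eq {g : G} (hg : g ∈ U.L₀) {σ : F → F} (h : U.Form g σ) {x : F} (hx : U.NF x) :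
    U.mob g x = σ x := by
  have hgi := inv_mem hg
  have h1 := U.mob_rel hgi g σ h
  rw [inv_mul_cancel] at h1
  have h2 := U.mob_rel hgi g _ (U.mob_form hg)
  rw [inv_mul_cancel] at h2
  have h3 := U.mob_rel hg g⁻¹ _ (U.mob_form hgi)
  rw [mul_inv_cancel] at h3
  have e3 : ∀ y, U.NF y → U.mob g (U.mob g⁻¹ y) = y := fun y hy => h3.eq_id U hy
  have ha := h2.eq_id U hx
  have hb := h1.eq_id U hx
  simp only [Function.comp_apply] at ha hb
  have hinj := congrArg (U.mob g) (ha.trans hb.symm)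
  rwa [e3 _ ((U.mob_form hg).mapsTo U hx), e3 _ (h.mapsTo U hx)] at hinj

theorem mob_mul {g h : G} (hg : g ∈ U.L₀) (hh : h ∈ U.L₀) {x : F} (hx : U.NF x) :
    U.mob (g * h) x = U.mob g (U.mob h x) :=
  U.mob_eq (mul_mem hg hh) (U.mob_rel hg h _ (U.mob_form hh)) hx

theorem mob_one {x : F} (hx : U.NF x) : U.mob 1 x = x := U.mob_eq (one_mem _) (Form.one U) hx

theorem mob_NF {g : G} (hg : g ∈ U.L₀) {x : F} (hx : U.NF x) : U.NF (U.mob g x) :=
  (U.mob_form hg).mapsTo U hx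

theorem mob_zEl {z : F} (hz : z ^ 2 ^ n = z) {x : F} (hx : U.NF x) : U.mob (U.zEl z : G) x = z + x := by
  have h := (Form.one U).zEl_mul U hz
  rw [mul_one] at h
  exact U.mob_eq (U.zEl_mem_L₀ hz) h hx

theorem mob_t {x : F} (hx : U.NF x) : U.mob t x = x⁻¹ := by
  have h := (Form.one U).t_mul U
  rw [mul_one] at h
  exact U.mob_eq U.t_mem_L₀ h hx

theorem mob_kEl {l : F} (hl : l ^ 2 ^ n = l) (hl0 : l ≠ 0) {x : F} (hx : U.NF x) :
    U.mob (U.kEl l) x = l ^ 2 * x :=
  U.mob_eq (U.kEl_mem_L₀ hl hl0) (σ := fun v => l ^ 2 * v) (Or.inl ⟨0, l, U.toUData.bar_zero, hl, hl0,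
    by rw [U.zEl_zero, Subgroup.coe_one, one_mul], fun v _ => by rw [zero_add]⟩) hx

theorem mob_bar {g : G} (hg : g ∈ U.L₀) {x : F} (hx : U.NF x) :
    U.mob g (x ^ 2 ^ n) = U.mob g x ^ 2 ^ n := by
  have hx' : U.NF (x ^ 2 ^ n) := fun h => hx (by rw [U.bar_bar] at h; exact h.symm)
  rcases U.mob_form hg with ⟨z, l, hz, hl, hl0, -, hσ⟩ | ⟨z, l, z', hz, hl, hl0, hz', -, hσ⟩
  · rw [hσ x hx, hσ _ hx', U.bar_add, mul_pow, hz, U.sq_fixed hl]
  · rw [hσ x hx, hσ _ hx', U.bar_add, inv_pow, mul_pow, U.bar_add, hz, hz', U.sq_fixed hl]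

/-- An element of `L₀` without fixed points on `B` fixes exactly one conjugate pair. -/
theorem mob_fix {g : G} (hg : g ∈ U.L₀) (hB : ∀ p ∈ U.chordB, g • p ≠ p) :
    ∃ p : F, U.NF p ∧ ∀ x, U.NF x → (U.mob g x = x ↔ x = p ∨ x = p ^ 2 ^ n) := by
  rcases U.mob_form hg with ⟨z, l, hz, hl, hl0, he, hσ⟩ | ⟨z, l, z', hz, hl, hl0, hz', he, hσ⟩
  · refine absurd ?_ (hB a (Or.inl rfl))
    rw [he, mul_smul, (U.kEl_D l).1, Q_fix U.setup (U.zEl z).2]
  set P := z + z' with hP
  set M := z * z' + (l ^ 2)⁻¹ with hM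
  have hPf : P ^ 2 ^ n = P := by rw [hP, U.bar_add, hz, hz']
  have hMf : M ^ 2 ^ n = M := by rw [hM, U.bar_add, mul_pow, hz, hz', inv_pow, U.sq_fixed hl]
  have h2 := U.toUData.two_zero
  have heq : ∀ x : F, x + z' ≠ 0 → (z + (l ^ 2 * (x + z'))⁻¹ = x ↔ x * x + P * x + M = 0) := by
    intro x hx
    have hl2 : l ^ 2 ≠ 0 := pow_ne_zero 2 hl0
    constructor
    · intro h
      have h' : (z + x) * (x + z') = (l ^ 2)⁻¹ := by
        have : z + x = (l ^ 2 * (x + z'))⁻¹ := by linear_combination -h + z * h2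
        rw [this, mul_inv, mul_assoc, inv_mul_cancel₀ hx, mul_one]
      rw [hP, hM]
      linear_combination h' + (l ^ 2)⁻¹ * h2
    · intro h
      have h' : (z + x) * (x + z') = (l ^ 2)⁻¹ := by
        rw [hP, hM] at h
        linear_combination h - (l ^ 2)⁻¹ * h2
      have : z + x = (l ^ 2 * (x + z'))⁻¹ := by
        rw [mul_inv, ← h', mul_assoc, mul_inv_cancel₀ hx, mul_one]
      linear_combination -this + z * h2
  have hnoreal : ∀ x : F, x ^ 2 ^ n = x → x * x + P * x + M ≠ 0 := by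
    intro x hx h
    have hne : x + z' ≠ 0 := fun h0 => by
      rw [hP, hM] at h
      have hx' : x = z' := U.toUData.add_eq_zero'.1 h0
      subst hx'
      exact inv_ne_zero (pow_ne_zero 2 hl0) (by linear_combination h - (x * x + z * x) * h2)
    refine hB (U.pt (U.zEl x)) (U.pt_mem_B.2 (U.xC_zEl x)) ?_
    have hw : (x + z') ^ 2 ^ n = x + z' := by rw [U.bar_add, hx, hz']
    have hu : (l ^ 2 * (x + z')) ^ 2 ^ n = l ^ 2 * (x + z') := by rw [mul_pow, hw, U.sq_fixed hl]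
    have hu0 : l ^ 2 * (x + z') ≠ 0 := mul_ne_zero (pow_ne_zero 2 hl0) hne
    have hc : conjQ U.setup (U.kEl_D l) (U.zEl (z' + x)) = U.zEl (l ^ 2 * (x + z')) := by
      obtain ⟨e1, e2⟩ := U.coord_kEl hl hl0 (U.zEl (z' + x))
      exact U.ext (by rw [e1, U.xC_zEl, U.xC_zEl, mul_zero])
        (by rw [e2, U.yC_zEl (by rw [add_comm]; exact hw), U.yC_zEl hu, add_comm z'])
    rw [he, mul_smul, mul_smul, mul_smul, U.smul_pt, U.zEl_mul hz' hx, U.D_pt (U.kEl_D l), hc,
      U.t_pt (U.zEl_ne_one hu hu0), U.fmap_zEl hu hu0, U.smul_pt,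
      U.zEl_mul hz (by rw [inv_pow, hu]), (heq x hne).2 h]
  have hP0 : P ≠ 0 := fun h0 => by
    obtain ⟨r, hr, hrr⟩ := exists_sq_fixed U.hF hMf
    exact hnoreal r hr (by rw [h0, hrr]; linear_combination M * h2)
  obtain ⟨X, hX⟩ := exists_artinSchreier U.hF (d := M / (P * P))
    (by rw [div_pow, mul_pow, hMf, hPf])
  set p := P * X with hp
  have hroot : p * p + P * p + M = 0 := by
    have : P * P * (X * X + X) = M := by rw [hX]; field_simp
    rw [hp]
    linear_combination this + M * h2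
  have hpNF : U.NF p := fun h => hnoreal p h hroot
  have hroot' : p ^ 2 ^ n * p ^ 2 ^ n + P * p ^ 2 ^ n + M = 0 := by
    have h := congrArg (fun v : F => v ^ 2 ^ n) hroot
    simp only [U.bar_add, mul_pow, hPf, hMf, U.toUData.bar_zero] at h
    exact h
  have hbar : p ^ 2 ^ n = p + P := by
    have e : (p ^ 2 ^ n + p) * (p ^ 2 ^ n + p + P) = 0 := by
      linear_combination hroot' + hroot + (p ^ 2 ^ n * p - M) * h2
    rcases mul_eq_zero.1 e with h | h
    · exact absurd (U.toUData.add_eq_zero'.1 h) hpNF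
    · rw [add_assoc, U.toUData.add_eq_zero'] at h
      exact h
  refine ⟨p, hpNF, fun x hx => ?_⟩
  have hxne : x + z' ≠ 0 := by rw [add_comm]; exact U.NF_ne_zero (U.NF_add hx hz')
  rw [hσ x hx, heq x hxne]
  constructor
  · intro h
    have e : (x + p) * (x + (p + P)) = 0 := by
      linear_combination h + hroot + (p * x - M) * h2
    rcases mul_eq_zero.1 e with h' | h'
    · exact Or.inl (U.toUData.add_eq_zero'.1 h')
    · exact Or.inr (by rw [hbar]; exact U.toUData.add_eq_zero'.1 h')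
  · rintro (rfl | rfl)
    · exact hroot
    · exact hroot'

end UNorm

end Cfsg.Agent.Lib.RankOneIdent.PSU3
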