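import Cfsg.Agent.Lib.RankOneIdent.PSU3.Model

/-!
# `PGU₃(q)` for even `q` as a permutation group of `{∞} ∪ Q`

The action of `SU₃(q)` extends to `GU₃(q)` with the scalars as kernel; the new generators are
`(a, b) ↦ (β a, b)` with `β` of norm one.
-/

set_option autoImplicit false
set_option linter.unusedSectionVars false
set_option linter.style.haveILetI false

namespace Cfsg.Agent.Lib.RankOneIdent.PSU3.ModelGU

open Matrix Cfsg.Agent.Lib.Unitary Cfsg.Agent.Lib.U3Sylow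
open Cfsg.Agent.Lib.RankOneIdent.PSU3.Model

variable {F : Type*} [Field F] [Fintype F] {n : ℕ}

/-- The matrix of `g` in the hyperbolic basis. -/
def gmat (x : F) (g : Cfsg.GU 3 F (2 ^ n)) : Matrix (Fin 3) (Fin 3) F := tInv x * g.1.1 * tMat x

variable (hF : Fintype.card F = (2 ^ n) ^ 2) {x : F} (hx : x + x ^ 2 ^ n = 1)

section
include hF

theorem gmat_mul (g h : Cfsg.GU 3 F (2 ^ n)) : gmat x (g * h) = gmat x g * gmat x h := by
  show tInv x * (g.1.1 * h.1.1) * tMat x = tInv x * g.1.1 * tMat x * (tInv x * h.1.1 * tMat x)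
  calc tInv x * (g.1.1 * h.1.1) * tMat x
      = tInv x * g.1.1 * (tMat x * tInv x) * (h.1.1 * tMat x) := by
        rw [tMat_mul_tInv hF]; simp [mul_assoc]
    _ = _ := by simp [mul_assoc]

theorem gmat_one : gmat x (1 : Cfsg.GU 3 F (2 ^ n)) = 1 := by
  show tInv x * 1 * tMat x = 1
  rw [mul_one, tInv_mul_tMat hF]

theorem tMat_gmat_mulVec (g : Cfsg.GU 3 F (2 ^ n)) (u : Fin 3 → F) :
    tMat x *ᵥ (gmat x g *ᵥ u) = g.1.1 *ᵥ (tMat x *ᵥ u) := by
  rw [gmat, ← mulVec_mulVec, ← mulVec_mulVec, tMat_tInv_mulVec hF]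

include hx

theorem hyp_gmat (g : Cfsg.GU 3 F (2 ^ n)) (u v : Fin 3 → F) :
    hyp (2 ^ n) (gmat x g *ᵥ u) (gmat x g *ᵥ v) = hyp (2 ^ n) u v := by
  rw [← herm_tMat hF hx, ← herm_tMat hF hx u v, tMat_gmat_mulVec hF, tMat_gmat_mulVec hF]
  exact g.2 _ _

theorem exists_gimg (g : Cfsg.GU 3 F (2 ^ n)) (o : Option (Pairs F (2 ^ n))) :
    ∃ (o' : Option (Pairs F (2 ^ n))) (c : F), c ≠ 0 ∧ gmat x g *ᵥ cvec o = c • cvec o' := by
  refine exists_cvec hF (fun h => cvec_ne_zero o ?_) (by rw [hyp_gmat hF hx, hyp_cvec hF])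
  rw [← one_mulVec (cvec o), ← gmat_one hF (x := x), ← inv_mul_cancel g, gmat_mul hF, ← mulVec_mulVec, h,
    mulVec_zero]

end

/-- The action on points. -/
noncomputable def gact (g : Cfsg.GU 3 F (2 ^ n)) (o : Option (Pairs F (2 ^ n))) :
    Option (Pairs F (2 ^ n)) := (exists_gimg hF hx g o).choose

theorem gact_spec (g : Cfsg.GU 3 F (2 ^ n)) (o : Option (Pairs F (2 ^ n))) :
    ∃ c : F, c ≠ 0 ∧ gmat x g *ᵥ cvec o = c • cvec (gact hF hx g o) :=
  (exists_gimg hF hx g o).choose_spec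

theorem gact_eq {g : Cfsg.GU 3 F (2 ^ n)} {o o' : Option (Pairs F (2 ^ n))} {c : F}
    (h : gmat x g *ᵥ cvec o = c • cvec o') : gact hF hx g o = o' := by
  obtain ⟨d, hd, he⟩ := gact_spec hF hx g o
  by_cases hc : c = 0
  · rw [he, hc, zero_smul, smul_eq_zero] at h
    exact absurd h (not_or.2 ⟨hd, cvec_ne_zero _⟩)
  · refine cvec_unique (c := c⁻¹ * d) ?_
    rw [← smul_smul, ← he, h, smul_smul, inv_mul_cancel₀ hc, one_smul]

theorem gact_mul (g h : Cfsg.GU 3 F (2 ^ n)) (o : Option (Pairs F (2 ^ n))) :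
    gact hF hx (g * h) o = gact hF hx g (gact hF hx h o) := by
  obtain ⟨d, -, he⟩ := gact_spec hF hx h o
  obtain ⟨d', -, he'⟩ := gact_spec hF hx g (gact hF hx h o)
  refine gact_eq hF hx (c := d * d') ?_
  rw [gmat_mul hF, ← mulVec_mulVec, he, mulVec_smul, ← smul_smul, he']

theorem gact_one (o : Option (Pairs F (2 ^ n))) : gact hF hx 1 o = o :=
  gact_eq hF hx (c := 1) (by rw [gmat_one hF, one_mulVec, one_smul])

/-- The permutation representation. -/
noncomputable def gHom : Cfsg.GU 3 F (2 ^ n) →* Equiv.Perm (Option (Pairs F (2 ^ n))) where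
  toFun g :=
    { toFun := gact hF hx g
      invFun := gact hF hx g⁻¹
      left_inv := fun o => by rw [← gact_mul, inv_mul_cancel, gact_one]
      right_inv := fun o => by rw [← gact_mul, mul_inv_cancel, gact_one] }
  map_one' := Equiv.ext fun o => gact_one hF hx o
  map_mul' g h := Equiv.ext fun o => gact_mul hF hx g h o

theorem gHom_apply (g : Cfsg.GU 3 F (2 ^ n)) (o : Option (Pairs F (2 ^ n))) :
    gHom hF hx g o = gact hF hx g o := rfl

theorem gact_suToGU (g : Cfsg.SU 3 F (2 ^ n)) (o : Option (Pairs F (2 ^ n))) :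
    gact hF hx (suToGU 3 F (2 ^ n) g) o = act hF hx g o := by
  obtain ⟨c, -, he⟩ := (exists_img hF hx g o).choose_spec
  exact gact_eq hF hx (c := c) he

theorem mem_center_of_scalar {g : Cfsg.GU 3 F (2 ^ n)} {l : F} (hl : ∀ v, g.1.1 *ᵥ v = l • v) :
    g ∈ Subgroup.center (Cfsg.GU 3 F (2 ^ n)) := by
  rw [Subgroup.mem_center_iff]
  intro h
  refine GU_ext fun v => ?_
  rw [GU_mul_mulVec, GU_mul_mulVec, hl, hl, mulVec_smul]

theorem ker_gHom : (gHom hF hx).ker = Subgroup.center (Cfsg.GU 3 F (2 ^ n)) := by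
  refine le_antisymm (fun g hg => ?_) fun g hg => ?_
  · obtain ⟨l, hl⟩ := scalar_of_isotropic_eigen hF (by norm_num) g.1.1 fun v hv => by
      rcases eq_or_ne v 0 with rfl | hv0
      · exact ⟨0, by simp⟩
      obtain ⟨o, c, -, hoc⟩ := exists_cvec hF (u := tInv x *ᵥ v)
        (fun h => hv0 (by rw [← tMat_tInv_mulVec hF (x := x) v, h, mulVec_zero]))
        (by rw [← herm_tMat hF hx, tMat_tInv_mulVec hF, hv])
      obtain ⟨d, -, he⟩ := gact_spec hF hx g o
      rw [← gHom_apply, MonoidHom.mem_ker.1 hg, Equiv.Perm.one_apply] at he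
      refine ⟨d, ?_⟩
      rw [← tMat_tInv_mulVec hF (x := x) v, ← tMat_gmat_mulVec hF, hoc, mulVec_smul, he, mulVec_smul,
        mulVec_smul, mulVec_smul, smul_comm]
    exact mem_center_of_scalar hl
  · rw [MonoidHom.mem_ker]
    let z : Pairs F (2 ^ n) := ⟨(0, 0), by simp [zero_pow_q hF]⟩
    have hcomm : ∀ h o, gact hF hx g (gact hF hx h o) = gact hF hx h (gact hF hx g o) := fun h o => by
      rw [← gact_mul, ← gact_mul, Subgroup.mem_center_iff.1 hg h]
    have hnone : gact hF hx g none = none := by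
      rcases e : gact hF hx g none with _ | r
      · rfl
      exfalso
      let p : Pairs F (2 ^ n) := ⟨(0, 1), by
        simp [two_eq_zero hF, one_add_one_eq_two]⟩
      have h1 := hcomm (suToGU 3 F (2 ^ n) (tr hF hx p)) none
      rw [gact_suToGU, act_tr_none, e, gact_suToGU] at h1
      obtain ⟨c, -, he⟩ := (exists_img hF hx (tr hF hx p) (some r)).choose_spec
      change cmat x (tr hF hx p) *ᵥ cvec (some r) = c • cvec (act hF hx (tr hF hx p) (some r)) at he
      rw [← h1, cmat_tr] at he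
      have e0 := congrFun he 0
      have e2 := congrFun he 2
      simp [cvec, p, mMat, mulVec, dotProduct, Fin.sum_univ_three, zero_pow_q hF] at e0 e2
      rw [← e2, one_mul] at e0
      exact absurd e0 (by simp)
    refine Equiv.ext fun o => ?_
    rw [gHom_apply, Equiv.Perm.one_apply]
    obtain ⟨h, -, hh⟩ := exists_gen_none hF hx o
    rw [← hh, ← gact_suToGU, hcomm, hnone]

/-- The image is `PGU₃(q)`. -/
noncomputable def gRangeEquiv :
    (gHom hF hx).range ≃* (Cfsg.GU 3 F (2 ^ n) ⧸ Subgroup.center (Cfsg.GU 3 F (2 ^ n))) :=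
  (QuotientGroup.quotientKerEquivRange (gHom hF hx)).symm.trans
    (QuotientGroup.quotientMulEquivOfEq (ker_gHom hF hx))

/-- The matrix of a dilatation in the hyperbolic basis. -/
def dMat (β : F) : Matrix (Fin 3) (Fin 3) F := !![1, 0, 0; 0, β, 0; 0, 0, 1]

include hF hx in
theorem dil_mem {β : F} (hβ : β * β ^ 2 ^ n = 1) (u v : Fin 3 → F) :
    Cfsg.hermForm 3 F (2 ^ n) ((tMat x * dMat β * tInv x) *ᵥ u) ((tMat x * dMat β * tInv x) *ᵥ v) =
      Cfsg.hermForm 3 F (2 ^ n) u v := by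
  have hd : ∀ u v : Fin 3 → F, hyp (2 ^ n) (dMat β *ᵥ u) (dMat β *ᵥ v) = hyp (2 ^ n) u v := fun u v => by
    simp [hyp, dMat, mulVec, dotProduct, Fin.sum_univ_three, mul_pow]
    linear_combination (u 1 * v 1 ^ 2 ^ n) * hβ
  rw [← mulVec_mulVec, ← mulVec_mulVec, ← mulVec_mulVec, ← mulVec_mulVec, herm_tMat hF hx, hd,
    ← herm_tMat hF hx, tMat_tInv_mulVec hF, tMat_tInv_mulVec hF]

/-- The dilatation `(a, b) ↦ (β a, b)`. -/
noncomputable def dil {β : F} (hβ : β * β ^ 2 ^ n = 1) : Cfsg.GU 3 F (2 ^ n) :=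
  mkGU hF (tMat x * dMat β * tInv x) (dil_mem hF hx hβ)

theorem gmat_dil {β : F} (hβ : β * β ^ 2 ^ n = 1) : gmat x (dil hF hx hβ) = dMat β := by
  rw [gmat, dil, mkGU_val]
  simp only [← mul_assoc, tInv_mul_tMat hF, one_mul]
  rw [mul_assoc, tInv_mul_tMat hF, mul_one]

theorem det_dil {β : F} (hβ : β * β ^ 2 ^ n = 1) : (dil hF hx hβ).1.1.det = β := by
  rw [dil, mkGU_val, det_mul_comm, ← mul_assoc, tInv_mul_tMat hF, one_mul]
  simp [dMat, det_fin_three]

theorem gact_dil_none {β : F} (hβ : β * β ^ 2 ^ n = 1) : gact hF hx (dil hF hx hβ) none = none :=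
  gact_eq hF hx (c := 1) (by
    rw [gmat_dil]
    ext i; fin_cases i <;> simp [cvec, dMat, mulVec, dotProduct, Fin.sum_univ_three])

theorem gact_dil_some {β : F} (hβ : β * β ^ 2 ^ n = 1) (p r : Pairs F (2 ^ n))
    (hr : r.1 = (β * p.1.1, p.1.2)) : gact hF hx (dil hF hx hβ) (some p) = some r :=
  gact_eq hF hx (c := 1) (by
    rw [gmat_dil]
    ext i; fin_cases i <;> simp [cvec, hr, dMat, mulVec, dotProduct, Fin.sum_univ_three])

/-- The generators of `GU₃(q)`. -/
def ggens : Set (Cfsg.GU 3 F (2 ^ n)) :=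
  (suToGU 3 F (2 ^ n)) '' gens hF hx ∪ Set.range fun β : {β : F // β * β ^ 2 ^ n = 1} => dil hF hx β.2

theorem closure_ggens (hn : 2 ≤ n) :
    Subgroup.closure (ggens hF hx) = ⊤ := by
  refine eq_top_iff.2 fun g _ => ?_
  have hdet : g.1.1.det * g.1.1.det ^ 2 ^ n = 1 := det_norm_one hF g
  set d := dil hF hx hdet with hd
  obtain ⟨s, hs⟩ : g * d⁻¹ ∈ (suToGU 3 F (2 ^ n)).range := by
    rw [suToGU_range, MonoidHom.mem_ker, map_mul, map_inv, mul_inv_eq_one]
    exact Units.ext (by rw [detGU_val, detGU_val, det_dil])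
  rw [show g = g * d⁻¹ * d by group]
  refine mul_mem ?_ (Subgroup.subset_closure (Or.inr ⟨⟨_, hdet⟩, rfl⟩))
  rw [← hs]
  have hmap : suToGU 3 F (2 ^ n) s ∈ (Subgroup.closure (gens hF hx)).map (suToGU 3 F (2 ^ n)) := by
    rw [closure_gens hF hx hn]
    exact ⟨s, trivial, rfl⟩
  rw [MonoidHom.map_closure] at hmap
  exact Subgroup.closure_mono (fun y hy => Or.inl hy) hmap

end Cfsg.Agent.Lib.RankOneIdent.PSU3.ModelGU
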