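import Cfsg.Agent.Lib.RankOneIdent.PSU3.Mob

/-!
# The unitary case: regularity of `L₀` outside `B` and the function `om`

`om` is the `L₀`-equivariant map from the points outside `B` to `GF(q²) - GF(q)` sending a point to a fixed
point of the element of `L₀` that acts on it as `wEl`; `dlt A` is its deviation from the second coordinate.
-/

set_option autoImplicit false
set_option linter.unusedSectionVars false
set_option linter.style.haveILetI false

namespace Cfsg.Agent.Lib.RankOneIdent.PSU3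

open Cfsg.Agent.Lib.RankOne.Involution Cfsg.Agent.Lib.RankOne.Basic MulAction
open Cfsg.Agent.Lib.BenderSuzuki Cfsg.Agent.Lib.Unitary Cfsg.Agent.Lib.U3Sylow

variable {G Ω : Type*} [Group G] [MulAction G Ω] [Finite G] {a : Ω} {t : G} {Q : Subgroup G} {F : Type}
  [Field F] [Fintype F] {n : ℕ} {c : G → F × F}

namespace UNorm

variable (U : UNorm G Ω a t Q F n c)
include U

theorem off_iff {x : Q} : U.pt x ∉ U.chordB ↔ U.xC x ≠ 0 := not_congr U.pt_mem_B

theorem smul_off {g : G} (hg : g ∈ U.L₀) {x : Q} (hx : U.xC x ≠ 0) :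
    ∃ y : Q, U.xC y ≠ 0 ∧ g • U.pt x = U.pt y := by
  have h : g • U.pt x ∉ U.chordB := fun h => U.off_iff.2 hx ((U.L₀_smul_B hg _).1 h)
  obtain ⟨y, hy⟩ := U.exists_pt (fun h' => h (Or.inl h'))
  exact ⟨y, U.off_iff.1 (by rw [hy]; exact h), hy.symm⟩

theorem kEl_injective {l l' : F} (hl : l ^ 2 ^ n = l) (hl0 : l ≠ 0) (hl' : l' ^ 2 ^ n = l') (hl0' : l' ≠ 0)
    (h : U.kEl l = U.kEl l') : l = l' := by
  have h1 := (U.coord_kEl hl hl0 (U.zEl 1)).2
  have h2 := (U.coord_kEl hl' hl0' (U.zEl 1)).2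
  have e : conjQ U.setup (U.kEl_D l) (U.zEl 1) = conjQ U.setup (U.kEl_D l') (U.zEl 1) :=
    Subtype.ext (by rw [conjQ_coe, conjQ_coe, h])
  rw [e, h2, U.yC_zEl (one_pow _), mul_one, mul_one] at h1
  haveI := U.toUData.char_two
  exact (CharTwo.sq_injective h1).symm

theorem zEl_injective {z z' : F} (hz : z ^ 2 ^ n = z) (hz' : z' ^ 2 ^ n = z') (h : U.zEl z = U.zEl z') :
    z = z' := by rw [← U.yC_zEl hz, h, U.yC_zEl hz']

theorem card_L₀ : (2 ^ n) ^ 3 - 2 ^ n ≤ Nat.card U.L₀ := by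
  classical
  let R := {x : F // x ^ 2 ^ n = x}
  let R₀ := {x : R // (x : F) ≠ 0}
  let f : (R × R₀) ⊕ (R × R₀ × R) → U.L₀ := fun s => match s with
    | Sum.inl (z, l) => ⟨(U.zEl z.1 : G) * U.kEl l.1.1,
        mul_mem (U.zEl_mem_L₀ z.2) (U.kEl_mem_L₀ l.1.2 l.2)⟩
    | Sum.inr (z, l, z') => ⟨(U.zEl z.1 : G) * (t * U.kEl l.1.1) * (U.zEl z'.1 : G),
        U.mem_of_isForm (Or.inr ⟨z, l.1, z', z.2, l.1.2, l.2, z'.2, rfl⟩)⟩
  have hbase : ∀ (z : R) (l : R₀), ((U.zEl z.1 : G) * U.kEl l.1.1) • a = a := fun z l => by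
    rw [mul_smul, (U.kEl_D _).1, Q_fix U.setup (U.zEl _).2]
  have hf : Function.Injective f := by
    rintro (⟨z, l⟩ | ⟨z, l, z'⟩) (⟨y, m⟩ | ⟨y, m, y'⟩) h <;> have h' := congrArg Subtype.val h <;>
      simp only [f] at h'
    · have hzy : z = y := by
        have h1 := congrArg (fun g : G => g • (t • a)) h'
        have hk : ∀ l : F, U.kEl l • (t • a) = t • a := fun l => (U.kEl_D l).2
        simp only [mul_smul, hk] at h1
        exact Subtype.ext (U.zEl_injective z.2 y.2 (U.pt_injective h1))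
      subst hzy
      rw [show l = m from Subtype.ext (Subtype.ext
        (U.kEl_injective l.1.2 l.2 m.1.2 m.2 (mul_left_cancel h')))]
    · have h1 := congrArg (fun g : G => g • a) h'
      simp only [hbase, U.form_move] at h1
      exact absurd h1.symm (U.pt_ne _)
    · have h1 := congrArg (fun g : G => g • a) h'
      simp only [hbase, U.form_move] at h1
      exact absurd h1 (U.pt_ne _)
    · have hzy : z = y := by
        have h1 := congrArg (fun g : G => g • a) h'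
        simp only [U.form_move] at h1
        exact Subtype.ext (U.zEl_injective z.2 y.2 (U.pt_injective h1))
      subst hzy
      have h2 := mul_left_cancel ((mul_assoc _ _ _).symm.trans (h'.trans (mul_assoc _ _ _)))
      have hz'y : z' = y' := by
        have e : ∀ (l : F) (w : F), ((t * U.kEl l) * (U.zEl w : G))⁻¹ • a = U.pt (U.zEl w) := by
          intro l w
          rw [mul_inv_rev, mul_inv_rev, mul_smul, mul_smul, t_inv U.setup,
            inv_smul_eq_iff.2 (show U.kEl l • (t • a) = t • a from (U.kEl_D l).2).symm,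
            ← Subgroup.coe_inv, U.zEl_inv]
          rfl
        have h1 := congrArg (fun g : G => g⁻¹ • a) h2
        simp only [e] at h1
        exact Subtype.ext (U.zEl_injective z'.2 y'.2 (U.pt_injective h1))
      subst hz'y
      rw [show l = m from Subtype.ext (Subtype.ext
        (U.kEl_injective l.1.2 l.2 m.1.2 m.2 (mul_left_cancel (mul_right_cancel h2))))]
  have h := Nat.card_le_card_of_injective f hf
  have hR : Nat.card R = 2 ^ n := card_fixed U.hF
  have hR₀ : Nat.card R₀ = 2 ^ n - 1 := by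
    rw [← hR, Nat.card_eq_fintype_card, Nat.card_eq_fintype_card, Fintype.card_subtype_compl]
    congr 1
    rw [Fintype.card_subtype, Finset.card_eq_one]
    exact ⟨⟨0, U.toUData.bar_zero⟩, by ext x; simp only [ne_eq, not_not, Finset.mem_filter, Finset.mem_univ, true_and, Finset.mem_singleton]; exact ⟨fun h => Subtype.ext h, fun h => congrArg Subtype.val h⟩⟩
  rw [Nat.card_sum, Nat.card_prod, Nat.card_prod, Nat.card_prod, hR, hR₀] at h
  refine le_trans (le_of_eq ?_) h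
  obtain ⟨q, hq⟩ : ∃ q, 2 ^ n = q + 1 := ⟨2 ^ n - 1, by have := Nat.one_le_two_pow (n := n); omega⟩
  rw [hq, Nat.add_sub_cancel]
  apply Nat.sub_eq_of_eq_add
  ring

/-- The points outside `B`. -/
abbrev Off (_U : UNorm G Ω a t Q F n c) : Type _ := {x : Q // _U.xC x ≠ 0}

theorem card_off : Nat.card U.Off = (2 ^ n) ^ 3 - 2 ^ n := by
  classical
  haveI := Fintype.ofFinite Q
  have hcard : Nat.card {x : Q // U.xC x = 0} = 2 ^ n := by
    refine Eq.trans (Nat.card_congr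
      { toFun := fun x => (⟨U.yC x.1, U.yC_fixed x.2⟩ : {z : F // z ^ 2 ^ n = z})
        invFun := fun z => ⟨U.zEl z.1, U.xC_zEl z.1⟩
        left_inv := fun x => Subtype.ext (U.zEl_yC x.2)
        right_inv := fun z => Subtype.ext (U.yC_zEl z.2) }) (card_fixed U.hF)
  rw [Nat.card_eq_fintype_card] at hcard ⊢
  rw [Fintype.card_subtype_compl, hcard, ← Nat.card_eq_fintype_card, U.toUData.card_Q]

/-- `L₀` is regular on the points outside `B`. -/
theorem existsUnique_move {x y : Q} (hx : U.xC x ≠ 0) (hy : U.xC y ≠ 0) :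
    ∃! g : G, g ∈ U.L₀ ∧ g • U.pt x = U.pt y := by
  classical
  let f : U.L₀ → U.Off := fun g => ⟨(U.smul_off g.2 hx).choose, (U.smul_off g.2 hx).choose_spec.1⟩
  have hf : ∀ g : U.L₀, (g : G) • U.pt x = U.pt (f g).1 := fun g => (U.smul_off g.2 hx).choose_spec.2
  have huniq : ∀ g h : G, g ∈ U.L₀ → h ∈ U.L₀ → g • U.pt x = h • U.pt x → g = h := by
    intro g h hg hh he
    have := U.semiregular (mul_mem (inv_mem hh) hg) (U.off_iff.2 hx)
      (by rw [mul_smul, he, inv_smul_smul])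
    exact (inv_mul_eq_one.1 this).symm
  have hinj : Function.Injective f := fun g h he => Subtype.ext (huniq g h g.2 h.2 (by rw [hf, hf, he]))
  have hbij := (Nat.bijective_iff_injective_and_card f).2 ⟨hinj,
    le_antisymm (Nat.card_le_card_of_injective f hinj) (U.card_off ▸ U.card_L₀)⟩
  obtain ⟨g, hg⟩ := hbij.2 ⟨y, hy⟩
  have hgy : (g : G) • U.pt x = U.pt y := by rw [hf, hg]
  exact ⟨g, ⟨g.2, hgy⟩, fun h hh => huniq h g hh.1 g.2 (hh.2.trans hgy.symm)⟩

/-- The base point outside `B`. -/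
noncomputable def base (_U : UNorm G Ω a t Q F n c) : Q := (_U.toUData.exists_above 1).choose

theorem xC_base : U.xC U.base ≠ 0 := by
  rw [show U.xC U.base = 1 from (U.toUData.exists_above 1).choose_spec]
  exact one_ne_zero

theorem xC_wEl_ne {x : Q} (hx : U.xC x ≠ 0) : U.xC (conjQ U.setup U.wEl_D x) ≠ 0 := by
  rw [(U.coord_wEl x).1]; exact mul_ne_zero U.toUData.mU_ne_zero hx

/-- The element of `L₀` acting on the base point as `wEl`. -/
noncomputable def uBase (_U : UNorm G Ω a t Q F n c) : G :=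
  (_U.existsUnique_move _U.xC_base (_U.xC_wEl_ne _U.xC_base)).choose

theorem uBase_spec : U.uBase ∈ U.L₀ ∧ U.uBase • U.pt U.base = U.wEl • U.pt U.base := by
  have h := (U.existsUnique_move U.xC_base (U.xC_wEl_ne U.xC_base)).choose_spec.1
  exact ⟨h.1, h.2.trans (U.D_pt U.wEl_D _).symm⟩

theorem exists_L₀_to_a {p : Ω} (hp : p ∈ U.chordB) : ∃ g ∈ U.L₀, g • p = a := by
  rcases hp with rfl | ⟨x, hx, rfl⟩
  · exact ⟨1, one_mem _, one_smul _ _⟩
  · refine ⟨t * (U.zEl (U.yC x) : G), mul_mem U.t_mem_L₀ (U.zEl_mem_L₀ (U.toUData.yC_fixed hx)), ?_⟩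
    rw [U.zEl_yC hx, mul_smul, U.smul_pt, U.mul_self_eq_one_iff.2 hx, U.pt_one, tt_smul U.setup]

theorem uBase_no_fix : ∀ p ∈ U.chordB, U.uBase • p ≠ p := by
  intro p hp hfix
  obtain ⟨g, hg, hgp⟩ := U.exists_L₀_to_a hp
  obtain ⟨y, hy, hgy⟩ := U.smul_off hg U.xC_base
  set u := g * U.uBase * g⁻¹ with hu
  have hgi : g⁻¹ • a = p := inv_smul_eq_iff.2 hgp.symm
  have hua : u • a = a := by rw [hu, mul_smul, mul_smul, hgi, hfix, hgp]
  have huy : u • U.pt y = U.wEl • U.pt y := by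
    rw [hu, ← hgy, mul_smul, mul_smul, inv_smul_smul, U.uBase_spec.2, ← mul_smul, ← U.wEl_comm_L₀ hg,
      mul_smul]
  have huL : u ∈ U.L₀ := mul_mem (mul_mem hg U.uBase_spec.1) (inv_mem hg)
  rcases U.isForm_of_mem huL with ⟨z, l, hz, hl, hl0, he⟩ | ⟨z, l, z', hz, hl, hl0, hz', he⟩
  · rw [he, mul_smul, U.D_pt (U.kEl_D l), U.smul_pt, U.D_pt U.wEl_D] at huy
    have h := congrArg U.xC (U.pt_injective huy)
    rw [U.xC_mul, U.xC_zEl, zero_add, (U.coord_kEl hl hl0 y).1, (U.coord_wEl y).1] at h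
    have hlm : l = U.mU := mul_right_cancel₀ hy h
    exact U.toUData.mU_bar_ne (by rw [← hlm, hl])
  · rw [he, U.form_move] at hua
    exact U.pt_ne _ hua

theorem exists_root : ∃ p : F, U.NF p ∧ U.mob U.uBase p = p := by
  obtain ⟨p, hp, h⟩ := U.mob_fix U.uBase_spec.1 U.uBase_no_fix
  exact ⟨p, hp, (h p hp).2 (Or.inl rfl)⟩

/-- A fixed point of `uBase`. -/
noncomputable def root (_U : UNorm G Ω a t Q F n c) : F := _U.exists_root.choose

theorem root_spec : U.NF U.root ∧ U.mob U.uBase U.root = U.root := U.exists_root.choose_spec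

/-- The equivariant map to `GF(q²) - GF(q)`. -/
noncomputable def om (_U : UNorm G Ω a t Q F n c) (x : Q) : F := by
  classical exact if h : _U.xC x ≠ 0 then _U.mob (_U.existsUnique_move _U.xC_base h).choose _U.root else 0

theorem om_eq {g : G} (hg : g ∈ U.L₀) {x : Q} (hx : g • U.pt U.base = U.pt x) :
    U.om x = U.mob g U.root := by
  have hxo : U.xC x ≠ 0 := U.off_iff.1 (by
    rw [← hx]; exact fun h => U.off_iff.2 U.xC_base ((U.L₀_smul_B hg _).1 h))
  unfold om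
  rw [dif_pos hxo]
  have h := (U.existsUnique_move U.xC_base hxo)
  rw [h.unique h.choose_spec.1 ⟨hg, hx⟩]

theorem exists_from_base {x : Q} (hx : U.xC x ≠ 0) : ∃ g ∈ U.L₀, g • U.pt U.base = U.pt x :=
  (U.existsUnique_move U.xC_base hx).exists

theorem om_NF {x : Q} (hx : U.xC x ≠ 0) : U.NF (U.om x) := by
  obtain ⟨g, hg, h⟩ := U.exists_from_base hx
  rw [U.om_eq hg h]
  exact U.mob_NF hg U.root_spec.1

theorem om_smul {g : G} (hg : g ∈ U.L₀) {x y : Q} (hx : U.xC x ≠ 0) (h : g • U.pt x = U.pt y) :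
    U.om y = U.mob g (U.om x) := by
  obtain ⟨k, hk, hkx⟩ := U.exists_from_base hx
  rw [U.om_eq hk hkx, U.om_eq (mul_mem hg hk) (by rw [mul_smul, hkx, h]),
    U.mob_mul hg hk U.root_spec.1]

theorem om_zEl_mul {z : F} (hz : z ^ 2 ^ n = z) {x : Q} (hx : U.xC x ≠ 0) :
    U.om (U.zEl z * x) = z + U.om x := by
  rw [U.om_smul (U.zEl_mem_L₀ hz) hx (U.smul_pt _ _), U.mob_zEl hz (U.om_NF hx)]

theorem om_kEl {l : F} (hl : l ^ 2 ^ n = l) (hl0 : l ≠ 0) {x : Q} (hx : U.xC x ≠ 0) :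
    U.om (conjQ U.setup (U.kEl_D l) x) = l ^ 2 * U.om x := by
  rw [U.om_smul (U.kEl_mem_L₀ hl hl0) hx (U.D_pt _ _), U.mob_kEl hl hl0 (U.om_NF hx)]

theorem om_wEl {x : Q} (hx : U.xC x ≠ 0) : U.om (conjQ U.setup U.wEl_D x) = U.om x := by
  obtain ⟨g, hg, hgx⟩ := U.exists_from_base hx
  have h : (g * U.uBase) • U.pt U.base = U.pt (conjQ U.setup U.wEl_D x) := by
    rw [mul_smul, U.uBase_spec.2, ← mul_smul, ← U.wEl_comm_L₀ hg, mul_smul, hgx, U.D_pt U.wEl_D]
  rw [U.om_eq (mul_mem hg U.uBase_spec.1) h, U.om_eq hg hgx,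
    U.mob_mul hg U.uBase_spec.1 U.root_spec.1, U.root_spec.2]

theorem xC_fmap_ne {x : Q} (hx : U.xC x ≠ 0) : U.xC (fmap U.setup x) ≠ 0 := by
  intro h
  have h' := U.toUData.fmap_central h
  rw [fmap_fmap] at h'
  exact hx h'

theorem ne_one_of_xC {x : Q} (hx : U.xC x ≠ 0) : x ≠ 1 := fun h => hx (by rw [h, U.toUData.xC_one])

theorem om_fmap {x : Q} (hx : U.xC x ≠ 0) : U.om (fmap U.setup x) = (U.om x)⁻¹ := by
  rw [U.om_smul U.t_mem_L₀ hx (U.t_pt (U.ne_one_of_xC hx)), U.mob_t (U.om_NF hx)]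

/-- The deviation of `om` from the second coordinate, above a first coordinate `A`. -/
noncomputable def dlt (_U : UNorm G Ω a t Q F n c) (A : F) : F :=
  (_U.om (_U.toUData.exists_above A).choose + _U.yC (_U.toUData.exists_above A).choose) / (A * A ^ 2 ^ n)

theorem om_eq_dlt {x : Q} (hx : U.xC x ≠ 0) :
    U.om x = U.yC x + U.dlt (U.xC x) * (U.xC x * U.xC x ^ 2 ^ n) := by
  unfold dlt
  rw [div_mul_cancel₀ _ (U.toUData.norm_ne_zero hx)]
  set y := (U.toUData.exists_above (U.xC x)).choose with hy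
  have hyx : U.xC y = U.xC x := (U.toUData.exists_above (U.xC x)).choose_spec
  set z := U.yC x + U.yC y with hz
  have hzf : z ^ 2 ^ n = z := by
    rw [hz, U.bar_add, U.bar_yC, U.bar_yC, hyx]
    linear_combination U.xC x * U.xC x ^ 2 ^ n * U.toUData.two_zero
  have hxy : x = U.zEl z * y := U.ext (by rw [U.xC_mul, U.xC_zEl, zero_add, hyx])
    (by rw [U.yC_mul, U.yC_zEl hzf, U.xC_zEl, U.toUData.bar_zero, zero_mul, add_zero, hz, add_assoc,
      U.toUData.add_self', add_zero])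
  conv_lhs => rw [hxy, U.om_zEl_mul hzf (by rwa [hyx])]
  rw [hz]
  ring

theorem dlt_eq {x : Q} (hx : U.xC x ≠ 0) :
    U.dlt (U.xC x) = (U.om x + U.yC x) / (U.xC x * U.xC x ^ 2 ^ n) := by
  rw [U.om_eq_dlt hx, add_comm (U.yC x), add_assoc, U.toUData.add_self', add_zero,
    mul_div_cancel_right₀ _ (U.toUData.norm_ne_zero hx)]

theorem dlt_smul {l A : F} (hl : l ^ 2 ^ n = l) (hl0 : l ≠ 0) (hA : A ≠ 0) :
    U.dlt (l * A) = U.dlt A := by
  obtain ⟨x, rfl⟩ := U.toUData.exists_above A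
  obtain ⟨e1, e2⟩ := U.coord_kEl hl hl0 x
  have h := U.dlt_eq (x := conjQ U.setup (U.kEl_D l) x) (by rw [e1]; exact mul_ne_zero hl0 hA)
  rw [e1, e2, U.om_kEl hl hl0 hA] at h
  rw [h, U.dlt_eq hA, mul_pow, hl]
  field_simp

theorem dlt_mU {A : F} (hA : A ≠ 0) : U.dlt (U.mU * A) = U.dlt A := by
  obtain ⟨x, rfl⟩ := U.toUData.exists_above A
  obtain ⟨e1, e2⟩ := U.coord_wEl x
  have h := U.dlt_eq (x := conjQ U.setup U.wEl_D x) (U.xC_wEl_ne hA)
  rw [e1, e2, U.om_wEl hA] at h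
  rw [h, U.dlt_eq hA, mul_pow]
  congr 1
  rw [mul_mul_mul_comm, U.toUData.mU_norm, one_mul]

theorem trace_om {x : Q} (hx : U.xC x ≠ 0) :
    U.om x + U.om x ^ 2 ^ n =
      (1 + U.dlt (U.xC x) + U.dlt (U.xC x) ^ 2 ^ n) * (U.xC x * U.xC x ^ 2 ^ n) := by
  rw [U.om_eq_dlt hx, U.bar_add, U.bar_yC, mul_pow, mul_pow, U.bar_bar]
  linear_combination U.yC x * U.toUData.two_zero

end UNorm

end Cfsg.Agent.Lib.RankOneIdent.PSU3
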