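import Cfsg.Agent.Lib.RankOneIdent.PSU3.TorusAction
import Cfsg.Agent.Lib.RankOneIdent.PSU3.Centralizer
import Cfsg.Agent.Lib.RankOneIdent.PSU3.FieldCongr
import Cfsg.Agent.Lib.RankOneIdent.PSU3.Main
import Cfsg.Agent.Lib.BenderConsumers23.Structure

/-!
# `PGU₃(q)` from the centraliser of an involution

The Sylow `2`-subgroups form a TI set, so their normalisers are strongly embedded; Bender's theorem gives
coordinates on the Sylow subgroup, and `V = C_D(t)` is the full group of norm-one dilatations.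
-/

set_option autoImplicit false
set_option linter.unusedSectionVars false
set_option linter.style.haveILetI false

namespace Cfsg.Agent.Lib.RankOneIdent.PSU3.Recognition

open Cfsg.Agent.Lib.RankOne.Basic MulAction
open Cfsg.Agent.Lib.BenderSuzuki Cfsg.Agent.Lib.Unitary Cfsg.Agent.Lib.U3Sylow
open Cfsg.Agent.Lib.Involutions.StronglyEmbedded Cfsg.Agent.Lib.Involutions.Basic
open scoped Pointwise

universe u

variable {G : Type u} [Group G] [Finite G] {n : ℕ}

/-- All centralisers of involutions have the shape of those of `PGU₃(q)`. -/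
def AllShape (G : Type u) [Group G] (q : ℕ) : Prop :=
  ∀ x : G, orderOf x = 2 → CentShape q (Subgroup.centralizer ({x} : Set G))

variable (hq : 2 ≤ n) (hC : AllShape G (2 ^ n)) (hS : ∀ P : Sylow 2 G, ¬ (P : Subgroup G).Normal)
include hC

/-- The normal Sylow subgroup of a centraliser. -/
theorem exists_two_sub {x : G} (hx : orderOf x = 2) :
    ∃ T : Subgroup G, IsPGroup 2 T ∧ Nat.card T = (2 ^ n) ^ 3 ∧
      Subgroup.centralizer ({x} : Set G) ≤ Subgroup.normalizer (T : Set G) := by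
  obtain ⟨T, hT, hTc⟩ := (hC x hx).sylow
  have hcard : Nat.card ↥(T.map (Subgroup.centralizer ({x} : Set G)).subtype) = (2 ^ n) ^ 3 := by
    rw [← hTc, Nat.card_congr (T.equivMapOfInjective _ (Subgroup.subtype_injective _)).toEquiv]
  refine ⟨T.map (Subgroup.centralizer ({x} : Set G)).subtype,
    IsPGroup.of_card (n := n * 3) (by rw [hcard, pow_mul]), hcard, fun c hc => ?_⟩
  rw [Subgroup.mem_normalizer_iff]
  intro y
  constructor
  · rintro ⟨s, hs, rfl⟩
    exact ⟨_, hT.conj_mem s hs ⟨c, hc⟩, rfl⟩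
  · rintro ⟨s, hs, he⟩
    refine ⟨_, hT.conj_mem s hs ⟨c, hc⟩⁻¹, ?_⟩
    change (s : G) = c * y * c⁻¹ at he
    show c⁻¹ * (s : G) * c⁻¹⁻¹ = y
    rw [he]; group

include hS

theorem exists_central (P : Sylow 2 G) :
    ∃ z : G, orderOf z = 2 ∧ z ∈ (P : Subgroup G) ∧ ∀ s ∈ (P : Subgroup G), s * z = z * s := by
  haveI : Fact (Nat.Prime 2) := ⟨Nat.prime_two⟩
  have hne : (P : Subgroup G) ≠ ⊥ := fun h => hS P (h ▸ inferInstance)
  haveI : Nontrivial (P : Subgroup G) := (Subgroup.nontrivial_iff_ne_bot _).2 hne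
  haveI : Nontrivial (Subgroup.center (P : Subgroup G)) := P.2.center_nontrivial
  obtain ⟨k, hk⟩ := IsPGroup.iff_card.1 (P.2.to_subgroup (Subgroup.center _))
  have h2 : 2 ∣ Nat.card (Subgroup.center (P : Subgroup G)) := by
    have := Finite.one_lt_card (α := Subgroup.center (P : Subgroup G))
    rw [hk] at this ⊢
    exact dvd_pow_self 2 (fun h => by rw [h, pow_zero] at this; omega)
  obtain ⟨z, hz⟩ := exists_prime_orderOf_dvd_card' 2 h2
  refine ⟨((z : (P : Subgroup G)) : G), ?_, (z : (P : Subgroup G)).2, fun s hs => ?_⟩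
  · rw [Subgroup.orderOf_coe, Subgroup.orderOf_coe, hz]
  · exact congrArg Subtype.val (Subgroup.mem_center_iff.1 z.2 ⟨s, hs⟩)

theorem sylow_le_centralizer (P : Sylow 2 G) {x : G} (hx : orderOf x = 2)
    (hxP : x ∈ (P : Subgroup G)) : (P : Subgroup G) ≤ Subgroup.centralizer ({x} : Set G) := by
  obtain ⟨z, hz, hzP, hzc⟩ := exists_central hC hS P
  intro s hs
  rw [Subgroup.mem_centralizer_singleton_iff]
  have hxC : x ∈ Subgroup.centralizer ({z} : Set G) :=
    Subgroup.mem_centralizer_singleton_iff.2 (hzc x hxP)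
  have := (hC z hz).central ⟨x, hxC⟩ (by rw [Subgroup.orderOf_mk, hx])
    ⟨s, Subgroup.mem_centralizer_singleton_iff.2 (hzc s hs)⟩
  exact congrArg Subtype.val this

theorem card_sylow (P : Sylow 2 G) : Nat.card (P : Subgroup G) = (2 ^ n) ^ 3 := by
  haveI : Fact (Nat.Prime 2) := ⟨Nat.prime_two⟩
  obtain ⟨z, hz, hzP, -⟩ := exists_central hC hS P
  refine Nat.dvd_antisymm ?_ ?_
  · obtain ⟨k, hk⟩ := IsPGroup.iff_card.1 P.2
    have h := Subgroup.card_dvd_of_le (sylow_le_centralizer hC hS P hz hzP)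
    rw [(hC z hz).card] at h
    refine (Nat.Coprime.dvd_of_dvd_mul_right ?_ h)
    rw [hk]
    refine Nat.Coprime.pow_left _ (Nat.coprime_two_left.2 ?_)
    rcases Nat.eq_zero_or_pos n with rfl | hn
    · have := (hC z hz).card_invols
      have h1 : Nat.card {y : Subgroup.centralizer ({z} : Set G) // orderOf y = 2} ≠ 0 := by
        haveI : Nonempty {y : Subgroup.centralizer ({z} : Set G) // orderOf y = 2} :=
          ⟨⟨⟨z, Subgroup.mem_centralizer_singleton_iff.2 rfl⟩, by rw [Subgroup.orderOf_mk, hz]⟩⟩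
        exact Nat.card_pos.ne'
      simp at this
      exact absurd this (by simpa using h1)
    · exact (even_two.pow_of_ne_zero hn.ne').add_one
  · obtain ⟨T, hT, hTc, -⟩ := exists_two_sub hC hz
    obtain ⟨P', hP'⟩ := hT.exists_le_sylow
    rw [← hTc, Nat.card_congr (Sylow.equiv P P').toEquiv]
    exact Subgroup.card_dvd_of_le hP'

theorem sylow_eq (P : Sylow 2 G) {x : G} (hx : orderOf x = 2) (hxP : x ∈ (P : Subgroup G)) :
    ∃ T : Subgroup G, Nat.card T = (2 ^ n) ^ 3 ∧ (P : Subgroup G) = T ∧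
      Subgroup.centralizer ({x} : Set G) ≤ Subgroup.normalizer (T : Set G) := by
  haveI : Fact (Nat.Prime 2) := ⟨Nat.prime_two⟩
  obtain ⟨T, hT, hTc, hTn⟩ := exists_two_sub hC hx
  refine ⟨T, hTc, ?_, hTn⟩
  have h2 : IsPGroup 2 ↥((P : Subgroup G) ⊔ T) :=
    IsPGroup.to_sup_of_normal_right' P.2 hT ((sylow_le_centralizer hC hS P hx hxP).trans hTn)
  have he := P.3 h2 le_sup_left
  refine (Subgroup.eq_of_le_of_card_ge (le_sup_right.trans he.le) ?_).symm
  rw [card_sylow hC hS, hTc]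

theorem sylow_unique (P P' : Sylow 2 G) {x : G} (hx : orderOf x = 2) (hxP : x ∈ (P : Subgroup G))
    (hxP' : x ∈ (P' : Subgroup G)) : P = P' := by
  haveI : Fact (Nat.Prime 2) := ⟨Nat.prime_two⟩
  obtain ⟨T, hTc, hPT, hTn⟩ := sylow_eq hC hS P hx hxP
  have h2 : IsPGroup 2 ↥((P' : Subgroup G) ⊔ (P : Subgroup G)) :=
    IsPGroup.to_sup_of_normal_right' P'.2 P.2 (by
      rw [hPT]; exact (sylow_le_centralizer hC hS P' hx hxP').trans hTn)
  refine Sylow.ext (Subgroup.eq_of_le_of_card_ge (le_sup_right.trans (P'.3 h2 le_sup_left).le) ?_)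
  rw [card_sylow hC hS, card_sylow hC hS]

theorem ti (P : Sylow 2 G) (g : G) (hg : MulAut.conj g • (P : Subgroup G) ≠ P) :
    MulAut.conj g • (P : Subgroup G) ⊓ P = ⊥ := by
  haveI : Fact (Nat.Prime 2) := ⟨Nat.prime_two⟩
  by_contra h
  obtain ⟨k, hk⟩ := IsPGroup.iff_card.1
    (P.2.to_le (inf_le_right : MulAut.conj g • (P : Subgroup G) ⊓ P ≤ P))
  have h2 : Even (Nat.card ↥(MulAut.conj g • (P : Subgroup G) ⊓ P : Subgroup G)) := by
    rcases k.eq_zero_or_pos with rfl | hpos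
    · exact absurd (Subgroup.card_eq_one.1 (by simpa using hk)) h
    · rw [hk]; exact even_two.pow_of_ne_zero hpos.ne'
  obtain ⟨x, hx⟩ := exists_invol h2
  have hx2 : orderOf (x : G) = 2 := by rw [Subgroup.orderOf_coe, hx]
  have := sylow_unique hC hS (g • P) P hx2 x.2.1 x.2.2
  exact hg (congrArg (fun R : Sylow 2 G => (R : Subgroup G)) this)

theorem mem_of_commute (P : Sylow 2 G) {z y : G} (hz : orderOf z = 2) (hzP : z ∈ (P : Subgroup G))
    (hy : orderOf y = 2) (hc : y * z = z * y) : y ∈ (P : Subgroup G) := by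
  haveI : Fact (Nat.Prime 2) := ⟨Nat.prime_two⟩
  obtain ⟨T, -, hPT, hTn⟩ := sylow_eq hC hS P hz hzP
  have hyn : y ∈ Subgroup.normalizer ((P : Subgroup G) : Set G) := by
    rw [hPT]; exact hTn (Subgroup.mem_centralizer_singleton_iff.2 hc)
  have hpg : IsPGroup 2 (Subgroup.zpowers y) :=
    IsPGroup.of_card (n := 1) (by rw [Nat.card_zpowers, hy, pow_one])
  have := P.3 (IsPGroup.to_sup_of_normal_left' P.2 hpg (Subgroup.zpowers_le.2 hyn)) le_sup_left
  rw [← this]
  exact Subgroup.mem_sup_right (Subgroup.mem_zpowers y)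

include hq in
theorem twoRank : TwoRank G := by
  haveI : Fact (Nat.Prime 2) := ⟨Nat.prime_two⟩
  obtain ⟨P⟩ := (inferInstance : Nonempty (Sylow 2 G))
  obtain ⟨z, hz, -, -⟩ := exists_central hC hS P
  have h4 : 4 ≤ 2 ^ n := le_trans (by norm_num : (4 : ℕ) ≤ 2 ^ 2) (Nat.pow_le_pow_right two_pos hq)
  have hc := (hC z hz).card_invols
  have : 1 < Nat.card {y : Subgroup.centralizer ({z} : Set G) // orderOf y = 2} := by omega
  haveI := Finite.one_lt_card_iff_nontrivial.1 this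
  obtain ⟨⟨x, hx⟩, ⟨y, hy⟩, hne⟩ := exists_pair_ne {y : Subgroup.centralizer ({z} : Set G) // orderOf y = 2}
  have hx' : orderOf (x : G) = 2 := by rw [Subgroup.orderOf_coe, hx]
  have hy' : orderOf (y : G) = 2 := by rw [Subgroup.orderOf_coe, hy]
  exact ⟨x, y, invol_ne_one hx', invol_ne_one hy', fun h => hne (Subtype.ext (Subtype.ext h)),
    invol_mul_self hx', invol_mul_self hy', congrArg Subtype.val ((hC z hz).central y hy x)⟩

theorem normalCore_eq_bot (P : Sylow 2 G)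
    (hH : Cfsg.IsStronglyEmbedded (Subgroup.normalizer ((P : Subgroup G) : Set G))) :
    (Subgroup.normalizer ((P : Subgroup G) : Set G)).normalCore = ⊥ := by
  haveI : Fact (Nat.Prime 2) := ⟨Nat.prime_two⟩
  set K := (Subgroup.normalizer ((P : Subgroup G) : Set G)).normalCore with hKdef
  have hKn : K.Normal := Subgroup.normalCore_normal _
  have hKo : Odd (Nat.card K) := BenderConsumers23.odd_normalCore hH
  obtain ⟨z, hz, hzP, -⟩ := exists_central hC hS P
  have hdisj : K ⊓ (P : Subgroup G) = ⊥ := by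
    refine disjoint_iff.1 (Subgroup.disjoint_of_coprime_natCard ?_)
    obtain ⟨k, hk⟩ := IsPGroup.iff_card.1 P.2
    rw [hk]
    exact Nat.Coprime.pow_right _ (Nat.coprime_two_right.2 hKo)
  have hle : K ≤ Subgroup.centralizer ({z} : Set G) := by
    intro k hk
    rw [Subgroup.mem_centralizer_singleton_iff]
    have hkN : k ∈ Subgroup.normalizer ((P : Subgroup G) : Set G) := Subgroup.normalCore_le _ hk
    have h1 : k * z * k⁻¹ * z⁻¹ ∈ K ⊓ (P : Subgroup G) := by
      have hkz : k * z * k⁻¹ ∈ (P : Subgroup G) := (Subgroup.mem_normalizer_iff.1 hkN z).1 hzP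
      refine ⟨?_, (P : Subgroup G).mul_mem hkz ((P : Subgroup G).inv_mem hzP)⟩
      rw [show k * z * k⁻¹ * z⁻¹ = k * (z * k⁻¹ * z⁻¹) by group]
      exact mul_mem hk (hKn.conj_mem _ (inv_mem hk) z)
    rw [hdisj, Subgroup.mem_bot, mul_inv_eq_one, mul_inv_eq_iff_eq_mul] at h1
    exact h1
  have h := (hC z hz).odd_normal (K.subgroupOf _) inferInstance (by
    rw [Nat.card_congr (Subgroup.subgroupOfEquivOfLe hle).toEquiv]; exact hKo)
  rw [Subgroup.subgroupOf_eq_bot] at h
  exact h.eq_bot_of_le hle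

omit hS in
/-- The identification, given the set-up with `Q` a Sylow subgroup. -/
theorem iso_of_setup {Ω : Type u} [MulAction G Ω] {a : Ω} {t : G} {Q : Subgroup G}
    (hq : 2 ≤ n) (hCo : PropCoords.{u, u}) (hyp : Hyp G Ω a t Q) (h2 : IsPGroup 2 Q)
    (hQ : Nat.card Q = (2 ^ n) ^ 3) {z : G} (hz : orderOf z = 2)
    (hiff : ∀ y, y ∈ invs G a ↔ y ∈ Subgroup.centralizer ({z} : Set G) ∧ orderOf y = 2)
    (hQC : Q ≤ Subgroup.centralizer ({z} : Set G))
    (hCa : Subgroup.centralizer ({z} : Set G) ≤ stabilizer G a) :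
    ∃ (K : Type) (_ : Field K) (_ : Fintype K), Fintype.card K = (2 ^ n) ^ 2 ∧
      Nonempty (G ≃* (Cfsg.GU 3 K (2 ^ n) ⧸ Subgroup.center (Cfsg.GU 3 K (2 ^ n)))) := by
  classical
  have hS := hyp.setup
  have hzI : z ∈ invs G a :=
    (hiff z).2 ⟨Subgroup.mem_centralizer_singleton_iff.2 rfl, hz⟩
  have hIcard : Nat.card (invs G a) + 1 = 2 ^ n := by
    rw [← (hC z hz).card_invols]
    congr 1
    exact Nat.card_congr
      { toFun := fun y => ⟨⟨y, ((hiff y).1 y.2).1⟩, by rw [Subgroup.orderOf_mk]; exact ((hiff y).1 y.2).2⟩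
        invFun := fun y => ⟨(y.1 : G), (hiff _).2 ⟨y.1.2, by rw [Subgroup.orderOf_coe]; exact y.2⟩⟩
        left_inv := fun y => rfl
        right_inv := fun y => rfl }
  have hqn : qNum G a = 2 ^ n := hIcard
  have hker : ∀ d, d ∈ twoStab G a t → d ∈ Subgroup.centralizer ({z} : Set G) → d ∈ vKer a t := by
    refine fun d hd hdz => ⟨hd, Subgroup.mem_centralizer_iff.2 fun y hy => ?_⟩
    obtain ⟨hy1, hy2⟩ := (hiff y).1 hy
    exact (congrArg Subtype.val ((hC z hz).central ⟨y, hy1⟩ (by rw [Subgroup.orderOf_mk, hy2]) ⟨d, hdz⟩)).symm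
  have hkz : ∀ d ∈ vKer a t, d ∈ Subgroup.centralizer ({z} : Set G) := fun d hd =>
    Subgroup.mem_centralizer_singleton_iff.2 ((Subgroup.mem_centralizer_iff.1 hd.2 z hzI).symm)
  have hKcard : Nat.card (vKer a t) = 2 ^ n + 1 := by
    refine Nat.eq_of_mul_eq_mul_left (show 0 < (2 ^ n) ^ 3 by positivity) ?_
    rw [← (hC z hz).card, ← hQ, ← Nat.card_prod]
    refine Nat.card_eq_of_bijective (fun p : Q × vKer a t =>
      (⟨(p.1 : G) * p.2, mul_mem (hQC p.1.2) (hkz _ p.2.2)⟩ : Subgroup.centralizer ({z} : Set G)))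
      ⟨fun p p' h => ?_, fun g => ?_⟩
    · obtain ⟨h1, h2⟩ := Q_D_unique hS p.1.2 p'.1.2 p.2.2.1 p'.2.2.1 (congrArg Subtype.val h)
      exact Prod.ext (Subtype.ext h1) (Subtype.ext h2)
    · obtain ⟨x, hx, d, hd, he⟩ := exists_Q_D hS (g := (g : G)) (hCa g.2)
      have hdz : d ∈ Subgroup.centralizer ({z} : Set G) := by
        rw [show d = x⁻¹ * g by rw [he, inv_mul_cancel_left]]
        exact mul_mem (inv_mem (hQC hx)) g.2
      exact ⟨(⟨x, hx⟩, ⟨d, hker d hd hdz⟩), Subtype.ext he.symm⟩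
  have hKne : vKer a t ≠ ⊥ := fun h => by
    rw [h, Subgroup.card_bot] at hKcard
    have := Nat.two_pow_pos n
    omega
  obtain ⟨K, iK, iK', c, hK, co⟩ := hCo G Ω a t Q hyp h2 (by rw [hQ, hqn]) hKne
  rw [hqn] at hK co
  obtain ⟨c, U⟩ := exists_norm (⟨hS, hyp.faithful, hq, hK, hqn, co⟩ : UData G Ω a t Q K n c)
  haveI := hyp.faithful
  have h1 : (1 : K) ^ 2 ^ n = 1 := one_pow _
  have hone : (U.toUData.zEl 1 : G) ∈ invs G a :=
    U.toUData.mem_invs_iff.2 ⟨U.toUData.xC_zEl 1, U.toUData.zEl_ne_one h1 one_ne_zero⟩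
  have hle : vKer a t ≤ vGrp a t := fun d hd => U.mem_vGrp_of_fix hd.1 (Subtype.ext (by
    rw [conjQ_coe, mul_inv_eq_iff_eq_mul]
    exact (Subgroup.mem_centralizer_iff.1 hd.2 _ hone).symm))
  have hVle : Nat.card (vGrp a t) ≤ Nat.card (vKer a t) := by
    have hD : Nat.card (vGrp a t) * Nat.card (kSet a t) = Nat.card (twoStab G a t) := by
      have := card_inf_twoStab hS ⊤ (fun k _ => Subgroup.mem_top k)
      rw [top_inf_eq, top_inf_eq] at this
      exact this.symm
    have hk : Nat.card (kSet a t) = Nat.card (invs G a) := card_invertedBy hS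
    have hmem : ∀ d : twoStab G a t, (d : G) * z * (d : G)⁻¹ ∈ invs G a := fun d =>
      inverted_conj_mem hS hzI d.2.1
    choose kf hkf using fun s : invs G a => (existsUnique_K hS hzI s.2).exists
    have hin : ∀ d : twoStab G a t, (kf ⟨_, hmem d⟩)⁻¹ * (d : G) ∈ vKer a t := fun d => by
      refine hker _ (mul_mem (inv_mem (hkf _).1.1) d.2) (Subgroup.mem_centralizer_singleton_iff.2 ?_)
      have h := (hkf ⟨_, hmem d⟩).2
      set k := kf ⟨_, hmem d⟩
      calc k⁻¹ * d * z = k⁻¹ * (d * z * (d : G)⁻¹) * d := by group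
        _ = k⁻¹ * (k * z * k⁻¹) * d := by rw [h]
        _ = z * (k⁻¹ * d) := by group
    have hD' : Nat.card (twoStab G a t) ≤ Nat.card (invs G a × vKer a t) := by
      refine Nat.card_le_card_of_injective (fun d => (⟨_, hmem d⟩, ⟨_, hin d⟩)) fun d d' h => ?_
      obtain ⟨e1, e2⟩ := Prod.mk.inj h
      have e2' := congrArg Subtype.val e2
      simp only [e1] at e2'
      exact Subtype.ext (mul_left_cancel e2')
    rw [Nat.card_prod, ← hD, hk, mul_comm] at hD'
    exact Nat.le_of_mul_le_mul_left hD' (by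
      haveI : Nonempty (invs G a) := ⟨⟨z, hzI⟩⟩
      exact Nat.card_pos)
  have heq : vKer a t = vGrp a t := Subgroup.eq_of_le_of_card_ge hle hVle
  have hV : ∀ w, (hw : w ∈ vGrp a t) → ∀ x : Q, U.xC x = 0 → conjQ U.setup hw.1 x = x := by
    intro w hw x hx
    rcases eq_or_ne x 1 with rfl | hx1
    · exact Subtype.ext (by rw [conjQ_coe, Subgroup.coe_one, mul_one, mul_inv_cancel])
    · refine Subtype.ext ?_
      rw [conjQ_coe, mul_inv_eq_iff_eq_mul]
      exact (Subgroup.mem_centralizer_iff.1 (heq ▸ hw : w ∈ vKer a t).2 _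
        (U.toUData.mem_invs_iff.2 ⟨hx, hx1⟩)).symm
  choose beta hbeta using fun v : vGrp a t => U.exists_beta v.2 hV
  let μ := {β : K // β * β ^ 2 ^ n = 1}
  have hbij : Function.Bijective (fun v => (⟨beta v, (hbeta v).1⟩ : μ)) := by
    refine (Nat.bijective_iff_injective_and_card _).2 ⟨fun v v' h => Subtype.ext ?_, ?_⟩
    · have hb : beta v = beta v' := congrArg Subtype.val h
      refine U.D_ext v.2.1 v'.2.1 fun x => ?_
      obtain ⟨e1, e2⟩ := (hbeta v).2 x
      obtain ⟨f1, f2⟩ := (hbeta v').2 x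
      exact U.toUData.ext (by rw [e1, f1, hb]) (by rw [e2, f2])
    · rw [← heq, hKcard, ← card_norm_one hK]
      exact Nat.card_congr (Equiv.subtypeEquivRight fun β => by rw [pow_succ'])
  obtain ⟨x₀, hx₀⟩ := trace_surj hK (y := (1 : K)) (one_pow _)
  let φ := ModelGU.gHom hK hx₀
  let z₀ : Pairs K (2 ^ n) := ⟨(0, 0), by simp [zero_pow_q hK]⟩
  have hchi1 : U.chi 1 = z₀ := Subtype.ext (Prod.ext U.toUData.xC_one U.toUData.yC_one)
  let E : Ω ≃ Option (Pairs K (2 ^ n)) := (pointEquiv hS).symm.trans (Equiv.optionCongr U.chi)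
  have hEa : E a = none := by
    show Equiv.optionCongr U.chi ((pointEquiv hS).symm a) = none
    rw [show (pointEquiv hS).symm a = none from
      (pointEquiv hS).symm_apply_eq.2 (pointEquiv_none hS).symm]
    rfl
  have hEx : ∀ x : Q, E ((x : G) • (t • a)) = some (U.chi x) := fun x => by
    show Equiv.optionCongr U.chi ((pointEquiv hS).symm ((x : G) • (t • a))) = _
    rw [show (pointEquiv hS).symm ((x : G) • (t • a)) = some x from
      (pointEquiv hS).symm_apply_eq.2 (pointEquiv_some hS x).symm]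
    rfl
  have hEb : E (t • a) = some z₀ := by
    have := hEx 1
    rw [Subgroup.coe_one, one_smul] at this
    rw [this, hchi1]
  have hcases : ∀ p : Ω, p = a ∨ ∃ x : Q, p = (x : G) • (t • a) := fun p => by
    obtain ⟨o, rfl⟩ := (pointEquiv hS).surjective p
    cases o with
    | none => exact Or.inl rfl
    | some x => exact Or.inr ⟨x, rfl⟩
  let ψ : G →* Equiv.Perm Ω := MulAction.toPermHom G Ω
  have hψ : Function.Injective ψ := MulAction.toPerm_injective
  have hT : ∀ x : Q, ∀ p,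
      E (ψ x p) = φ (suToGU 3 K (2 ^ n) (Model.tr hK hx₀ (U.chi x))) (E p) := by
    intro x p
    show E ((x : G) • p) = ModelGU.gact hK hx₀ _ (E p)
    rw [ModelGU.gact_suToGU]
    rcases hcases p with rfl | ⟨y, rfl⟩
    · rw [Q_fix hS x.2, hEa, Model.act_tr_none]
    · rw [← mul_smul, ← Subgroup.coe_mul, hEx, hEx]
      exact (Model.act_tr_some hK hx₀ _ _ _
        (Prod.ext (U.toUData.xC_mul x y) (U.toUData.yC_mul x y))).symm
  have hW : ∀ p, E (ψ t p) = φ (suToGU 3 K (2 ^ n) (Model.w0 hK hx₀)) (E p) := by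
    intro p
    show E (t • p) = ModelGU.gact hK hx₀ _ (E p)
    rw [ModelGU.gact_suToGU]
    rcases hcases p with rfl | ⟨y, rfl⟩
    · rw [hEb, hEa, Model.act_w0_none hK hx₀ z₀ rfl]
    · by_cases hy : y = 1
      · subst hy
        rw [Subgroup.coe_one, one_smul, tt_smul hS, hEa, hEb, Model.act_w0_zero hK hx₀ z₀ rfl]
      · rw [← fmap_spec hS hy, hEx, hEx]
        obtain ⟨e1, e2⟩ := U.fmap_coords hy
        exact (Model.act_w0_some hK hx₀ _ _ (U.toUData.yC_ne_zero hy) (Prod.ext e1 e2)).symm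
  have hV' : ∀ v : vGrp a t, ∀ p,
      E (ψ v p) = φ (ModelGU.dil hK hx₀ (hbeta v).1) (E p) := by
    intro v p
    show E ((v : G) • p) = ModelGU.gact hK hx₀ _ (E p)
    rcases hcases p with rfl | ⟨y, rfl⟩
    · rw [(mem_twoStab.1 v.2.1).1, hEa, ModelGU.gact_dil_none]
    · rw [← conjQ_smul hS v.2.1, hEx, hEx]
      exact (ModelGU.gact_dil_some hK hx₀ _ _ _
        (Prod.ext ((hbeta v).2 y).1 ((hbeta v).2 y).2)).symm
  set R := ModelGU.ggens hK hx₀ with hRdef
  set Sg : Set G := (Q : Set G) ∪ {t} ∪ (vGrp a t : Set G) with hSgdef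
  have hR : Subgroup.closure R = ⊤ := ModelGU.closure_ggens hK hx₀ hq
  have h₁ : ∀ g ∈ Sg, ∃ m ∈ R, ∀ p, E (ψ g p) = φ m (E p) := by
    rintro g ((hg | hg) | hg)
    · exact ⟨_, Or.inl ⟨_, Or.inl ⟨_, rfl⟩, rfl⟩, hT ⟨g, hg⟩⟩
    · obtain rfl := Set.mem_singleton_iff.1 hg
      exact ⟨_, Or.inl ⟨_, Or.inr rfl, rfl⟩, hW⟩
    · exact ⟨_, Or.inr ⟨⟨_, (hbeta ⟨g, hg⟩).1⟩, rfl⟩, hV' ⟨g, hg⟩⟩
  have h₂ : ∀ m ∈ R, ∃ g ∈ Sg, ∀ p, E (ψ g p) = φ m (E p) := by
    rintro m (⟨s, hs, rfl⟩ | ⟨β, rfl⟩)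
    · rcases hs with ⟨d, rfl⟩ | hs
      · refine ⟨(U.chi.symm d : G), Or.inl (Or.inl (U.chi.symm d).2), fun p => ?_⟩
        have := hT (U.chi.symm d) p
        rwa [U.chi.apply_symm_apply] at this
      · obtain rfl := Set.mem_singleton_iff.1 hs
        exact ⟨t, Or.inl (Or.inr rfl), hW⟩
    · obtain ⟨v, hv⟩ := hbij.2 β
      subst hv
      exact ⟨v, Or.inr v.2, hV' v⟩
  have htop : Subgroup.closure Sg = ⊤ := by
    refine eq_top_iff.2 fun g _ => ?_
    obtain ⟨l, hl, d, hd, hdt, rfl⟩ := exists_core_mul_centralizer hS g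
    refine mul_mem (Subgroup.closure_mono Set.subset_union_left hl) ?_
    exact Subgroup.subset_closure (Or.inr ((centralizer_t_iff hS).2 ⟨hd, hdt⟩))
  obtain ⟨iso₀⟩ := nonempty_equiv_range ψ hψ φ E Sg R hR h₁ h₂
  exact ⟨K, iK, iK', hK, ⟨((Subgroup.topEquiv.symm.trans (MulEquiv.subgroupCongr htop.symm)).trans
    iso₀).trans (ModelGU.gRangeEquiv hK hx₀)⟩⟩

end Cfsg.Agent.Lib.RankOneIdent.PSU3.Recognition

namespace Cfsg.Agent.Lib.RankOneIdent.PSU3

open Cfsg.Agent.Lib.RankOne.Basic MulAction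
open Cfsg.Agent.Lib.BenderSuzuki Cfsg.Agent.Lib.Unitary
open Cfsg.Agent.Lib.Involutions.StronglyEmbedded Cfsg.Agent.Lib.Involutions.Basic

universe u v

/-- A group with the centralisers of involutions of `PGU₃(q)` is `PGU₃(q)`. -/
theorem pgu_recognition (hPart : BenderConsumers23.PropPartOne.{u}) (hMain : PropMain.{u, u})
    (hCo : PropCoords.{u, u})
    {G : Type u} [Group G] [Finite G] {F : Type v} [Field F] [Fintype F] [CharP F 2] (q : ℕ)
    (hq : 2 < q) (hF : Fintype.card F = q ^ 2)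
    (hC : ∀ (x : G) (y : (↥(Cfsg.GU 3 F q) ⧸ Subgroup.center ↥(Cfsg.GU 3 F q))), orderOf x = 2 →
      orderOf y = 2 →
      Nonempty (↥(Subgroup.centralizer ({x} : Set G)) ≃*
        ↥(Subgroup.centralizer ({y} : Set (↥(Cfsg.GU 3 F q) ⧸ Subgroup.center ↥(Cfsg.GU 3 F q))))))
    (hS : ∀ P : Sylow 2 G, ¬ (P : Subgroup G).Normal) :
    Nonempty (G ≃* (↥(Cfsg.GU 3 F q) ⧸ Subgroup.center ↥(Cfsg.GU 3 F q))) := by
  haveI : Fact (Nat.Prime 2) := ⟨Nat.prime_two⟩
  obtain ⟨n, rfl⟩ : ∃ n, q = 2 ^ n := by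
    obtain ⟨m, -, hm⟩ := FiniteField.card F 2
    obtain ⟨n, -, hn⟩ := (Nat.dvd_prime_pow Nat.prime_two).1
      (show q ∣ 2 ^ (m : ℕ) by rw [← hm, hF]; exact dvd_pow_self q two_ne_zero)
    exact ⟨n, hn⟩
  have hn : 2 ≤ n := by
    by_contra h
    have : 2 ^ n ≤ 2 ^ 1 := Nat.pow_le_pow_right two_pos (by omega)
    omega
  obtain ⟨x₀, hx₀⟩ := trace_surj hF (y := (1 : F)) (one_pow _)
  set e := ModelGU.gRangeEquiv hF hx₀ with he
  have hsh : Recognition.AllShape G (2 ^ n) := by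
    intro x hx
    obtain ⟨i⟩ := hC x (e (ModelGU.y0 hF hx₀)) hx (by rw [e.orderOf_eq, ModelGU.orderOf_y0])
    refine (ModelGU.centShape hF hx₀).congr (i.trans
      { toFun := fun c => ⟨e.symm c, Subgroup.mem_centralizer_singleton_iff.2 (e.injective (by
            rw [map_mul, map_mul, e.apply_symm_apply]
            exact Subgroup.mem_centralizer_singleton_iff.1 c.2))⟩
        invFun := fun c => ⟨e c, Subgroup.mem_centralizer_singleton_iff.2 (by
            rw [← map_mul, ← map_mul, Subgroup.mem_centralizer_singleton_iff.1 c.2])⟩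
        left_inv := fun c => Subtype.ext (e.apply_symm_apply _)
        right_inv := fun c => Subtype.ext (e.symm_apply_apply _)
        map_mul' := fun c d => Subtype.ext (map_mul e.symm _ _) })
  obtain ⟨P⟩ := (inferInstance : Nonempty (Sylow 2 G))
  set H := Subgroup.normalizer ((P : Subgroup G) : Set G) with hHdef
  have hH := isStronglyEmbedded_normalizer_of_ti P (hS P) (Recognition.ti hsh hS P)
  have htr := Recognition.twoRank hn hsh hS
  obtain ⟨t, Q, hyp, hgood⟩ := BenderConsumers23.good hPart hMain hH htr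
    (Recognition.normalCore_eq_bot hsh hS P hH)
  have hset := hyp.setup
  have hst : stabilizer G ((1 : G) : G ⧸ H) = H := MulAction.stabilizer_quotient H
  have hPQ : Q = (P : Subgroup G) := by
    have hQH : Q ≤ H := hst ▸ hset.le
    have h1 : Q ≤ (P : Subgroup G) := by
      rw [← P.3 (IsPGroup.to_sup_of_normal_left' P.2 hgood.1 hQH) le_sup_left]
      exact le_sup_right
    refine Subgroup.eq_of_le_of_card_ge h1 (Nat.le_of_dvd Nat.card_pos ?_)
    have h2 := Subgroup.card_dvd_of_le (show (P : Subgroup G) ≤ stabilizer G ((1 : G) : G ⧸ H) by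
      rw [hst]; exact Subgroup.le_normalizer)
    rw [card_stab hset] at h2
    refine Nat.Coprime.dvd_of_dvd_mul_right ?_ h2
    obtain ⟨k, hk⟩ := IsPGroup.iff_card.1 P.2
    rw [hk]
    exact Nat.Coprime.pow_left _ (Nat.coprime_two_left.2 hset.odd_card)
  obtain ⟨z, hz, hzP, hzc⟩ := Recognition.exists_central hsh hS P
  have hQC : Q ≤ Subgroup.centralizer ({z} : Set G) := fun s hs =>
    Subgroup.mem_centralizer_singleton_iff.2 (hzc s (hPQ ▸ hs))
  have hiff : ∀ y, y ∈ invs G ((1 : G) : G ⧸ H) ↔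
      y ∈ Subgroup.centralizer ({z} : Set G) ∧ orderOf y = 2 := by
    intro y
    constructor
    · rintro ⟨hy1, hy2, hy3⟩
      exact ⟨hQC (involutions_stab_mem_Q hset hy1 hy3), invol_iff.2 ⟨hy3, hy2⟩⟩
    · rintro ⟨hy1, hy2⟩
      exact ⟨hset.le (hPQ ▸ Recognition.mem_of_commute hsh hS P hz hzP hy2
        (Subgroup.mem_centralizer_singleton_iff.1 hy1)), invol_ne_one hy2, invol_mul_self hy2⟩
  obtain ⟨K, iK, iK', hK, ⟨i⟩⟩ := Recognition.iso_of_setup hsh hn hCo hyp hgood.1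
    (by rw [hPQ, Recognition.card_sylow hsh hS]) hz hiff hQC (by
      rw [hst]
      obtain ⟨T, -, hPT, hTn⟩ := Recognition.sylow_eq hsh hS P hz hzP
      rw [hHdef, hPT]
      exact hTn)
  obtain ⟨j⟩ := FieldCongr.nonempty_pgu_congr (n := 3) (q := 2 ^ n) (hK.trans hF.symm)
  exact ⟨i.trans j⟩

end Cfsg.Agent.Lib.RankOneIdent.PSU3
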