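import Cfsg.Agent.Lib.RankOneIdent.PSU3.Chords

/-!
# The unitary case: `om` is constant on the chords stable under `wEl`
-/

set_option autoImplicit false
set_option linter.unusedSectionVars false
set_option linter.style.haveILetI false

namespace Cfsg.Agent.Lib.RankOneIdent.PSU3

open Cfsg.Agent.Lib.RankOne.Involution Cfsg.Agent.Lib.RankOne.Basic MulAction
open Cfsg.Agent.Lib.BenderSuzuki Cfsg.Agent.Lib.Unitary Cfsg.Agent.Lib.U3Sylow

variable {G Ω : Type*} [Group G] [MulAction G Ω] [Finite G] {a : Ω} {t : G} {Q : Subgroup G} {F : Type}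
  [Field F] [Fintype F] {n : ℕ} {c : G → F × F}

namespace UNorm

variable (U : UNorm G Ω a t Q F n c)
include U

theorem pow_qsucc {x : G} (hx : x * x = 1) : x ^ (2 ^ n + 1) = x := by
  obtain ⟨k, hk⟩ : Even (2 ^ n) := Nat.even_pow.2 ⟨even_two, by have := U.toUData.two_le; omega⟩
  rw [pow_succ, hk, ← two_mul, pow_mul, pow_two, hx, one_pow, one_mul]

theorem wEl_moves {x : Q} (hx : U.xC x ≠ 0) : U.wEl • U.pt x ≠ U.pt x := fun h => by
  rw [U.D_pt U.wEl_D] at h
  have := congrArg U.xC (U.pt_injective h)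
  rw [(U.coord_wEl x).1] at this
  exact U.toUData.mU_ne_one ((mul_eq_right₀ hx).1 this)

theorem wEl_fix_B {p : Ω} (hp : p ∈ U.chordB) : U.wEl • p = p := by
  rcases hp with rfl | ⟨x, hx, rfl⟩
  · exact U.wEl_D.1
  · rw [U.D_pt U.wEl_D]
    congr 1
    exact U.ext (by rw [(U.coord_wEl x).1, hx, mul_zero]) (U.coord_wEl x).2

theorem wEl_maps {g : G} (h : U.chord (U.wEl * g) = U.chord g) {p : Ω} (hp : p ∈ U.chord g) :
    U.wEl • p ∈ U.chord g := h ▸ U.smul_mem_chord.2 hp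

/-- A chord missing `a` and stable under `wEl` misses `B`. -/
theorem stable_disjoint {g : G} (ha : a ∉ U.chord g) (hw : U.chord (U.wEl * g) = U.chord g) {p : Ω}
    (hp : p ∈ U.chord g) : p ∉ U.chordB := by
  classical
  intro hpB
  haveI := U.finite_Omega
  set o := orderOf U.mU with ho
  have hoq : o ∣ 2 ^ n + 1 := orderOf_dvd_of_pow_eq_one U.toUData.wEl_spec.2.2.1
  have ho1 : o ≠ 1 := fun e => U.toUData.mU_ne_one (orderOf_eq_one_iff.1 e)
  have hopos : 0 < o := Nat.pos_of_dvd_of_pos hoq (Nat.succ_pos _)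
  set r := o.minFac with hr
  have hrp : r.Prime := Nat.minFac_prime ho1
  have hro : r ∣ o := Nat.minFac_dvd o
  set μ := U.mU ^ (o / r) with hμ
  have hμ1 : μ ≠ 1 := fun e => by
    have hd := Nat.le_of_dvd (Nat.div_pos (Nat.le_of_dvd hopos hro) hrp.pos)
      (orderOf_dvd_of_pow_eq_one e)
    have := Nat.div_lt_self hopos hrp.one_lt
    omega
  set u := U.wEl ^ (o / r) with hu
  have hur : u ^ r = 1 := by
    rw [hu, ← pow_mul, Nat.div_mul_cancel hro]
    refine U.D_ext ((twoStab G a t).pow_mem U.wEl_D _) (twoStab G a t).one_mem fun x => ?_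
    obtain ⟨e1, e2⟩ := U.coord_wEl_pow o x
    rw [show conjQ U.setup (twoStab G a t).one_mem x = x from Subtype.ext (by simp [conjQ_coe])]
    exact U.ext (by rw [e1, pow_orderOf_eq_one, one_mul]) e2
  have hpow : ∀ (i : ℕ), ∀ q ∈ U.chord g, U.wEl ^ i • q ∈ U.chord g := by
    intro i
    induction i with
    | zero => intro q hq; rwa [pow_zero, one_smul]
    | succ i ih => intro q hq; rw [pow_succ', mul_smul]; exact U.wEl_maps hw (ih q hq)
  have hm := card_fixed_modEq (U.chord g) u (hpow _) (fun q hq => by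
    have e : u⁻¹ = u ^ (r - 1) := inv_eq_of_mul_eq_one_left (by
      rw [← pow_succ, Nat.sub_add_cancel hrp.pos, hur])
    rw [e, hu, ← pow_mul]
    exact hpow _ q hq) hrp hur
  have hfix : ∀ q ∈ U.chord g, u • q = q → q = p := by
    intro q hq hqf
    by_contra hne
    have hqa : q ≠ a := fun e => by subst e; exact ha hq
    obtain ⟨x, rfl⟩ := U.exists_pt hqa
    have hx : U.xC x = 0 := by
      by_contra hx
      rw [hu, U.D_pt ((twoStab G a t).pow_mem U.wEl_D _)] at hqf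
      have e := congrArg U.xC (U.pt_injective hqf)
      rw [(U.coord_wEl_pow _ x).1] at e
      exact hμ1 ((mul_eq_right₀ hx).1 e)
    have hB : U.chord g = U.chordB := by
      rw [← U.chord_one]
      exact U.chord_eq hne hq hp (by rw [U.chord_one]; exact U.pt_mem_B.2 hx) (by rw [U.chord_one]; exact hpB)
    exact ha (by rw [hB]; exact Or.inl rfl)
  have hone : Nat.card {q : U.chord g // u • (q : Ω) = q} = 1 := by
    rw [Nat.card_eq_one_iff_unique]
    refine ⟨⟨fun q q' => Subtype.ext (Subtype.ext ((hfix _ q.1.2 q.2).trans (hfix _ q'.1.2 q'.2).symm))⟩,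
      ⟨⟨⟨p, hp⟩, ?_⟩⟩⟩
    have hwp : ∀ i : ℕ, U.wEl ^ i • p = p := by
      intro i
      induction i with
      | zero => rw [pow_zero, one_smul]
      | succ i ih => rw [pow_succ', mul_smul, ih, U.wEl_fix_B hpB]
    exact hwp _
  rw [hone, U.card_chord] at hm
  have h1 : r ∣ 2 ^ n := by
    have := (Nat.modEq_iff_dvd' (Nat.le_add_left 1 _)).1 hm
    rwa [Nat.add_sub_cancel] at this
  exact hrp.one_lt.ne' (Nat.dvd_one.1 ((Nat.dvd_add_right h1).1 (hro.trans hoq)))

/-- Two stable chords with a common point outside `B` are equal. -/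
theorem stable_unique {g g' : G} (hw : U.chord (U.wEl * g) = U.chord g)
    (hw' : U.chord (U.wEl * g') = U.chord g') {x : Q} (hx : U.xC x ≠ 0) (h : U.pt x ∈ U.chord g)
    (h' : U.pt x ∈ U.chord g') : U.chord g = U.chord g' :=
  U.chord_eq (U.wEl_moves hx).symm h (U.wEl_maps hw h) h' (U.wEl_maps hw' h')

theorem exists_stable_through {y : Q} (hy : U.xC y ≠ 0) :
    ∃ g : G, U.pt y ∈ U.chord g ∧ a ∉ U.chord g ∧ U.chord (U.wEl * g) = U.chord g := by
  obtain ⟨hb, ha⟩ := U.tx_spec U.xC_base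
  obtain ⟨z, hz⟩ := U.exists_stable hb ha
  set g₁ := (z : G) * (t * (U.base : G)) with hg₁
  have ha₁ : a ∉ U.chord g₁ := fun h => ha ((U.mem_smul_chord (Q_fix U.setup z.2)).1 h)
  have hp₁ : U.pt z ∈ U.chord g₁ := U.smul_mem_chord.2 hb
  have hz0 : U.xC z ≠ 0 := U.off_iff.1 (U.stable_disjoint ha₁ hz hp₁)
  obtain ⟨g, hg, hgy⟩ := (U.existsUnique_move hz0 hy).exists
  refine ⟨g * g₁, (U.mem_smul_chord hgy).2 hp₁, fun h => ?_, ?_⟩
  · have h' := (U.mem_smul_chord (g := g₁) (h := g) (p := g⁻¹ • a) (smul_inv_smul g a)).1 h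
    exact U.stable_disjoint ha₁ hz h' ((U.L₀_smul_B (inv_mem hg) a).2 (Or.inl rfl))
  · rw [← mul_assoc, U.wEl_comm_L₀ hg, mul_assoc]
    exact U.chord_mul_eq hz g

/-- The stabiliser in `L₀` of a chord. -/
def chordStab (_U : UNorm G Ω a t Q F n c) (g₀ : G) : Subgroup G where
  carrier := {g | g ∈ _U.L₀ ∧ _U.chord (g * g₀) = _U.chord g₀}
  one_mem' := ⟨one_mem _, by rw [one_mul]⟩
  mul_mem' := fun {g h} hg hh => ⟨mul_mem hg.1 hh.1, by
    rw [mul_assoc, _U.chord_mul_eq hh.2, hg.2]⟩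
  inv_mem' := fun {g} hg => ⟨inv_mem hg.1, by
    have := _U.chord_mul_eq hg.2 g⁻¹
    rwa [inv_mul_cancel_left, eq_comm] at this⟩

/-- `om` is constant on the stable chord through a point outside `B`. -/
theorem exists_om_chord {y : Q} (hy : U.xC y ≠ 0) :
    ∃ g : G, U.pt y ∈ U.chord g ∧ a ∉ U.chord g ∧ U.chord (U.wEl * g) = U.chord g ∧
      ∀ p ∈ U.chord g, ∃ x : Q, U.pt x = p ∧ U.xC x ≠ 0 ∧ U.om x = U.om y := by
  classical
  obtain ⟨g₀, hy₀, ha₀, hw₀⟩ := U.exists_stable_through hy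
  haveI := U.finite_Omega
  refine ⟨g₀, hy₀, ha₀, hw₀, ?_⟩
  have hoff : ∀ p ∈ U.chord g₀, ∃ x : Q, U.pt x = p ∧ U.xC x ≠ 0 := by
    intro p hp
    have hB := U.stable_disjoint ha₀ hw₀ hp
    obtain ⟨x, hx⟩ := U.exists_pt (fun e => hB (Or.inl e))
    exact ⟨x, hx, U.off_iff.1 (by rw [hx]; exact hB)⟩
  have hmove : ∀ {g : G}, g ∈ U.L₀ → ∀ x : Q, U.xC x ≠ 0 → U.pt x ∈ U.chord g₀ →
      g • U.pt x ∈ U.chord g₀ → U.chord (g * g₀) = U.chord g₀ := by
    intro g hg x hx hxc hgx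
    obtain ⟨x', hx', hgx'⟩ := U.smul_off hg hx
    refine U.stable_unique ?_ hw₀ hx' ((U.mem_smul_chord hgx').2 hxc) (hgx' ▸ hgx)
    rw [← mul_assoc, U.wEl_comm_L₀ hg, mul_assoc]
    exact U.chord_mul_eq hw₀ g
  let S := U.chordStab g₀
  -- the stabiliser is regular on the chord
  have hSmaps : ∀ s : S, (s : G) • U.pt y ∈ U.chord g₀ := fun s => by
    rw [← s.2.2]; exact U.smul_mem_chord.2 hy₀
  let f : S → U.chord g₀ := fun s => ⟨(s : G) • U.pt y, hSmaps s⟩
  have hf : Function.Bijective f := by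
    refine ⟨fun s s' h => Subtype.ext ?_, fun p => ?_⟩
    · have e : (s : G) • U.pt y = (s' : G) • U.pt y := congrArg Subtype.val h
      obtain ⟨x', hx', hsx⟩ := U.smul_off s.2.1 hy
      exact (U.existsUnique_move hy hx').unique ⟨s.2.1, hsx⟩ ⟨s'.2.1, e.symm.trans hsx⟩
    · obtain ⟨x, hx, hx0⟩ := hoff p p.2
      obtain ⟨g, hg, hgx⟩ := (U.existsUnique_move hy hx0).exists
      exact ⟨⟨g, hg, hmove hg y hy hy₀ (by rw [hgx, hx]; exact p.2)⟩, Subtype.ext (hgx.trans hx)⟩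
  have hScard : Nat.card S = 2 ^ n + 1 := by rw [Nat.card_eq_of_bijective f hf, U.card_chord]
  have hodd : Odd (Nat.card S) := by
    rw [hScard]
    exact Even.add_one (Nat.even_pow.2 ⟨even_two, by have := U.toUData.two_le; omega⟩)
  -- no fixed points on `B`
  have hnofix : ∀ s : S, s ≠ 1 → ∀ p ∈ U.chordB, (s : G) • p ≠ p := by
    intro s hs p hp hfix
    obtain ⟨g, hg, hgp⟩ := U.exists_L₀_to_a hp
    set s' := g * (s : G) * g⁻¹ with hs'
    have hsa : s' • a = a := by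
      rw [hs', mul_smul, mul_smul, inv_smul_eq_iff.2 hgp.symm, hfix, hgp]
    have hspow : s' ^ (2 ^ n + 1) = 1 := by
      have e : (s : G) ^ (2 ^ n + 1) = 1 := by
        rw [← hScard]
        exact congrArg Subtype.val (pow_card_eq_one' (x := s))
      rw [hs', conj_pow, e, mul_one, mul_inv_cancel]
    rcases U.isForm_of_mem (mul_mem (mul_mem hg s.2.1) (inv_mem hg)) with
      ⟨z, l, hz, hl, hl0, he⟩ | ⟨z, l, z', hz, hl, hl0, hz', he⟩
    · rw [← hs'] at he
      obtain ⟨u, hu⟩ := U.QD_pow (U.kEl_D l) (U.zEl z) (2 ^ n + 1)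
      rw [← he, hspow, U.kEl_pow hl hl0] at hu
      have hu1 : u = 1 := by
        refine Subtype.ext (Q_free U.setup u.2 (b_ne U.setup) ?_)
        have e := congrArg (fun g : G => g • (t • a)) hu
        simp only [one_smul, mul_smul] at e
        rw [show U.kEl (l ^ (2 ^ n + 1)) • (t • a) = t • a from (U.kEl_D _).2] at e
        exact e.symm
      rw [hu1, Subgroup.coe_one, one_mul, ← U.kEl_one] at hu
      have hl1 : l = 1 := by
        have e := U.kEl_injective (one_pow _) one_ne_zero (by rw [← pow_mul, mul_comm, pow_mul, hl])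
          (pow_ne_zero _ hl0) hu
        rw [pow_succ, hl, ← sq] at e
        exact U.eq_one_of_sq e.symm
      rw [hl1, U.kEl_one, mul_one] at he
      have hzz : (U.zEl z : G) * U.zEl z = 1 :=
        congrArg Subtype.val (U.mul_self_eq_one_iff.2 (U.xC_zEl z))
      rw [he, U.pow_qsucc hzz] at hspow
      rw [hspow] at he
      exact hs (Subtype.ext (conj_eq_one_iff.1 (hs'.symm.trans he)))
    · rw [← hs'] at he
      rw [he, U.form_move] at hsa
      exact U.pt_ne _ hsa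
  -- the action on `GF(q²) - GF(q)`
  let X := {x : F // U.NF x}
  letI : MulAction S X :=
    { smul := fun s x => ⟨U.mob s x, U.mob_NF s.2.1 x.2⟩
      one_smul := fun x => Subtype.ext (U.mob_one x.2)
      mul_smul := fun s s' x => Subtype.ext (U.mob_mul s.2.1 s'.2.1 x.2) }
  have hsmul : ∀ (s : S) (x : X), ((s • x : X) : F) = U.mob s x := fun _ _ => rfl
  let bar : X → X := fun x => ⟨(x : F) ^ 2 ^ n, fun h => x.2 (by rw [U.bar_bar] at h; exact h.symm)⟩
  obtain ⟨k, hk, hky⟩ := U.exists_from_base hy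
  set u := k * U.uBase * k⁻¹ with hu
  have huy : u • U.pt y = U.wEl • U.pt y := by
    rw [hu, ← hky, mul_smul, mul_smul, inv_smul_smul, U.uBase_spec.2, ← mul_smul, ← U.wEl_comm_L₀ hk,
      mul_smul]
  have huL : u ∈ U.L₀ := mul_mem (mul_mem hk U.uBase_spec.1) (inv_mem hk)
  have huS : u ∈ S := ⟨huL, hmove huL y hy hy₀ (by rw [huy]; exact U.wEl_maps hw₀ hy₀)⟩
  have hu1 : u ≠ 1 := fun e => U.wEl_moves hy (by rw [← huy, e, one_smul])
  have hufix : U.mob u (U.om y) = U.om y := by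
    obtain ⟨x', -, hx'⟩ := U.smul_off huL hy
    have hx'' : x' = conjQ U.setup U.wEl_D y := U.pt_injective (by rw [← hx', huy, U.D_pt U.wEl_D])
    rw [← U.om_smul huL hy hx', hx'', U.om_wEl hy]
  have hall := all_fix_of_pairs (S := S) bar (fun x => Subtype.ext (U.bar_bar (x : F)))
    (fun x h => x.2 (congrArg Subtype.val h))
    (fun s x => Subtype.ext (U.mob_bar s.2.1 x.2)) hodd
    (fun s hs => by
      obtain ⟨p, hp, hfix⟩ := U.mob_fix s.2.1 (hnofix s hs)
      refine ⟨⟨p, hp⟩, fun x => ?_⟩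
      rw [Subtype.ext_iff, hsmul, hfix x x.2, Subtype.ext_iff, Subtype.ext_iff])
    (s₀ := ⟨u, huS⟩) (fun e => hu1 (congrArg Subtype.val e))
    (p₀ := ⟨U.om y, U.om_NF hy⟩) (Subtype.ext hufix)
  intro p hp
  obtain ⟨x, hx, hx0⟩ := hoff p hp
  obtain ⟨s, hs⟩ := hf.2 ⟨p, hp⟩
  refine ⟨x, hx, hx0, ?_⟩
  have e : (s : G) • U.pt y = U.pt x := (congrArg Subtype.val hs).trans hx.symm
  rw [U.om_smul s.2.1 hy e]
  exact congrArg Subtype.val (hall s)

end UNorm

end Cfsg.Agent.Lib.RankOneIdent.PSU3
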