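import Cfsg.Agent.Lib.RankOneIdent.PSU3.Identify

/-!
# The unitary case: `V = C_D(t)` acts by norm-one dilatations
-/

set_option autoImplicit false
set_option linter.unusedSectionVars false
set_option linter.style.haveILetI false

namespace Cfsg.Agent.Lib.RankOneIdent.PSU3

open Cfsg.Agent.Lib.RankOne.Involution Cfsg.Agent.Lib.RankOne.Basic MulAction
open Cfsg.Agent.Lib.BenderSuzuki Cfsg.Agent.Lib.Unitary Cfsg.Agent.Lib.U3Sylow

variable {G Ω : Type*} [Group G] [MulAction G Ω] [Finite G] {a : Ω} {t : G} {Q : Subgroup G} {F : Type}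
  [Field F] [Fintype F] {n : ℕ} {c : G → F × F}

theorem eq_zero_of_fixed_pow (hF : Fintype.card F = (2 ^ n) ^ 2) {j : ℕ} (hj : j < n)
    (h : ∀ z : F, z ^ 2 ^ n = z → z ^ 2 ^ j = z) : j = 0 := by
  classical
  by_contra hj0
  have h1 : 1 < 2 ^ j := Nat.one_lt_two_pow hj0
  have hne := FiniteField.X_pow_card_sub_X_ne_zero F h1
  have hsub : (Finset.univ.filter fun z : F => z ^ 2 ^ n = z) ⊆
      (Polynomial.X ^ 2 ^ j - Polynomial.X : Polynomial F).roots.toFinset := fun z hz => by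
    rw [Finset.mem_filter] at hz
    rw [Multiset.mem_toFinset, Polynomial.mem_roots hne, Polynomial.IsRoot.def, Polynomial.eval_sub,
      Polynomial.eval_pow, Polynomial.eval_X, h z hz.2, sub_self]
  have hle := ((Finset.card_le_card hsub).trans (Multiset.toFinset_card_le _)).trans
    (Polynomial.card_roots' _)
  rw [FiniteField.X_pow_card_sub_X_natDegree_eq F h1, ← Fintype.card_subtype,
    ← Nat.card_eq_fintype_card, card_fixed hF] at hle
  exact absurd hle (not_le.2 (Nat.pow_lt_pow_right one_lt_two hj))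

namespace UNorm

variable (U : UNorm G Ω a t Q F n c)
include U

theorem t_comm {v : G} (hv : v ∈ vGrp a t) : t * v * t = v := by
  have h := ((centralizer_t_iff U.setup).1 hv).2
  rwa [t_inv U.setup] at h

theorem fmap_comm {v : G} (hv : v ∈ vGrp a t) (x : Q) :
    fmap U.setup (conjQ U.setup hv.1 x) = conjQ U.setup hv.1 (fmap U.setup x) := by
  rw [fmap_conjQ]
  exact Subtype.ext (by rw [conjQ_coe, conjQ_coe, U.t_comm hv])

theorem xC_conj_central {d : G} (hd : d ∈ twoStab G a t) {x : Q} (hx : U.xC x = 0) :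
    U.xC (conjQ U.setup hd x) = 0 := by
  rw [← U.toUData.mul_self_eq_one_iff] at hx ⊢
  have hx' : (x : G) * x = 1 := congrArg Subtype.val hx
  refine Subtype.ext ?_
  show d * x * d⁻¹ * (d * x * d⁻¹) = 1
  calc d * x * d⁻¹ * (d * x * d⁻¹) = d * ((x : G) * x) * d⁻¹ := by group
    _ = 1 := by rw [hx', mul_one, mul_inv_cancel]

/-- `V` fixes `(0, 1)`. -/
theorem v_fix_one {v : G} (hv : v ∈ vGrp a t) :
    conjQ U.setup hv.1 (U.zEl 1) = U.zEl 1 := by
  have h1 : (1 : F) ^ 2 ^ n = 1 := one_pow _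
  set w := conjQ U.setup hv.1 (U.zEl 1) with hw
  have hx : U.xC w = 0 := U.xC_conj_central _ (U.xC_zEl 1)
  have hfw : fmap U.setup w = w := by rw [hw, U.fmap_comm hv, U.fmap_zEl h1 one_ne_zero, inv_one]
  have hw0 : U.yC w ≠ 0 :=
    U.toUData.yC_ne_zero (conjQ_ne_one U.setup _ (U.zEl_ne_one h1 one_ne_zero))
  have hwf := U.toUData.yC_fixed hx
  have hwz := U.fmap_zEl hwf hw0
  rw [U.zEl_yC hx, hfw] at hwz
  have hsq : U.yC w ^ 2 = 1 := by
    have := congrArg U.yC hwz
    rw [U.yC_zEl (by rw [inv_pow, hwf])] at this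
    rw [sq]
    nth_rw 1 [this]
    exact inv_mul_cancel₀ hw0
  exact U.ext (hx.trans (U.xC_zEl 1).symm) ((U.eq_one_of_sq hsq).trans (U.yC_zEl h1).symm)

/-- `C_D` of one involution in `Q` lies in `V`. -/
theorem mem_vGrp_of_fix {d : G} (hd : d ∈ twoStab G a t)
    (h : conjQ U.setup hd (U.zEl 1) = U.zEl 1) : d ∈ vGrp a t := by
  have h1 : (1 : F) ^ 2 ^ n = 1 := one_pow _
  obtain ⟨v, hv, k, hk, hvt, rfl⟩ := exists_CK U.setup hd
  have hv' : v ∈ vGrp a t := (centralizer_t_iff U.setup).2 ⟨hv, hvt⟩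
  have hvfix := congrArg Subtype.val (U.v_fix_one hv')
  have hdfix := congrArg Subtype.val h
  rw [conjQ_coe] at hvfix hdfix
  have hz : (U.zEl 1 : G) ∈ invs G a := U.toUData.mem_invs_iff.2 ⟨U.xC_zEl 1, U.zEl_ne_one h1 one_ne_zero⟩
  have hkfix : k * (U.zEl 1 : G) * k⁻¹ = U.zEl 1 := by
    calc k * (U.zEl 1 : G) * k⁻¹ = v⁻¹ * (v * k * (U.zEl 1 : G) * (v * k)⁻¹) * v := by group
      _ = v⁻¹ * (U.zEl 1 : G) * v := by rw [hdfix]
      _ = v⁻¹ * (v * (U.zEl 1 : G) * v⁻¹) * v := by rw [hvfix]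
      _ = _ := by group
  have hk1 : k = 1 := (existsUnique_K U.setup hz hz).unique ⟨hk, hkfix⟩
    ⟨⟨(twoStab G a t).one_mem, by simp⟩, by simp⟩
  rw [hk1, mul_one]
  exact hv'

/-- An element of `V` multiplying first coordinates by `β` fixes second coordinates. -/
theorem yC_of_xC {v : G} (hv : v ∈ vGrp a t) {β : F} (hβ : β ≠ 0)
    (hX : ∀ x : Q, U.xC (conjQ U.setup hv.1 x) = β * U.xC x)
    (hZ : ∀ x : Q, U.xC x = 0 → conjQ U.setup hv.1 x = x) (x : Q) :
    U.yC (conjQ U.setup hv.1 x) = U.yC x := by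
  by_cases hx : U.xC x = 0
  · rw [hZ x hx]
  have hx1 : x ≠ 1 := U.ne_one_of_xC hx
  have h := (U.fmap_coords (conjQ_ne_one U.setup hv.1 hx1)).1
  rw [U.fmap_comm hv, hX, hX, (U.fmap_coords hx1).1] at h
  have hy := U.toUData.yC_ne_zero hx1
  have hy' := U.toUData.yC_ne_zero (conjQ_ne_one U.setup hv.1 hx1)
  field_simp at h
  exact h

theorem eq_one_of_coords {v : G} (hv : v ∈ twoStab G a t)
    (h : ∀ x : Q, conjQ U.setup hv x = x) : v = 1 := by
  haveI := U.faithful
  refine FaithfulSMul.eq_of_smul_eq_smul (α := Ω) fun p => ?_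
  obtain ⟨o, rfl⟩ := (pointEquiv U.setup).surjective p
  rw [one_smul]
  rcases o with _ | x
  · exact (mem_twoStab.1 hv).1
  · rw [pointEquiv_some, ← conjQ_smul U.setup hv, h]

/-- If `V` centralises the involutions of `Q`, it acts by norm-one dilatations. -/
theorem exists_beta {v : G} (hv : v ∈ vGrp a t)
    (hV : ∀ w, (hw : w ∈ vGrp a t) → ∀ x : Q, U.xC x = 0 → conjQ U.setup hw.1 x = x) :
    ∃ β : F, β * β ^ 2 ^ n = 1 ∧ ∀ x : Q,
      U.xC (conjQ U.setup hv.1 x) = β * U.xC x ∧ U.yC (conjQ U.setup hv.1 x) = U.yC x := by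
  have hwd : ∀ x x' : Q, U.xC x = U.xC x' →
      U.xC (conjQ U.setup hv.1 x) = U.xC (conjQ U.setup hv.1 x') := by
    intro x x' h
    have hz : U.xC (x⁻¹ * x') = 0 := by rw [U.xC_mul, U.xC_inv, h, U.toUData.add_self']
    have e : conjQ U.setup hv.1 x' = conjQ U.setup hv.1 x * conjQ U.setup hv.1 (x⁻¹ * x') :=
      Subtype.ext (by simp [conjQ_coe, mul_assoc])
    rw [e, hV v hv _ hz, U.xC_mul, hz, add_zero]
  choose el hel using U.toUData.exists_above
  have hadd : ∀ p r, U.xC (conjQ U.setup hv.1 (el (p + r))) =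
      U.xC (conjQ U.setup hv.1 (el p)) + U.xC (conjQ U.setup hv.1 (el r)) := fun p r => by
    rw [hwd (el (p + r)) (el p * el r) (by rw [U.xC_mul, hel, hel, hel]),
      show conjQ U.setup hv.1 (el p * el r) = conjQ U.setup hv.1 (el p) * conjQ U.setup hv.1 (el r) from
        Subtype.ext (by simp [conjQ_coe, mul_assoc]), U.xC_mul]
  let A : F →+ F := AddMonoidHom.mk' (fun p => U.xC (conjQ U.setup hv.1 (el p))) hadd
  have hA : ∀ x : Q, U.xC (conjQ U.setup hv.1 x) = A (U.xC x) := fun x => hwd x _ (hel _).symm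
  have hNA : ∀ p : F, A p * A p ^ 2 ^ n = p * p ^ 2 ^ n := by
    intro p
    set x := el p with hxdef
    have hxx : U.xC (x * x) = 0 := by rw [U.xC_mul, U.toUData.add_self']
    have e : conjQ U.setup hv.1 (x * x) = conjQ U.setup hv.1 x * conjQ U.setup hv.1 x :=
      Subtype.ext (by simp [conjQ_coe, mul_assoc])
    have h := congrArg U.yC ((hV v hv _ hxx).symm.trans e)
    rw [U.yC_mul, U.yC_mul, hA, U.toUData.add_self', U.toUData.add_self', zero_add, zero_add,
      hxdef, hel] at h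
    linear_combination -h
  set β := A 1 with hβdef
  have hβ : β * β ^ 2 ^ n = 1 := by rw [hβdef, hNA, one_pow, one_mul]
  have hβ0 := left_ne_zero_of_mul_eq_one hβ
  obtain ⟨i, hi, hAi⟩ := semilinear U.hF ((AddMonoidHom.mulLeft β⁻¹).comp A) (AddMonoidHom.id F)
    (show β⁻¹ * A 1 = 1 from inv_mul_cancel₀ hβ0) (fun p => by
      show p * p ^ 2 ^ n = β⁻¹ * A p * (β⁻¹ * A p) ^ 2 ^ n
      rw [mul_pow, mul_mul_mul_comm, hNA, inv_pow, ← mul_inv, hβ, inv_one, one_mul])
  have hA' : ∀ p, A p = β * p ^ 2 ^ i := fun p => by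
    have := hAi p
    simp only [AddMonoidHom.comp_apply, AddMonoidHom.coe_mulLeft] at this
    rw [← this, mul_inv_cancel_left₀ hβ0]
  have hfix : ∀ z : F, z ^ 2 ^ n = z → z ^ 2 ^ i = z := by
    intro z hz
    obtain ⟨p, rfl⟩ := norm_surj U.hF hz
    have h := hNA p
    rw [hA', mul_pow, mul_mul_mul_comm, hβ, one_mul] at h
    rw [mul_pow, ← pow_mul, mul_comm (2 ^ n), pow_mul]
    exact h
  rcases Nat.lt_or_ge i n with hin | hin
  · have hi0 := eq_zero_of_fixed_pow U.hF hin hfix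
    subst hi0
    have hX : ∀ x : Q, U.xC (conjQ U.setup hv.1 x) = β * U.xC x := fun x => by
      rw [hA, hA', pow_zero, pow_one]
    exact ⟨β, hβ, fun x => ⟨hX x, U.yC_of_xC hv hβ0 hX (hV v hv) x⟩⟩
  · exfalso
    have hi0 : i - n = 0 := eq_zero_of_fixed_pow U.hF (by omega) fun z hz => by
      have h := hfix z hz
      rwa [show i = n + (i - n) by omega, pow_add, pow_mul, hz] at h
    obtain rfl : i = n := by omega
    have hv2 : v * v ∈ vGrp a t := (vGrp a t).mul_mem hv hv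
    have e2 : ∀ x : Q, conjQ U.setup hv2.1 x = conjQ U.setup hv.1 (conjQ U.setup hv.1 x) := fun x =>
      Subtype.ext (by simp [conjQ_coe, mul_assoc])
    have hX : ∀ x : Q, U.xC (conjQ U.setup hv2.1 x) = 1 * U.xC x := fun x => by
      rw [e2, hA, hA, hA', hA', mul_pow, U.toUData.bar_bar, ← mul_assoc, hβ]
    have h1 : v * v = 1 := U.eq_one_of_coords hv2.1 fun x => U.ext ((hX x).trans (one_mul _))
      (U.yC_of_xC hv2 one_ne_zero hX (hV _ hv2) x)
    have hv1 : v = 1 := Cfsg.Agent.Lib.RankOne.Involution.eq_one_of_sq U.setup.odd_card hv.1 h1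
    obtain ⟨p, hp⟩ := exists_not_fixed U.hF
    have := hA (el p)
    rw [hA', hel, show conjQ U.setup hv.1 (el p) = el p from Subtype.ext (by simp [conjQ_coe, hv1]),
      hel] at this
    have hb1 : β = 1 := by
      rw [hβdef]
      show U.xC (conjQ U.setup hv.1 (el 1)) = 1
      rw [show conjQ U.setup hv.1 (el 1) = el 1 from Subtype.ext (by simp [conjQ_coe, hv1]), hel]
    rw [hb1, one_mul] at this
    exact hp this.symm

end UNorm

end Cfsg.Agent.Lib.RankOneIdent.PSU3
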